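import Cfsg.Agent.Lib.C6Orth.Model
import Cfsg.Agent.Lib.C6Gen.Cent
import Cfsg.Agent.EqLemmas
/-!
# The two halves of the standard model

* `sn x z`   : the vector with last coordinate `z`
* `jd`       : the two diagonal blocks on `𝔽₂^{k+1} = 𝔽₂^k ⊔ 𝔽₂^k`
* `topFrame` : the frame of the sign of the last coordinate; `topFrame_diag`
* `jd_self_mem_omg`, `jd_one_mem_omg`, `exchange`
-/

set_option autoImplicit false
set_option linter.unusedSectionVars false

namespace Cfsg.Agent.C6Orth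

open Matrix
open Cfsg.Agent.C6Gen

variable {k : ℕ} {F : Type*} [Field F]

/-- Append a last coordinate. -/
def sn (x : Bits k) (z : ZMod 2) : Bits (k + 1) := Fin.snoc x z

@[simp] theorem sn_last (x : Bits k) (z : ZMod 2) : sn x z (Fin.last k) = z := Fin.snoc_last ..

@[simp] theorem sn_cast (x : Bits k) (z : ZMod 2) (i : Fin k) : sn x z i.castSucc = x i :=
  Fin.snoc_castSucc ..

theorem sn_add (x y : Bits k) (z w : ZMod 2) : sn x z + sn y w = sn (x + y) (z + w) := by
  funext i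
  induction i using Fin.lastCases with
  | last => simp
  | cast i => simp

theorem sn_zero : sn (0 : Bits k) 0 = 0 := by
  funext i
  induction i using Fin.lastCases with
  | last => simp
  | cast i => simp

theorem sn_dot (b x : Bits k) (c z : ZMod 2) : sn b c ⬝ᵥ sn x z = b ⬝ᵥ x + c * z := by
  simp [dotProduct, Fin.sum_univ_castSucc]

theorem sn_inj {x y : Bits k} {z w : ZMod 2} (h : sn x z = sn y w) : x = y ∧ z = w :=
  ⟨funext fun i => by simpa using congrFun h i.castSucc, by simpa using congrFun h (Fin.last k)⟩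

theorem sn_eq_iff {x y : Bits k} {z w : ZMod 2} : sn x z = sn y w ↔ x = y ∧ z = w :=
  ⟨sn_inj, fun ⟨h, h'⟩ => h ▸ h' ▸ rfl⟩

theorem exists_sn (x : Bits (k + 1)) : ∃ (y : Bits k) (z : ZMod 2), x = sn y z :=
  ⟨Fin.init x, x (Fin.last k), (Fin.snoc_init_self x).symm⟩

theorem sn_cases (x : Bits (k + 1)) : ∃ y : Bits k, x = sn y 0 ∨ x = sn y 1 := by
  obtain ⟨y, z, rfl⟩ := exists_sn x
  rcases zmod2 z with rfl | rfl
  exacts [⟨y, Or.inl rfl⟩, ⟨y, Or.inr rfl⟩]

variable (k) in
/-- The halves. -/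
def split : Bits k ⊕ Bits k ≃ Bits (k + 1) where
  toFun := Sum.elim (fun x => sn x 0) (fun x => sn x 1)
  invFun x := if x (Fin.last k) = 0 then Sum.inl (Fin.init x) else Sum.inr (Fin.init x)
  left_inv x := by
    rcases x with x | x <;> simp [sn, Fin.init_snoc]
  right_inv x := by
    obtain ⟨y, rfl | rfl⟩ := sn_cases x <;> simp [sn, Fin.init_snoc]

theorem split_inl (x : Bits k) : split k (Sum.inl x) = sn x 0 := rfl

theorem split_inr (x : Bits k) : split k (Sum.inr x) = sn x 1 := rfl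

theorem split_symm_zero (x : Bits k) : (split k).symm (sn x 0) = Sum.inl x :=
  (split k).symm_apply_apply (Sum.inl x)

theorem split_symm_one (x : Bits k) : (split k).symm (sn x 1) = Sum.inr x :=
  (split k).symm_apply_apply (Sum.inr x)

/-- The diagonal blocks. -/
noncomputable def jd : GL (Bits k) F × GL (Bits k) F →* GL (Bits (k + 1)) F := blkGL (split k)

theorem jd_apply (a b : GL (Bits k) F) (x y : Bits k ⊕ Bits k) :
    ((jd (a, b) : GL (Bits (k + 1)) F) : Matrix (Bits (k + 1)) (Bits (k + 1)) F) (split k x) (split k y) =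
      Matrix.fromBlocks (a : Matrix (Bits k) (Bits k) F) 0 0 (b : Matrix (Bits k) (Bits k) F) x y := by
  rw [jd, blkGL_val]
  simp [blocks]

theorem jd_mul (a b c d : GL (Bits k) F) : jd (a, b) * jd (c, d) = jd (a * c, b * d) := by
  rw [← map_mul]; rfl

theorem jd_inv (a b : GL (Bits k) F) : (jd (a, b))⁻¹ = jd (a⁻¹, b⁻¹) := by rw [← map_inv]; rfl

theorem jd_one : jd ((1 : GL (Bits k) F), (1 : GL (Bits k) F)) = 1 := map_one _

theorem jd_inj {a b c d : GL (Bits k) F} (h : jd (a, b) = jd (c, d)) : a = c ∧ b = d := by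
  obtain ⟨h1, -, -, h4⟩ := blocks_inj (congrArg Units.val h : _ = _)
  exact ⟨Units.ext h1, Units.ext h4⟩

theorem jd_mg (π τ : Equiv.Perm (Bits k)) (s t : Bits k → ZMod 2) :
    jd ((mg π s : GL (Bits k) F), mg τ t) =
      mg ((split k).permCongr (Equiv.sumCongr π τ)) (fun x => Sum.elim s t ((split k).symm x)) := by
  refine Units.ext (Matrix.ext fun x y => ?_)
  obtain ⟨x, rfl⟩ := (split k).surjective x
  obtain ⟨y, rfl⟩ := (split k).surjective y
  rw [jd_apply, mg_apply, Equiv.permCongr_apply, Equiv.symm_apply_apply]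
  simp only [(split k).injective.eq_iff]
  rcases x with x | x <;> rcases y with y | y <;> simp [mg_apply]

theorem jd_elt (a b : Bits k) (e c : ZMod 2) :
    jd ((elt a b e : GL (Bits k) F), elt a b (e + c)) = elt (sn a 0) (sn b c) e := by
  rw [elt, elt, jd_mg, elt]
  congr 1
  · refine Equiv.ext fun x => ?_
    obtain ⟨y, rfl | rfl⟩ := sn_cases x
    · rw [Equiv.permCongr_apply, split_symm_zero, Equiv.coe_addRight]
      show split k (Sum.inl (y + a)) = sn y 0 + sn a 0
      rw [split_inl, sn_add, add_zero]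
    · rw [Equiv.permCongr_apply, split_symm_one, Equiv.coe_addRight]
      show split k (Sum.inr (y + a)) = sn y 1 + sn a 0
      rw [split_inr, sn_add, add_zero]
  · funext x
    obtain ⟨y, rfl | rfl⟩ := sn_cases x
    · rw [split_symm_zero, Sum.elim_inl, sn_dot, mul_zero, add_zero]
    · rw [split_symm_one, Sum.elim_inr, sn_dot, mul_one]; ring

variable (k F) in
/-- The sign of the last coordinate. -/
def lastS : GL (Bits (k + 1)) F := elt 0 (sn 0 1) 0

variable (k F) in
/-- The translation in the last coordinate. -/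
def lastT : GL (Bits (k + 1)) F := elt (sn 0 1) 0 0

theorem lastS_eq : lastS k F = jd ((1 : GL (Bits k) F), -1) := by
  rw [neg_one_elt, ← elt_zero, show (1 : ZMod 2) = 0 + 1 from (zero_add 1).symm, jd_elt, lastS, sn_zero]

theorem lastT_val : ((lastT k F : GL (Bits (k + 1)) F) : Matrix (Bits (k + 1)) (Bits (k + 1)) F) =
    blocks (split k) 0 1 1 0 := by
  refine Matrix.ext fun x y => ?_
  obtain ⟨x, rfl⟩ := (split k).surjective x
  obtain ⟨y, rfl⟩ := (split k).surjective y
  simp only [blocks, Matrix.coe_reindexAlgEquiv, Matrix.reindex_apply, Matrix.submatrix_apply,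
    Equiv.symm_apply_apply, lastT, elt, mg_apply, Equiv.coe_addRight, zero_dotProduct, add_zero, sc_zero]
  rcases x with x | x <;> rcases y with y | y <;>
    simp [split_inl, split_inr, sn_add, sn_eq_iff, Matrix.one_apply, CharTwo.add_self_eq_zero]

variable (k) in
/-- The frame of the last coordinate. -/
noncomputable def topFrame (_h2 : (2 : F) ≠ 0) : Frame (split k) (R0 (k + 1) F) (lastS k F) where
  P := 1
  v := lastT k F
  v_mem := elt_mem _ _ _
  v_sq := by rw [lastT, elt_sq, zero_dotProduct, elt_zero]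
  r_eq := by
    rw [Units.val_one, mul_one, one_mul, lastS_eq, jd, blkGL_val]
    rfl
  v_eq := by rw [Units.val_one, mul_one, one_mul, lastT_val]

theorem topFrame_j (h2 : (2 : F) ≠ 0) (z : GL (Bits k) F × GL (Bits k) F) : (topFrame k h2).j z = jd z := by
  show MulAut.conj (1 : GL (Bits (k + 1)) F) (blkGL (split k) z) = _
  rw [map_one]; rfl

theorem topFrame_diag (h2 : (2 : F) ≠ 0) : (topFrame k h2).diag = R0 k F := by
  have hle : R0 k F ≤ (topFrame k h2).diag := by
    rintro _ ⟨a, b, e, rfl⟩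
    rw [Frame.mem_diag, topFrame_j]
    have h := jd_elt (F := F) a b e 0
    rw [add_zero] at h
    rw [h]; exact elt_mem _ _ _
  have hcard := (topFrame k h2).card_diag (R0_sys h2) (elt_mem _ _ _)
  have := ((topFrame k h2).diag_sys (R0_sys h2) (elt_mem _ _ _)).finiteR
  exact (Subgroup.eq_of_le_of_card_ge hle (by rw [hcard, (R0_sys h2).card])).symm

theorem lastT_conj (h2 : (2 : F) ≠ 0) (a b : GL (Bits k) F) :
    lastT k F * jd (a, b) * (lastT k F)⁻¹ = jd (b, a) := by
  have h := (topFrame k h2).v_conj a b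
  rwa [topFrame_j, topFrame_j] at h

theorem exists_jd (h2 : (2 : F) ≠ 0) {g : GL (Bits (k + 1)) F} (hg : g * lastS k F = lastS k F * g) :
    ∃ a b, g = jd (a, b) := by
  obtain ⟨a, b, h⟩ := (topFrame k h2).exists_j h2 hg
  exact ⟨a, b, by rw [h, topFrame_j]⟩

theorem blocks_transpose {κ ι : Type} [Fintype ι] [DecidableEq ι] [Fintype κ] [DecidableEq κ]
    (e : κ ⊕ κ ≃ ι) (A D : Matrix κ κ F) : (blocks e A 0 0 D)ᵀ = blocks e Aᵀ 0 0 Dᵀ := by
  rw [blocks, blocks, Matrix.coe_reindexAlgEquiv, Matrix.transpose_reindex,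
    Matrix.fromBlocks_transpose, Matrix.transpose_zero]

theorem jd_mem_orth (h2 : (2 : F) ≠ 0) {a b : GL (Bits k) F} (ha : a ∈ orth (Bits k) F)
    (hb : b ∈ orth (Bits k) F) : jd (a, b) ∈ orth (Bits (k + 1)) F := orth_of_transpose (by
  rw [jd, blkGL_val, blocks_transpose, blocks_mul, transpose_of_orth h2 ha, transpose_of_orth h2 hb]
  simp [blocks_one])

theorem orth_of_jd (h2 : (2 : F) ≠ 0) {a b : GL (Bits k) F} (h : jd (a, b) ∈ orth (Bits (k + 1)) F) :
    a ∈ orth (Bits k) F ∧ b ∈ orth (Bits k) F := by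
  have h' := transpose_of_orth h2 h
  rw [jd, blkGL_val, blocks_transpose, blocks_mul, ← blocks_one (e := split k)] at h'
  obtain ⟨h1, -, -, h4⟩ := blocks_inj h'
  simp only [mul_zero, zero_mul, add_zero, zero_add] at h1 h4
  exact ⟨orth_of_transpose h1, orth_of_transpose h4⟩

theorem jd_one_mem_omg (h2 : (2 : F) ≠ 0) {x : GL (Bits k) F} (hx : x ∈ omg (Bits k) F) :
    jd (1, x) ∈ omg (Bits (k + 1)) F :=
  map_omg (jd.comp (MonoidHom.prod 1 (MonoidHom.id _))) (fun g hg => jd_mem_orth h2 (one_mem _) hg) hx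

theorem jd_self_mem_omg [Fintype F] (h2 : (2 : F) ≠ 0) {a : GL (Bits k) F} (ha : a ∈ orth (Bits k) F) :
    jd (a, a) ∈ omg (Bits (k + 1)) F := by
  have h1 : jd (a, 1) ∈ orth (Bits (k + 1)) F := jd_mem_orth h2 ha (one_mem _)
  have hT : lastT k F ∈ orth (Bits (k + 1)) F := mg_mem_orth _ _
  have h3 := mul_mem (sq_mem_omg h2 h1) (comm_mem_omg (inv_mem h1) hT)
  rw [inv_inv, show (jd (a, 1))⁻¹ * lastT k F * jd (a, 1) * (lastT k F)⁻¹ =
    (jd (a, 1))⁻¹ * (lastT k F * jd (a, 1) * (lastT k F)⁻¹) by group, lastT_conj h2, jd_inv, jd_mul,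
    jd_mul, jd_mul] at h3
  simpa using h3

/-- The linear map exchanging the last two coordinates. -/
def exchange (k : ℕ) : Bits (k + 2) ≃+ Bits (k + 2) :=
  tv (sn (sn 0 1) 1) (sn (sn 0 1) 1) (by rw [sn_dot, sn_dot]; simp; rfl)

theorem exchange_sn (x : Bits k) (z w : ZMod 2) : exchange k (sn (sn x z) w) = sn (sn x w) z := by
  rw [exchange, tv_apply, sn_dot, sn_dot, zero_dotProduct, zero_add, one_mul, one_mul]
  rcases zmod2 z with rfl | rfl <;> rcases zmod2 w with rfl | rfl <;>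
    simp [sn_add, show (1 : ZMod 2) + 1 = 0 from rfl]

theorem exchange_conj (a b c d : GL (Bits k) F) :
    lin (exchange k) * jd (jd (a, b), jd (c, d)) * (lin (exchange k))⁻¹ =
      (jd (jd (a, c), jd (b, d)) : GL (Bits (k + 2)) F) := by
  refine Units.ext (Matrix.ext fun x y => ?_)
  obtain ⟨x, rfl⟩ := (exchange k).toEquiv.surjective x
  obtain ⟨y, rfl⟩ := (exchange k).toEquiv.surjective y
  rw [lin, conj_perm_apply]
  obtain ⟨x, rfl⟩ := (split (k + 1)).surjective x
  obtain ⟨y, rfl⟩ := (split (k + 1)).surjective y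
  have e : ∀ p : Bits (k + 1) ⊕ Bits (k + 1), ∃ q : Bits k,
      (p = Sum.inl (split k (Sum.inl q)) ∧ exchange k (split (k + 1) p) = split (k + 1) (Sum.inl (split k (Sum.inl q)))) ∨
      (p = Sum.inl (split k (Sum.inr q)) ∧ exchange k (split (k + 1) p) = split (k + 1) (Sum.inr (split k (Sum.inl q)))) ∨
      (p = Sum.inr (split k (Sum.inl q)) ∧ exchange k (split (k + 1) p) = split (k + 1) (Sum.inl (split k (Sum.inr q)))) ∨
      (p = Sum.inr (split k (Sum.inr q)) ∧ exchange k (split (k + 1) p) = split (k + 1) (Sum.inr (split k (Sum.inr q)))) := by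
    rintro (p | p) <;> obtain ⟨q, rfl | rfl⟩ := sn_cases p <;> refine ⟨q, ?_⟩ <;>
      simp only [split_inl, split_inr, exchange_sn, and_true] <;> simp
  simp only [AddEquiv.toEquiv_eq_coe, AddEquiv.coe_toEquiv]
  obtain ⟨p, hx⟩ := e x
  obtain ⟨q, hy⟩ := e y
  rcases hx with ⟨rfl, hx⟩ | ⟨rfl, hx⟩ | ⟨rfl, hx⟩ | ⟨rfl, hx⟩ <;>
    rcases hy with ⟨rfl, hy⟩ | ⟨rfl, hy⟩ | ⟨rfl, hy⟩ | ⟨rfl, hy⟩ <;>
    rw [hx, hy, jd_apply, jd_apply] <;>
    simp [jd_apply]

end Cfsg.Agent.C6Orth
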