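import Cfsg.Agent.Lib.C6Orth.Spread
import Cfsg.Agent.Lib.C6Gen.Local
/-!
# Pairs of transvections in the derived group; transitivity on involution classes

* `pair_mem_omg` : products of two transvections of the standard group lie in `Ω`
* `exists_move`  : the pairs move any noncentral involution of a system to any other
-/

set_option autoImplicit false
set_option linter.unusedSectionVars false
set_option linter.style.haveILetI false

namespace Cfsg.Agent.C6Gen.Sys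

open Matrix Module

variable {k : ℕ} {ι : Type} [Fintype ι] [DecidableEq ι] [Nonempty ι] {F : Type*} [Field F]
variable {R : Subgroup (GL ι F)} (hR : Sys k R)
include hR

/-- The class of a member. -/
theorem B_bar (hk : 3 ≤ k) (x y : R) :
    letI := hR.addCommGroup; letI := hR.module2
    (hR.quad hk).B (Additive.ofMul (bar x)) (Additive.ofMul (bar y)) = Bv x y := by
  letI := hR.addCommGroup
  letI := hR.module2
  show Bv (Sys.lift _) (Sys.lift _) = _
  rw [hR.Bv_comm, hR.Bv_congr (y' := x) _ (Sys.bar_lift (Additive.ofMul (bar x) : VB R)), hR.Bv_comm,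
    hR.Bv_congr (y' := y) _ (Sys.bar_lift (Additive.ofMul (bar y) : VB R))]

/-- The value of a member. -/
theorem Q_bar (hk : 3 ≤ k) (x : R) :
    letI := hR.addCommGroup; letI := hR.module2
    (hR.quad hk).Q (Additive.ofMul (bar x)) = Qv x := by
  letI := hR.addCommGroup
  letI := hR.module2
  show Qv (Sys.lift _) = _
  exact hR.Qv_congr (Sys.bar_lift (Additive.ofMul (bar x) : VB R))

theorem Qv_zero {x : R} (h : (x : GL ι F) * x = 1) : Qv x = 0 := by
  rcases hR.Q_cases x with ⟨-, e⟩ | ⟨e, -⟩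
  · exact e
  · rw [h] at e; exact absurd e hR.one_ne_neg

theorem Qv_one {x : R} (h : (x : GL ι F) * x = -1) : Qv x = 1 := by
  rcases hR.Q_cases x with ⟨e, -⟩ | ⟨-, e⟩
  · rw [h] at e; exact absurd e.symm hR.one_ne_neg
  · exact e

theorem sq_neg_of_Qv {x : R} (h : Qv x = 1) : (x : GL ι F) * x = -1 := by
  rcases hR.Q_cases x with ⟨-, e⟩ | ⟨e, -⟩
  · rw [h] at e; exact absurd e one_ne_zero
  · exact e

theorem sq_one_of_Qv {x : R} (h : Qv x = 0) : (x : GL ι F) * x = 1 := by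
  rcases hR.Q_cases x with ⟨e, -⟩ | ⟨-, e⟩
  · exact e
  · rw [h] at e; exact absurd e zero_ne_one

theorem anti_of_Bv {x y : R} (h : Bv x y = 1) : (x : GL ι F) * y = -(y * x) := by
  rcases hR.B_cases x y with ⟨-, e⟩ | ⟨e, -⟩
  · rw [h] at e; exact absurd e one_ne_zero
  · exact e

theorem comm_of_Bv {x y : R} (h : Bv x y = 0) : (x : GL ι F) * y = y * x := by
  rcases hR.B_cases x y with ⟨e, -⟩ | ⟨-, e⟩
  · exact e
  · rw [h] at e; exact absurd e zero_ne_one

theorem Bv_zero {x y : R} (h : (x : GL ι F) * y = y * x) : Bv x y = 0 := by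
  rcases hR.B_cases x y with ⟨-, e⟩ | ⟨e, -⟩
  · exact e
  · rw [h] at e; exact absurd e (hR.ne_neg _)

theorem Bv_one {x y : R} (h : (x : GL ι F) * y = -(y * x)) : Bv x y = 1 := by
  rcases hR.B_cases x y with ⟨e, -⟩ | ⟨-, e⟩
  · rw [h] at e; exact absurd e.symm (hR.ne_neg _)
  · exact e

theorem lift_ofMul (v : VB R) : Additive.ofMul (bar (Sys.lift v)) = v := by
  rw [Sys.bar_lift]; rfl

theorem bar_ne_zero (x : R) (h1 : (x : GL ι F) ≠ 1) (hm : (x : GL ι F) ≠ -1) :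
    letI := hR.addCommGroup; (Additive.ofMul (bar x) : VB R) ≠ 0 := by
  letI := hR.addCommGroup
  intro h
  have h' : bar x = bar 1 := Additive.ofMul.injective h
  rcases bar_eq.1 h' with e | e
  · exact h1 (by simpa using e.symm)
  · exact hm (by rw [OneMemClass.coe_one] at e; rw [← neg_neg (x : GL ι F), ← e])

theorem bar_eq_of_span {x y : R} (h1 : (x : GL ι F) ≠ 1) (hm : (x : GL ι F) ≠ -1)
    (h : letI := hR.addCommGroup; letI := hR.module2;
      (Additive.ofMul (bar x) : VB R) ∈ Submodule.span (ZMod 2) ({Additive.ofMul (bar y)} : Set (VB R))) :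
    (x : GL ι F) = y ∨ (x : GL ι F) = -(y : GL ι F) := by
  letI := hR.addCommGroup
  letI := hR.module2
  obtain ⟨c, hc⟩ := Submodule.mem_span_singleton.1 h
  rcases zmod2 c with rfl | rfl
  · rw [zero_smul] at hc; exact absurd hc.symm (hR.bar_ne_zero x h1 hm)
  · rw [one_smul] at hc; exact bar_eq.1 (Additive.ofMul.injective hc)

/-- The pairs move involutions. -/
theorem exists_move (hk : 3 ≤ k) {M : Subgroup (GL ι F)} (hRM : R ≤ M) (hpairs : HasPairs R M)
    {r s : GL ι F} (hr : r ∈ R) (hs : s ∈ R) (hrr : r * r = 1) (hss : s * s = 1)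
    (hr1 : r ≠ 1) (hr2 : r ≠ -1) (hs1 : s ≠ 1) (hs2 : s ≠ -1) :
    ∃ n ∈ Cfsg.Geo.subgroupNormalizer R, n ∈ M ∧ n * r * n⁻¹ = s := by
  letI := hR.addCommGroup
  letI := hR.module2
  obtain ⟨q, hq⟩ : ∃ q, q = hR.quad hk := ⟨_, rfl⟩
  have hfin := q.finite
  -- it is enough to reach `± s`
  suffices hpm : ∀ r ∈ R, r * r = 1 → r ≠ 1 → r ≠ -1 → ∀ s ∈ R, s * s = 1 → s ≠ 1 → s ≠ -1 →
      ∃ n ∈ Cfsg.Geo.subgroupNormalizer R, n ∈ M ∧ (n * r * n⁻¹ = s ∨ n * r * n⁻¹ = -s) by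
    obtain ⟨n, hn, hnM, e | e⟩ := hpm r hr hrr hr1 hr2 s hs hss hs1 hs2
    · exact ⟨n, hn, hnM, e⟩
    · obtain ⟨x, hx, hxs⟩ := hR.exists_anti hs hs1 hs2
      refine ⟨x * n, mul_mem (Subgroup.le_normalizer hx) hn, M.mul_mem (hRM hx) hnM, ?_⟩
      rw [show x * n * r * (x * n)⁻¹ = x * (n * r * n⁻¹) * x⁻¹ by group, e, mul_neg,
        show x * s = -(s * x) by rw [hxs, neg_neg], neg_neg, mul_inv_cancel_right]
  -- anticommuting involutions
  have hanti : ∀ r ∈ R, r * r = 1 → r ≠ 1 → r ≠ -1 → ∀ s ∈ R, s * s = 1 → r * s = -(s * r) →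
      ∃ n ∈ Cfsg.Geo.subgroupNormalizer R, n ∈ M ∧ (n * r * n⁻¹ = s ∨ n * r * n⁻¹ = -s) := by
    intro r hr hrr hr1 hr2 s hs hss hrs
    have hsr : s * r = -(r * s) := by rw [hrs, neg_neg]
    have haa : r * s * (r * s) = -1 := by
      rw [mul_assoc, ← mul_assoc s, hsr, neg_mul, mul_neg, mul_assoc r s s, hss, mul_one, hrr]
    have hW : 2 * k ≤ finrank (ZMod 2) (q.perp (Submodule.span (ZMod 2) {Additive.ofMul (bar (⟨r, hr⟩ : R))})) + 1 := by
      have h1 := q.finrank_perp (Submodule.span (ZMod 2) {Additive.ofMul (bar (⟨r, hr⟩ : R))})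
      rw [finrank_span_singleton (hR.bar_ne_zero ⟨r, hr⟩ hr1 hr2)] at h1
      omega
    obtain ⟨β, hβ, hβQ⟩ := q.exists_nonsingular (W := q.perp (Submodule.span (ZMod 2)
      {Additive.ofMul (bar (⟨r, hr⟩ : R))})) (by omega)
    obtain ⟨B, hB⟩ : ∃ B : R, B = Sys.lift β := ⟨_, rfl⟩
    have hBβ : Additive.ofMul (bar B) = β := hB ▸ hR.lift_ofMul β
    have hBB : (B : GL ι F) * B = -1 := hR.sq_neg_of_Qv (by rw [← hR.Q_bar hk, hBβ, ← hq]; exact hβQ)
    have hBr : (r : GL ι F) * B = B * r := by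
      have h := q.mem_perp_span.1 hβ
      rw [hq, ← hBβ, hR.B_bar hk, hR.Bv_comm] at h
      exact hR.comm_of_Bv h
    obtain ⟨n, hn, hnv, hconj⟩ := hR.exists_pair_normal (R.mul_mem hr hs) B.2 haa hBB
    refine ⟨n, hn, hpairs _ (R.mul_mem hr hs) _ B.2 haa hBB n hnv, Or.inr ?_⟩
    obtain ⟨y, hy, hy'⟩ := hconj r hr
    have hyr : y = r := by
      rcases hy with ⟨e, -⟩ | ⟨-, e⟩
      · exact e
      · rw [hBr] at e; exact absurd e (hR.ne_neg _)
    rw [hyr] at hy'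
    have h1 : r * (r * s) = s := by rw [← mul_assoc, hrr, one_mul]
    have h2 : r * s * r = -s := by rw [mul_assoc, hsr, mul_neg, h1]
    rcases hy' with ⟨-, e⟩ | ⟨e, -⟩
    · rw [h1, h2] at e; exact absurd e (hR.ne_neg _)
    · rw [e, h2]
  intro r hr hrr hr1 hr2 s hs hss hs1 hs2
  rcases hR.comm r hr s hs with hc | ha
  swap
  · exact hanti r hr hrr hr1 hr2 s hs hss ha
  by_cases hrs : r = s ∨ r = -s
  · exact ⟨1, one_mem _, one_mem _, by simpa using hrs⟩
  obtain ⟨ρ, hρ⟩ : ∃ ρ : VB R, ρ = Additive.ofMul (bar (⟨r, hr⟩ : R)) := ⟨_, rfl⟩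
  obtain ⟨σ, hσ⟩ : ∃ σ : VB R, σ = Additive.ofMul (bar (⟨s, hs⟩ : R)) := ⟨_, rfl⟩
  have hn1 : σ ∉ Submodule.span (ZMod 2) {ρ} := fun h => by
    rw [hρ, hσ] at h
    rcases hR.bar_eq_of_span (x := ⟨s, hs⟩) (y := ⟨r, hr⟩) hs1 hs2 h with e | e
    · exact hrs (Or.inl e.symm)
    · exact hrs (Or.inr (by simp only at e; rw [e, neg_neg]))
  have hn2 : ρ ∉ Submodule.span (ZMod 2) {σ} := fun h => by
    rw [hρ, hσ] at h
    exact hrs (hR.bar_eq_of_span (x := ⟨r, hr⟩) (y := ⟨s, hs⟩) hr1 hr2 h)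
  obtain ⟨a1, a1Q, a1ρ, a1σ⟩ := q.exists_ns_pair hn1
  obtain ⟨a2, a2Q, a2σ, a2ρ⟩ := q.exists_ns_pair hn2
  have hρQ : q.Q ρ = 0 := by rw [hq, hρ, hR.Q_bar hk]; exact hR.Qv_zero hrr
  have hρσ : q.B ρ σ = 0 := by rw [hq, hρ, hσ, hR.B_bar hk]; exact hR.Bv_zero hc
  obtain ⟨ζ, hζρ, hζσ, hζQ⟩ : ∃ ζ, q.B ζ ρ = 1 ∧ q.B ζ σ = 1 ∧ q.Q ζ = 0 := by
    have e1 : q.B (a1 + a2) ρ = 1 := by rw [map_add, LinearMap.add_apply, a1ρ, a2ρ, zero_add]
    have e2 : q.B (a1 + a2) σ = 1 := by rw [map_add, LinearMap.add_apply, a1σ, a2σ, add_zero]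
    rcases zmod2 (q.Q (a1 + a2)) with e | e
    · exact ⟨_, e1, e2, e⟩
    · refine ⟨a1 + a2 + ρ, ?_, ?_, ?_⟩
      · rw [map_add, LinearMap.add_apply, e1, q.B_self, add_zero]
      · rw [map_add, LinearMap.add_apply, e2, hρσ, add_zero]
      · rw [q.polar, e, hρQ, e1]; rfl
  obtain ⟨Z, hZ⟩ : ∃ Z : R, Z = Sys.lift ζ := ⟨_, rfl⟩
  have hZζ : Additive.ofMul (bar Z) = ζ := hZ ▸ hR.lift_ofMul ζ
  have hZZ : (Z : GL ι F) * Z = 1 := hR.sq_one_of_Qv (by rw [← hR.Q_bar hk, hZζ, ← hq]; exact hζQ)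
  have hrZ : r * (Z : GL ι F) = -((Z : GL ι F) * r) := by
    have h : Bv (⟨r, hr⟩ : R) Z = 1 := by
      rw [hR.Bv_comm, ← hR.B_bar hk, hZζ, ← hρ, ← hq]; exact hζρ
    exact hR.anti_of_Bv h
  have hZs : (Z : GL ι F) * s = -(s * (Z : GL ι F)) := by
    have h : Bv Z (⟨s, hs⟩ : R) = 1 := by rw [← hR.B_bar hk, hZζ, ← hσ, ← hq]; exact hζσ
    exact hR.anti_of_Bv h
  have hZne : (Z : GL ι F) ≠ 1 ∧ (Z : GL ι F) ≠ -1 := by
    constructor <;> intro e <;> rw [e] at hrZ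
    · simp only [mul_one, one_mul] at hrZ; exact hR.ne_neg r hrZ
    · simp only [mul_neg, mul_one, neg_mul, one_mul, neg_neg] at hrZ; exact hR.ne_neg r hrZ.symm
  obtain ⟨n, hn, hnM, hn'⟩ := hanti r hr hrr hr1 hr2 Z Z.2 hZZ hrZ
  obtain ⟨m, hm, hmM, hm'⟩ := hanti Z Z.2 hZZ hZne.1 hZne.2 s hs hss hZs
  refine ⟨m * n, mul_mem hm hn, M.mul_mem hmM hnM, ?_⟩
  rw [show m * n * r * (m * n)⁻¹ = m * (n * r * n⁻¹) * m⁻¹ by group]
  rcases hn' with e | e <;> rw [e]
  · exact hm'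
  · rw [mul_neg, neg_mul]
    rcases hm' with e' | e' <;> rw [e']
    · exact Or.inr rfl
    · exact Or.inl (neg_neg _)

end Cfsg.Agent.C6Gen.Sys

namespace Cfsg.Agent.C6Orth

open Matrix
open Cfsg.Agent.C6Gen

variable {k : ℕ} {F : Type*} [Field F] [Fintype F]

/-- Products of two transvections are in the derived group. -/
theorem pair_mem_omg (h2 : (2 : F) ≠ 0) (hk : 3 ≤ k) {a b n : GL (Bits k) F} (ha : a ∈ R0 k F) (hb : b ∈ R0 k F)
    (haa : a * a = -1) (hbb : b * b = -1)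
    (hn : (n : Matrix (Bits k) (Bits k) F) =
      (2 : F)⁻¹ • ((1 + (a : Matrix (Bits k) (Bits k) F)) * (1 + (b : Matrix (Bits k) (Bits k) F)))) :
    n ∈ omg (Bits k) F := by
  have hR := R0_sys (F := F) (k := k) h2
  have hΩ := R0_le_omg (F := F) (k := k) (by omega)
  have hneg : (-1 : GL (Bits k) F) ∈ omg (Bits k) F := hΩ hR.neg
  -- anticommuting
  have hanti : ∀ a ∈ R0 k F, ∀ b ∈ R0 k F, a * a = -1 → b * b = -1 → a * b = -(b * a) →
      ∀ n : GL (Bits k) F, (n : Matrix (Bits k) (Bits k) F) =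
        (2 : F)⁻¹ • ((1 + (a : Matrix (Bits k) (Bits k) F)) * (1 + (b : Matrix (Bits k) (Bits k) F))) →
      n ∈ omg (Bits k) F := by
    intro a ha b hb haa hbb hab n hn
    obtain ⟨A, hA⟩ : ∃ A : Matrix (Bits k) (Bits k) F, A = (a : Matrix (Bits k) (Bits k) F) := ⟨_, rfl⟩
    obtain ⟨B, hB⟩ : ∃ B : Matrix (Bits k) (Bits k) F, B = (b : Matrix (Bits k) (Bits k) F) := ⟨_, rfl⟩
    have hAA : A * A = -1 := by rw [hA, ← Units.val_mul, haa, Units.val_neg, Units.val_one]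
    have hBB : B * B = -1 := by rw [hB, ← Units.val_mul, hbb, Units.val_neg, Units.val_one]
    have hBA : B * A = -(A * B) := by
      rw [hA, hB, ← Units.val_mul, ← Units.val_mul, hab, Units.val_neg, neg_neg]
    have t1 : ∀ X, A * (A * X) = -X := fun X => by rw [← mul_assoc, hAA, neg_one_mul]
    have t3 : ∀ X, B * (A * X) = -(A * (B * X)) := fun X => by rw [← mul_assoc, hBA, neg_mul, mul_assoc]
    have hn' : (n : Matrix (Bits k) (Bits k) F) = (2 : F)⁻¹ • (1 + A + B + A * B) := by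
      rw [hn, ← hA, ← hB]; congr 1; noncomm_ring
    have h3 : n * n * n = -1 := by
      refine Units.ext ?_
      rw [Units.val_mul, Units.val_mul, Units.val_neg, Units.val_one, hn']
      simp only [Matrix.smul_mul, Matrix.mul_smul, add_mul, mul_add, one_mul, mul_one, mul_assoc, hAA, hBB,
        hBA, t1, t3, mul_neg, neg_mul, neg_neg, smul_add, smul_neg, smul_smul]
      match_scalars <;> field_simp <;> ring
    have e : n = -((n * n) * (n * n)) := by
      rw [show (n * n) * (n * n) = (n * n * n) * n by group, h3, neg_mul, one_mul, neg_neg]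
    rw [e, ← neg_one_mul]
    have hno : n ∈ orth (Bits k) F := pair_orth h2 (R0_le_orth ha) (R0_le_orth hb) haa hbb hn
    exact mul_mem hneg (sq_mem_omg h2 (mul_mem hno hno))
  rcases hR.comm a ha b hb with hab | hab
  swap
  · exact hanti a ha b hb haa hbb hab n hn
  by_cases hd : a = b
  · subst hd
    have e : n = a := Units.ext (by
      have hAA : (a : Matrix (Bits k) (Bits k) F) * (a : Matrix (Bits k) (Bits k) F) = -1 := by
        rw [← Units.val_mul, haa, Units.val_neg, Units.val_one]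
      rw [hn, add_mul, mul_add, mul_add, one_mul, one_mul, mul_one, hAA,
        show (1 + (a : Matrix (Bits k) (Bits k) F)) + ((a : Matrix (Bits k) (Bits k) F) + -1) =
          (2 : F) • (a : Matrix (Bits k) (Bits k) F) by rw [two_smul]; abel,
        inv_smul_smul₀ h2])
    exact e ▸ hΩ ha
  by_cases hd' : a = -b
  · have e : n = 1 := Units.ext (by
      have hBB : (b : Matrix (Bits k) (Bits k) F) * (b : Matrix (Bits k) (Bits k) F) = -1 := by
        rw [← Units.val_mul, hbb, Units.val_neg, Units.val_one]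
      rw [hn, hd', Units.val_neg, Units.val_one, add_mul, mul_add, mul_add, one_mul, one_mul, mul_one, neg_mul,
        hBB, neg_neg, show (1 + (b : Matrix (Bits k) (Bits k) F)) + (-(b : Matrix (Bits k) (Bits k) F) + 1) =
          (2 : F) • (1 : Matrix (Bits k) (Bits k) F) by rw [two_smul]; abel,
        inv_smul_smul₀ h2])
    exact e ▸ one_mem _
  -- a third member anticommuting with both
  letI := hR.addCommGroup
  letI := hR.module2
  obtain ⟨q, hq⟩ : ∃ q, q = hR.quad hk := ⟨_, rfl⟩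
  have hfin := q.finite
  obtain ⟨α, hα⟩ : ∃ α : VB (R0 k F), α = Additive.ofMul (bar (⟨a, ha⟩ : R0 k F)) := ⟨_, rfl⟩
  obtain ⟨β, hβ⟩ : ∃ β : VB (R0 k F), β = Additive.ofMul (bar (⟨b, hb⟩ : R0 k F)) := ⟨_, rfl⟩
  have ha1 : a ≠ 1 ∧ a ≠ -1 := ⟨fun e => hR.one_ne_neg (by rw [e, one_mul] at haa; exact haa),
    fun e => hR.one_ne_neg (by rw [e, neg_mul_neg, one_mul] at haa; exact haa)⟩
  have hb1 : b ≠ 1 ∧ b ≠ -1 := ⟨fun e => hR.one_ne_neg (by rw [e, one_mul] at hbb; exact hbb),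
    fun e => hR.one_ne_neg (by rw [e, neg_mul_neg, one_mul] at hbb; exact hbb)⟩
  have hn1 : β ∉ Submodule.span (ZMod 2) {α} := fun h => by
    rw [hα, hβ] at h
    rcases hR.bar_eq_of_span (x := ⟨b, hb⟩) (y := ⟨a, ha⟩) hb1.1 hb1.2 h with e | e
    · exact hd e.symm
    · exact hd' (by simp only at e; rw [e, neg_neg])
  have hn2 : α ∉ Submodule.span (ZMod 2) {β} := fun h => by
    rw [hα, hβ] at h
    rcases hR.bar_eq_of_span (x := ⟨a, ha⟩) (y := ⟨b, hb⟩) ha1.1 ha1.2 h with e | e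
    · exact hd e
    · exact hd' e
  obtain ⟨c1, c1Q, c1α, c1β⟩ := q.exists_ns_pair hn1
  obtain ⟨c2, c2Q, c2β, c2α⟩ := q.exists_ns_pair hn2
  have hαQ : q.Q α = 1 := by rw [hq, hα, hR.Q_bar hk]; exact hR.Qv_one haa
  obtain ⟨γ, hγα, hγβ, hγQ⟩ : ∃ γ, q.B γ α = 1 ∧ q.B γ β = 1 ∧ q.Q γ = 1 := by
    have e1 : q.B (c1 + c2) α = 1 := by rw [map_add, LinearMap.add_apply, c1α, c2α, zero_add]
    have e2 : q.B (c1 + c2) β = 1 := by rw [map_add, LinearMap.add_apply, c1β, c2β, add_zero]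
    rcases zmod2 (q.Q (c1 + c2)) with e | e
    swap
    · exact ⟨_, e1, e2, e⟩
    obtain ⟨z, hz, hzQ⟩ := q.exists_ns_perp (W := Submodule.span (ZMod 2) ({α, β} : Set (VB (R0 k F))) ⊔
      Submodule.span (ZMod 2) {c1 + c2}) (by
        have := q.finrank_sup_span_le (Submodule.span (ZMod 2) ({α, β} : Set (VB (R0 k F)))) (c1 + c2)
        have := QF.finrank_span_le_two α β
        omega)
      (Submodule.mem_sup_left (Submodule.subset_span (Set.mem_insert _ _))) hαQ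
    have hz' := q.mem_perp.1 hz
    refine ⟨c1 + c2 + z, ?_, ?_, ?_⟩
    · rw [map_add, LinearMap.add_apply, e1,
        hz' α (Submodule.mem_sup_left (Submodule.subset_span (Set.mem_insert _ _))), add_zero]
    · rw [map_add, LinearMap.add_apply, e2,
        hz' β (Submodule.mem_sup_left (Submodule.subset_span (Set.mem_insert_of_mem _ rfl))), add_zero]
    · rw [q.polar, e, hzQ, q.B_comm,
        hz' (c1 + c2) (Submodule.mem_sup_right (Submodule.mem_span_singleton_self _)), zero_add, add_zero]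
  obtain ⟨C, hC⟩ : ∃ C : R0 k F, C = Sys.lift γ := ⟨_, rfl⟩
  have hCγ : Additive.ofMul (bar C) = γ := hC ▸ hR.lift_ofMul γ
  have hCC : (C : GL (Bits k) F) * C = -1 := hR.sq_neg_of_Qv (by rw [← hR.Q_bar hk, hCγ, ← hq]; exact hγQ)
  have hCa : a * (C : GL (Bits k) F) = -((C : GL (Bits k) F) * a) := by
    have h : Bv (⟨a, ha⟩ : R0 k F) C = 1 := by
      rw [hR.Bv_comm, ← hR.B_bar hk, hCγ, ← hα, ← hq]; exact hγα
    exact hR.anti_of_Bv h
  have hCb : -(C : GL (Bits k) F) * b = -(b * -(C : GL (Bits k) F)) := by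
    have h : Bv C (⟨b, hb⟩ : R0 k F) = 1 := by rw [← hR.B_bar hk, hCγ, ← hβ, ← hq]; exact hγβ
    rw [neg_mul, mul_neg, neg_neg, hR.anti_of_Bv h, neg_neg]
  have hCC' : -(C : GL (Bits k) F) * -(C : GL (Bits k) F) = -1 := by rw [neg_mul_neg, hCC]
  obtain ⟨n1, hn1', -⟩ := hR.exists_pair ha C.2 haa hCC
  obtain ⟨n2, hn2', -⟩ := hR.exists_pair (hR.neg_mem C.2) hb hCC' hbb
  have e : n = n1 * n2 := by
    refine Units.ext ?_
    rw [Units.val_mul, hn, hn1', hn2', Units.val_neg, Matrix.smul_mul, Matrix.mul_smul, smul_smul, mul_assoc,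
      ← mul_assoc (1 + ((C : GL (Bits k) F) : Matrix (Bits k) (Bits k) F))]
    have hmid : (1 + ((C : GL (Bits k) F) : Matrix (Bits k) (Bits k) F)) *
        (1 + -((C : GL (Bits k) F) : Matrix (Bits k) (Bits k) F)) = (2 : F) • 1 := by
      have hc : ((C : GL (Bits k) F) : Matrix (Bits k) (Bits k) F) * ((C : GL (Bits k) F) : Matrix (Bits k) (Bits k) F) = -1 := by
        rw [← Units.val_mul, hCC, Units.val_neg, Units.val_one]
      simp only [mul_add, add_mul, one_mul, mul_one, mul_neg, hc]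
      rw [two_smul]; abel
    rw [hmid, Matrix.smul_mul, one_mul, Matrix.mul_smul, smul_smul]
    congr 1
    field_simp
  rw [e]
  exact mul_mem (hanti a ha C C.2 haa hCC hCa n1 hn1')
    (hanti _ (hR.neg_mem C.2) b hb hCC' hbb hCb n2 hn2')

theorem hasPairs_omg (h2 : (2 : F) ≠ 0) (hk : 3 ≤ k) : HasPairs (R0 k F) (omg (Bits k) F) :=
  fun _ ha _ hb haa hbb _ hn => pair_mem_omg h2 hk ha hb haa hbb hn

theorem hasPairs_orth (h2 : (2 : F) ≠ 0) : HasPairs (R0 k F) (orth (Bits k) F) :=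
  fun _ ha _ hb haa hbb _ hn => pair_orth h2 (R0_le_orth ha) (R0_le_orth hb) haa hbb hn

end Cfsg.Agent.C6Orth
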