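import Cfsg.Agent.Lib.C6Orth.Fill
import Cfsg.Agent.Lib.C6Orth.Pairs
import Cfsg.Agent.Lib.C6Gen.Dim
import Cfsg.Agent.Lib.C5.Transfer
import Cfsg.Agent.Lib.Orth.Decomp
import Cfsg.Agent.EqLemmas
/-!
# Plus type systems are conjugate to the standard model

* `exists_hyperbolic`  : a basis adapted to a maximal singular subspace
* `exists_model`       : coordinates in which `R` is the standard group and the form is a sum of squares
* `plus_maximal`       : the normaliser of a system of plus type is maximal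
-/

set_option autoImplicit false
set_option linter.unusedSectionVars false

namespace Cfsg.Agent.C6Gen.QF

open Module

variable {k : ℕ} {V : Type*} [AddCommGroup V] [Module (ZMod 2) V] (q : QF k V)

/-- An adapted basis. -/
theorem exists_hyperbolic {W : Submodule (ZMod 2) V} (hW : ∀ x ∈ W, q.Q x = 0) (hd : finrank (ZMod 2) W = k) :
    ∃ w x : Fin k → V, (∀ i, q.Q (w i) = 0) ∧ (∀ i, q.Q (x i) = 0) ∧ (∀ i j, q.B (w i) (w j) = 0) ∧
      (∀ i j, q.B (x i) (x j) = 0) ∧ ∀ i j, q.B (x i) (w j) = if i = j then 1 else 0 := by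
  classical
  have := q.finite
  obtain ⟨b, -⟩ : ∃ b : Basis (Fin k) (ZMod 2) W, b = b := ⟨Module.finBasisOfFinrankEq (ZMod 2) W hd, rfl⟩
  obtain ⟨w, hw⟩ : ∃ w : Fin k → V, w = fun i => (b i : V) := ⟨_, rfl⟩
  have hww : ∀ i j, q.B (w i) (w j) = 0 := fun i j =>
    q.mem_perp.1 (q.isotropic_of_singular hW (hw ▸ (b i).2 : w i ∈ W)) _ (hw ▸ (b j).2)
  choose v hv using fun i => q.exists_represent W (b.coord i)
  have hvw : ∀ i j, q.B (v i) (w j) = if i = j then 1 else 0 := fun i j => by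
    rw [hw]; simp only
    rw [hv i (b j), Basis.coord_apply, Basis.repr_self, Finsupp.single_apply]
    exact if_congr eq_comm rfl rfl
  have hwv : ∀ i j, q.B (w i) (v j) = if j = i then 1 else 0 := fun i j => by rw [q.B_comm, hvw]
  obtain ⟨c, hc⟩ : ∃ c : Fin k → Fin k → ZMod 2, c = fun j i => if i < j then q.B (v i) (v j) else 0 := ⟨_, rfl⟩
  obtain ⟨v', hv'⟩ : ∃ v' : Fin k → V, v' = fun j => v j + ∑ i, c j i • w i := ⟨_, rfl⟩
  have hsw : ∀ j l, q.B (∑ i, c j i • w i) (w l) = 0 := fun j l => by simp [hww]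
  have hsv : ∀ j l, q.B (∑ i, c j i • w i) (v l) = c j l := fun j l => by simp [hwv]
  have hv'w : ∀ i j, q.B (v' i) (w j) = if i = j then 1 else 0 := fun i j => by
    rw [hv']; simp only
    rw [map_add, LinearMap.add_apply, hvw, hsw, add_zero]
  have hv'v : ∀ i j, i ≠ j → q.B (v' i) (v' j) = 0 := fun i j hij => by
    rw [hv']; simp only
    simp only [map_add, LinearMap.add_apply]
    rw [hsv, q.B_comm (v i) (∑ l, c j l • w l), hsv,
      show q.B (∑ l, c i l • w l) (∑ l, c j l • w l) = 0 by simp [hww], add_zero, hc]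
    simp only
    rcases lt_or_gt_of_ne hij with h | h
    · rw [if_pos h, if_neg h.not_gt, add_zero, CharTwo.add_self_eq_zero]
    · rw [if_neg h.not_gt, if_pos h, q.B_comm (v j), add_zero, CharTwo.add_self_eq_zero]
  have hwQ : ∀ i, q.Q (w i) = 0 := fun i => hW _ (hw ▸ (b i).2)
  refine ⟨w, fun j => v' j + q.Q (v' j) • w j, hwQ, fun j => ?_, hww, fun i j => ?_, fun i j => ?_⟩
  · simp only
    rcases zmod2 (q.Q (v' j)) with h | h <;> rw [h]
    · rw [zero_smul, add_zero, h]
    · rw [one_smul, q.polar, h, hwQ, hv'w, if_pos rfl, add_zero]; rfl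
  · rcases eq_or_ne i j with rfl | hij
    · exact q.B_self _
    simp only [map_add, LinearMap.add_apply, map_smul, LinearMap.smul_apply, hww, q.B_comm (w i) (v' j),
      hv'w, hv'v i j hij, if_neg hij, if_neg hij.symm, smul_zero, add_zero]
  · simp only [map_add, LinearMap.add_apply, map_smul, LinearMap.smul_apply, hww, hv'w, smul_zero, add_zero]

end Cfsg.Agent.C6Gen.QF

namespace Cfsg.Agent.C6Orth

open Matrix Module
open Cfsg.Agent.C6Gen Cfsg.Agent.Orth

variable {k : ℕ} {ι : Type} [Fintype ι] [DecidableEq ι] [Nonempty ι] {F : Type*} [Field F]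

theorem bits_add_ext {M : Type*} [AddCommMonoid M] {f g : Bits k →+ M} (h : ∀ i, f (uv i) = g (uv i)) :
    f = g :=
  AddMonoidHom.functions_ext _ _ _ fun i x => by
    rcases zmod2 x with rfl | rfl
    · simp
    · exact h i

/-- A homomorphism on the bits. -/
theorem exists_bits_hom {M : Type*} [Group M] (X : Fin k → M) (hsq : ∀ i, X i * X i = 1)
    (hcomm : ∀ i j, X i * X j = X j * X i) :
    ∃ T : Bits k → M, (∀ a b, T (a + b) = T a * T b) ∧ (∀ i, T (uv i) = X i) ∧
      ∀ a, T a ∈ Subgroup.closure (Set.range X) := by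
  classical
  letI : IsMulCommutative (Subgroup.closure (Set.range X)) :=
    Subgroup.isMulCommutative_closure (by rintro _ ⟨i, rfl⟩ _ ⟨j, rfl⟩; exact hcomm i j)
  letI : CommGroup (Subgroup.closure (Set.range X)) :=
    { (inferInstance : Group (Subgroup.closure (Set.range X))) with mul_comm := mul_comm' }
  let Y : Fin k → Subgroup.closure (Set.range X) := fun i => ⟨X i, Subgroup.subset_closure ⟨i, rfl⟩⟩
  refine ⟨fun a => ((∏ i, Y i ^ (a i).val : Subgroup.closure (Set.range X)) : M), fun a b => ?_, fun i => ?_,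
    fun a => Subtype.prop _⟩
  · simp only
    rw [← Subgroup.coe_mul, ← Finset.prod_mul_distrib]
    congr 1
    refine Finset.prod_congr rfl fun i _ => ?_
    rcases zmod2 (a i) with h | h <;> rcases zmod2 (b i) with h' | h' <;>
      simp [h, h', show (1 : ZMod 2) + 1 = 0 from rfl, show (1 : ZMod 2).val = 1 from rfl,
        show Y i * Y i = 1 from Subtype.ext (hsq i)]
  · simp only
    rw [Finset.prod_eq_single i (fun j _ hj => by simp [uv, hj]) (fun h => absurd (Finset.mem_univ i) h)]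
    rw [show ((uv i : Bits k) i).val = 1 by rw [uv, Pi.single_eq_same]; rfl, pow_one]

/-- A common fixed vector. -/
theorem exists_fixed_vector (h2 : (2 : F) ≠ 0) (X Z : Fin k → GL ι F) (hZsq : ∀ i, Z i * Z i = 1)
    (hZ : ∀ i j, Z i * Z j = Z j * Z i) (hne : ∀ i j, i ≠ j → Z i * X j = X j * Z i)
    (heq : ∀ i, Z i * X i = -(X i * Z i)) :
    ∃ v : ι → F, v ≠ 0 ∧ ∀ i, (Z i : Matrix ι ι F) *ᵥ v = v := by
  suffices h : ∀ m ≤ k, ∃ v : ι → F, v ≠ 0 ∧ ∀ i : Fin k, (i : ℕ) < m → (Z i : Matrix ι ι F) *ᵥ v = v by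
    obtain ⟨v, hv, hfix⟩ := h k le_rfl
    exact ⟨v, hv, fun i => hfix i i.isLt⟩
  intro m
  induction m with
  | zero => exact fun _ => ⟨fun _ => 1, fun h => one_ne_zero (congrFun h (Classical.arbitrary ι)),
      fun i hi => absurd hi (Nat.not_lt_zero _)⟩
  | succ m ih =>
    intro hm
    obtain ⟨v, hv, hfix⟩ := ih (by omega)
    obtain ⟨j, hj⟩ : ∃ j : Fin k, (j : ℕ) = m := ⟨⟨m, by omega⟩, rfl⟩
    have hlast : ∀ i : Fin k, (i : ℕ) < m + 1 → (i : ℕ) < m ∨ i = j := fun i hi =>
      (Nat.lt_succ_iff_lt_or_eq.1 hi).imp id fun h => Fin.ext (h.trans hj.symm)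
    have hmv : ∀ (g h : GL ι F) (u : ι → F),
        (g : Matrix ι ι F) *ᵥ ((h : Matrix ι ι F) *ᵥ u) = ((g * h : GL ι F) : Matrix ι ι F) *ᵥ u :=
      fun g h u => by rw [Units.val_mul, Matrix.mulVec_mulVec]
    rcases eq_or_ne (v + (Z j : Matrix ι ι F) *ᵥ v) 0 with h | h
    · have hZv : (Z j : Matrix ι ι F) *ᵥ v = -v := eq_neg_of_add_eq_zero_right h
      refine ⟨(X j : Matrix ι ι F) *ᵥ v, fun e => hv (Matrix.mulVec_injective_iff_isUnit.2 (X j).isUnit
        (e.trans (Matrix.mulVec_zero _).symm)), fun i hi => ?_⟩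
      rcases hlast i hi with h' | rfl
      · rw [hmv, hne i j (fun e => by rw [e, hj] at h'; exact lt_irrefl _ h'), ← hmv, hfix i h']
      · rw [hmv, heq, Units.val_neg, Matrix.neg_mulVec, ← hmv, hZv, Matrix.mulVec_neg, neg_neg]
    · refine ⟨_, h, fun i hi => ?_⟩
      rcases hlast i hi with h' | rfl
      · rw [Matrix.mulVec_add, hmv, hZ, ← hmv, hfix i h']
      · rw [Matrix.mulVec_add, hmv, hZsq, Units.val_one, Matrix.one_mulVec, add_comm]

theorem mem_iso {Q : (ι → F) → F} {g : GL ι F} (h : ∀ x, Q ((g : Matrix ι ι F) *ᵥ x) = Q x) :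
    g ∈ Cfsg.isometryGroup F Q := fun u _ => h u

theorem iso_apply {Q : (ι → F) → F} {g : GL ι F} (h : g ∈ Cfsg.isometryGroup F Q) (x : ι → F) :
    Q ((g : Matrix ι ι F) *ᵥ x) = Q x := h x x

theorem omegaGL_eq_commutator (Q : (ι → F) → F) :
    Cfsg.Geo.omegaGL Q = ⁅Cfsg.isometryGroup F Q, Cfsg.isometryGroup F Q⁆ := by
  rw [Cfsg.Geo.omegaGL, Cfsg.Omega, _root_.commutator_def, Subgroup.map_commutator, ← MonoidHom.range_eq_map,
    Subgroup.range_subtype]

variable [Fintype F]

set_option maxHeartbeats 800000 in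
/-- Coordinates. -/
theorem exists_model {R : Subgroup (GL ι F)} (hR : Sys k R) (hk : 3 ≤ k) {Q : QuadraticForm F (ι → F)}
    (hQ : Q.polarBilin.Nondegenerate) (hRQ : R ≤ Cfsg.isometryGroup F ⇑Q) (hplus : Cfsg.Geo.IsOfPlusType k R) :
    ∃ φ : GL (Bits k) F ≃* GL ι F, (R0 k F).map φ.toMonoidHom = R ∧
      (orth (Bits k) F).map φ.toMonoidHom = Cfsg.isometryGroup F ⇑Q := by
  classical
  letI := hR.addCommGroup
  letI := hR.module2
  have := hR.finite
  have := hR.finiteR
  obtain ⟨q, hq⟩ : ∃ q, q = hR.quad hk := ⟨_, rfl⟩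
  have hfin := q.finite
  -- the singular subspace
  obtain ⟨A, hAc, hA1, hAcard⟩ := hplus
  let W : Submodule (ZMod 2) (VB R) :=
    { carrier := {v | ∃ a : R, a ∈ A ∧ Additive.ofMul (bar a) = v}
      zero_mem' := ⟨1, A.one_mem, rfl⟩
      add_mem' := by
        rintro _ _ ⟨a, ha, rfl⟩ ⟨b, hb, rfl⟩
        exact ⟨a * b, A.mul_mem ha hb, by rw [bar_mul]; rfl⟩
      smul_mem' := fun c v hv => by
        rcases zmod2 c with rfl | rfl
        · exact ⟨1, A.one_mem, by rw [zero_smul]; rfl⟩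
        · rwa [one_smul] }
  have hWQ : ∀ v ∈ W, q.Q v = 0 := by
    rintro _ ⟨a, ha, rfl⟩
    rw [hq, hR.Q_bar hk]
    exact hR.Qv_zero (congrArg Subtype.val (hA1 a ha))
  have hd : finrank (ZMod 2) W = k := by
    refine le_antisymm ?_ ?_
    · have := Submodule.finrank_mono (q.isotropic_of_singular hWQ)
      have := q.finrank_perp W
      omega
    · let f : A → W × Bool := fun a => (⟨Additive.ofMul (bar (a : R)), a, a.2, rfl⟩,
        decide ((a : R) = Sys.lift (Additive.ofMul (bar (a : R)) : VB R)))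
      have hf : Function.Injective f := fun a b h => by
        obtain ⟨h1, h2⟩ := Prod.mk.inj h
        have h1' := congrArg Subtype.val h1
        simp only at h1'
        rw [← h1', decide_eq_decide] at h2
        obtain ⟨l, hl⟩ : ∃ l : R, l = Sys.lift (Additive.ofMul (bar (a : R)) : VB R) := ⟨_, rfl⟩
        rw [← hl] at h2
        refine Subtype.ext ?_
        by_cases ha : (a : R) = l
        · rw [ha, h2.1 ha]
        · have hbl : bar (a : R) = bar l := by rw [hl, Sys.bar_lift]; rfl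
          have ea := (bar_eq.1 hbl).resolve_left fun e => ha (Subtype.ext e.symm)
          have hbl' : bar (b : R) = bar l := by
            rw [← hbl]; exact (Additive.ofMul.injective h1').symm
          have eb := (bar_eq.1 hbl').resolve_left fun e => ha (h2.2 (Subtype.ext e.symm))
          exact Subtype.ext (neg_injective (ea.symm.trans eb))
      have hle := Nat.card_le_card_of_injective f hf
      rw [hAcard, Nat.card_prod, Module.natCard_eq_pow_finrank (K := ZMod 2) (V := W),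
        Nat.card_eq_fintype_card, ZMod.card, Nat.card_eq_fintype_card, Fintype.card_bool, ← pow_succ] at hle
      have := (Nat.pow_le_pow_iff_right (show 1 < 2 by norm_num)).1 hle
      omega
  obtain ⟨w, x, hwQ, hxQ, hww, hxx, hxw⟩ := q.exists_hyperbolic hWQ hd
  -- lifts
  have hlift : ∀ v : VB R, Additive.ofMul (bar (Sys.lift v)) = v := fun v => hR.lift_ofMul v
  have hQl : ∀ v, q.Q v = Qv (Sys.lift v) := fun v => by rw [← hR.Q_bar hk, hlift, hq]
  have hBl : ∀ u v, q.B u v = Bv (Sys.lift u) (Sys.lift v) := fun u v => by rw [← hR.B_bar hk, hlift, hlift, hq]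
  obtain ⟨T, hTadd, hTuv, hTcl⟩ := exists_bits_hom (fun i => (Sys.lift (x i) : GL ι F))
    (fun i => hR.sq_one_of_Qv (by rw [← hQl, hxQ]))
    (fun i j => hR.comm_of_Bv (by rw [← hBl, hxx]))
  obtain ⟨S, hSadd, hSuv, hScl⟩ := exists_bits_hom (fun i => (Sys.lift (w i) : GL ι F))
    (fun i => hR.sq_one_of_Qv (by rw [← hQl, hwQ]))
    (fun i j => hR.comm_of_Bv (by rw [← hBl, hww]))
  have hTR : ∀ a, T a ∈ R := fun a => (Subgroup.closure_le R).2 (by rintro _ ⟨i, rfl⟩; exact (Sys.lift (x i)).2) (hTcl a)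
  have hSR : ∀ a, S a ∈ R := fun a => (Subgroup.closure_le R).2 (by rintro _ ⟨i, rfl⟩; exact (Sys.lift (w i)).2) (hScl a)
  let τ : Bits k →+ VB R := AddMonoidHom.mk' (fun a => Additive.ofMul (bar (⟨T a, hTR a⟩ : R))) fun a b => by
    show Additive.ofMul _ = Additive.ofMul (bar _ * bar _)
    rw [← bar_mul]; congr 2; exact Subtype.ext (hTadd a b)
  let σ : Bits k →+ VB R := AddMonoidHom.mk' (fun a => Additive.ofMul (bar (⟨S a, hSR a⟩ : R))) fun a b => by
    show Additive.ofMul _ = Additive.ofMul (bar _ * bar _)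
    rw [← bar_mul]; congr 2; exact Subtype.ext (hSadd a b)
  have hτ : ∀ i, τ (uv i) = x i := fun i => by
    show Additive.ofMul (bar (⟨T (uv i), _⟩ : R)) = x i
    rw [show (⟨T (uv i), hTR (uv i)⟩ : R) = Sys.lift (x i) from Subtype.ext (hTuv i), hlift]
  have hσ : ∀ i, σ (uv i) = w i := fun i => by
    show Additive.ofMul (bar (⟨S (uv i), _⟩ : R)) = w i
    rw [show (⟨S (uv i), hSR (uv i)⟩ : R) = Sys.lift (w i) from Subtype.ext (hSuv i), hlift]
  have hpair : ∀ a b, q.B (τ a) (σ b) = a ⬝ᵥ b := by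
    have h1 : ∀ j a, q.B (τ a) (w j) = a j := fun j a => by
      have h := bits_add_ext (f := (q.B.flip (w j)).toAddMonoidHom.comp τ)
        (g := (Pi.evalAddMonoidHom (fun _ : Fin k => ZMod 2) j)) fun i => by
          show q.B (τ (uv i)) (w j) = uv i j
          rw [hτ, hxw, uv, Pi.single_apply]
          exact if_congr eq_comm rfl rfl
      exact DFunLike.congr_fun h a
    intro a b
    have h := bits_add_ext (f := (q.B (τ a)).toAddMonoidHom.comp σ)
      (g := AddMonoidHom.mk' (fun b : Bits k => a ⬝ᵥ b) (dotProduct_add a)) fun i => by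
        show q.B (τ a) (σ (uv i)) = a ⬝ᵥ uv i
        rw [hσ, h1, uv, dotProduct_single, mul_one]
    exact DFunLike.congr_fun h b
  have hST : ∀ a b (u : ι → F), (S b : Matrix ι ι F) *ᵥ ((T a : Matrix ι ι F) *ᵥ u) =
      (sc (a ⬝ᵥ b) : F) • ((T a : Matrix ι ι F) *ᵥ ((S b : Matrix ι ι F) *ᵥ u)) := fun a b u => by
    have hB : Bv (⟨S b, hSR b⟩ : R) ⟨T a, hTR a⟩ = a ⬝ᵥ b := by
      rw [← hR.B_bar hk, ← hq, q.B_comm, ← hpair a b]; rfl
    rw [Matrix.mulVec_mulVec, Matrix.mulVec_mulVec, ← Units.val_mul, ← Units.val_mul]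
    rcases zmod2 (a ⬝ᵥ b) with h | h <;> rw [h] at hB ⊢
    · rw [sc_zero, one_smul, show S b * T a = T a * S b from hR.comm_of_Bv hB]
    · rw [sc_one, show S b * T a = -(T a * S b) from hR.anti_of_Bv hB, Units.val_neg, Matrix.neg_mulVec,
        neg_one_smul]
  have hxw' : ∀ i j, q.B (w i) (x j) = if j = i then 1 else 0 := fun i j => by rw [q.B_comm, hxw]
  obtain ⟨v0, hv0, hfix⟩ := exists_fixed_vector hR.two (fun i => (Sys.lift (x i) : GL ι F))
    (fun i => (Sys.lift (w i) : GL ι F)) (fun i => hR.sq_one_of_Qv (by rw [← hQl, hwQ]))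
    (fun i j => hR.comm_of_Bv (by rw [← hBl, hww]))
    (fun i j hij => hR.comm_of_Bv (by rw [← hBl, hxw', if_neg hij.symm]))
    (fun i => hR.anti_of_Bv (by rw [← hBl, hxw', if_pos rfl]))
  have hS0 : ∀ b, (S b : Matrix ι ι F) *ᵥ v0 = v0 := fun b => by
    refine Subgroup.closure_induction (p := fun (g : GL ι F) _ => (g : Matrix ι ι F) *ᵥ v0 = v0) ?_ ?_ ?_ ?_ (hScl b)
    · rintro _ ⟨i, rfl⟩; exact hfix i
    · simp
    · intro g h _ _ hg hh
      rw [Units.val_mul, ← Matrix.mulVec_mulVec, hh, hg]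
    · intro g _ hg
      nth_rewrite 1 [← hg]
      rw [Matrix.mulVec_mulVec, ← Units.val_mul, inv_mul_cancel, Units.val_one, Matrix.one_mulVec]
  -- the frame
  obtain ⟨e, he⟩ : ∃ e : Bits k → ι → F, e = fun a => (T a : Matrix ι ι F) *ᵥ v0 := ⟨_, rfl⟩
  have heT : ∀ a c, (T a : Matrix ι ι F) *ᵥ e c = e (c + a) := fun a c => by
    rw [he]; simp only
    rw [Matrix.mulVec_mulVec, ← Units.val_mul, ← hTadd, add_comm]
  have heS : ∀ b c, (S b : Matrix ι ι F) *ᵥ e c = (sc (c ⬝ᵥ b) : F) • e c := fun b c => by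
    rw [he]; simp only
    rw [hST, hS0]
  have hiso : ∀ {g}, g ∈ R → ∀ u, Q ((g : Matrix ι ι F) *ᵥ u) = Q u := fun hg => iso_apply (hRQ hg)
  have heQ : ∀ a, Q (e a) = Q v0 := fun a => by rw [he]; exact hiso (hTR a) v0
  have hsep : ∀ a b : Bits k, a ≠ b → ∃ i, (sc (a i) : F) = -sc (b i) := fun a b hab => by
    obtain ⟨i, hi⟩ := Function.ne_iff.1 hab
    refine ⟨i, ?_⟩
    rcases zmod2 (a i) with h | h <;> rcases zmod2 (b i) with h' | h' <;> rw [h, h'] at hi ⊢ <;>
      first | exact absurd rfl hi | simp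
  have horth : ∀ a b, a ≠ b → QuadraticMap.polar ⇑Q (e a) (e b) = 0 := fun a b hab => by
    obtain ⟨i, hi⟩ := hsep a b hab
    have hg := hiso (hSR (uv i))
    have h1 : QuadraticMap.polar ⇑Q ((S (uv i) : Matrix ι ι F) *ᵥ e a) ((S (uv i) : Matrix ι ι F) *ᵥ e b) =
        QuadraticMap.polar ⇑Q (e a) (e b) := by
      simp only [QuadraticMap.polar, ← Matrix.mulVec_add, hg]
    rw [heS, heS, pl_smul_left, pl_smul_right, uv, dotProduct_single, dotProduct_single, mul_one, mul_one,
      hi, ← mul_assoc, neg_mul, sc_sq, neg_one_mul] at h1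
    exact (mul_eq_zero.1 (show (2 : F) * QuadraticMap.polar ⇑Q (e a) (e b) = 0 by linear_combination -h1)).resolve_left
      hR.two
  obtain ⟨M, hM⟩ : ∃ M : Matrix ι (Bits k) F, M = Matrix.of fun m a => e a m := ⟨_, rfl⟩
  have hMx : ∀ u, M *ᵥ u = ∑ a, u a • e a := fun u => by
    funext m
    simp [hM, Matrix.mulVec, dotProduct, mul_comm]
  have hMinj : Function.Injective M.mulVecLin := by
    rw [← LinearMap.ker_eq_bot, LinearMap.ker_eq_bot']
    intro u hu
    rw [Matrix.mulVecLin_apply] at hu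
    funext a
    have key : ∀ s : Finset (Fin k),
        ∑ c ∈ Finset.univ.filter (fun c : Bits k => ∀ i ∈ s, c i = a i), u c • e c = 0 := by
      intro s
      induction s using Finset.induction_on with
      | empty => simpa [hMx] using hu
      | insert i s hi ih =>
        have h1 : ∑ c ∈ Finset.univ.filter (fun c : Bits k => ∀ i ∈ s, c i = a i),
            ((sc (a i) : F) * sc (c i) + 1) • (u c • e c) = 0 := by
          have h := congrArg (fun z => (sc (a i) : F) • ((S (uv i) : Matrix ι ι F) *ᵥ z)) ih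
          simp only [Matrix.mulVec_sum, Matrix.mulVec_smul, heS, Finset.smul_sum, Matrix.mulVec_zero,
            smul_zero, uv, dotProduct_single, mul_one] at h
          simp only [add_smul, one_smul, Finset.sum_add_distrib, ih, add_zero]
          rw [← h]
          refine Finset.sum_congr rfl fun c _ => ?_
          simp only [smul_smul]; congr 1; ring
        have h3 : ∑ c ∈ Finset.univ.filter (fun c : Bits k => ∀ j ∈ insert i s, c j = a j),
            (2 : F) • (u c • e c) = 0 := by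
          rw [← h1]
          refine (Finset.sum_congr rfl fun c hc => ?_).trans (Finset.sum_subset
            (fun c hc => Finset.mem_filter.2 ⟨Finset.mem_univ c,
              fun j hj => (Finset.mem_filter.1 hc).2 j (Finset.mem_insert_of_mem hj)⟩) fun c hc hc' => ?_)
          · rw [(Finset.mem_filter.1 hc).2 i (Finset.mem_insert_self i s), sc_sq, one_add_one_eq_two]
          · have hci : c i ≠ a i := fun e' => hc' (Finset.mem_filter.2 ⟨Finset.mem_univ c, fun j hj => by
              rcases Finset.mem_insert.1 hj with rfl | hj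
              · exact e'
              · exact (Finset.mem_filter.1 hc).2 j hj⟩)
            have h0 : (sc (a i) : F) * sc (c i) + 1 = 0 := by
              rw [← sc_add]
              rcases zmod2 (a i) with h | h <;> rcases zmod2 (c i) with h' | h' <;> rw [h, h'] at hci ⊢ <;>
                first | exact absurd rfl hci | simp
            rw [h0, zero_smul]
        rw [← Finset.smul_sum] at h3
        exact (smul_eq_zero.1 h3).resolve_left hR.two
    have h := key Finset.univ
    rw [show Finset.univ.filter (fun c : Bits k => ∀ i ∈ (Finset.univ : Finset (Fin k)), c i = a i) = {a} by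
      ext c; simp [funext_iff], Finset.sum_singleton] at h
    refine (smul_eq_zero.1 h).resolve_right fun h0 => ?_
    rw [he] at h0
    exact hv0 (Matrix.mulVec_injective_iff_isUnit.2 (T a).isUnit (h0.trans (Matrix.mulVec_zero _).symm))
  obtain ⟨L, hL⟩ : ∃ L : (Bits k → F) ≃ₗ[F] (ι → F), ∀ u, L u = M *ᵥ u :=
    ⟨LinearEquiv.ofBijective M.mulVecLin ⟨hMinj, (LinearMap.injective_iff_surjective_of_finrank_eq_finrank
      (by rw [Module.finrank_fintype_fun_eq_card, Module.finrank_fintype_fun_eq_card, card_bits, hR.card_eq])).1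
        hMinj⟩, fun u => rfl⟩
  obtain ⟨N, hN⟩ : ∃ N : Matrix (Bits k) ι F, ∀ u, N *ᵥ u = L.symm u :=
    ⟨LinearMap.toMatrix' L.symm.toLinearMap, fun u => LinearMap.toMatrix'_mulVec _ u⟩
  have hNM : N * M = 1 := Matrix.ext_iff_mulVec.2 fun u => by
    rw [← Matrix.mulVec_mulVec, Matrix.one_mulVec, hN, ← hL, L.symm_apply_apply]
  have hMN : M * N = 1 := Matrix.ext_iff_mulVec.2 fun u => by
    rw [← Matrix.mulVec_mulVec, Matrix.one_mulVec, ← hL, hN, L.apply_symm_apply]
  let Ψ : Matrix (Bits k) (Bits k) F ≃* Matrix ι ι F :=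
    { toFun := fun g => M * g * N
      invFun := fun g => N * g * M
      left_inv := fun g => by
        simp only [← Matrix.mul_assoc, hNM, Matrix.one_mul]
        rw [Matrix.mul_assoc, hNM, Matrix.mul_one]
      right_inv := fun g => by
        simp only [← Matrix.mul_assoc, hMN, Matrix.one_mul]
        rw [Matrix.mul_assoc, hMN, Matrix.mul_one]
      map_mul' := fun g h => by
        show M * (g * h) * N = M * g * N * (M * h * N)
        simp only [← Matrix.mul_assoc]
        rw [Matrix.mul_assoc _ N M, hNM, Matrix.mul_one] }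
  obtain ⟨φ, hφ⟩ : ∃ φ : GL (Bits k) F ≃* GL ι F, ∀ g, (φ g : Matrix ι ι F) = M * (g : Matrix (Bits k) (Bits k) F) * N :=
    ⟨Units.mapEquiv Ψ, fun g => rfl⟩
  have hφM : ∀ (g : GL (Bits k) F) u, (φ g : Matrix ι ι F) *ᵥ (M *ᵥ u) =
      M *ᵥ ((g : Matrix (Bits k) (Bits k) F) *ᵥ u) := fun g u => by
    rw [hφ, Matrix.mulVec_mulVec, Matrix.mul_assoc _ N M, hNM, Matrix.mul_one, Matrix.mulVec_mulVec]
  have hRle : (R0 k F).map φ.toMonoidHom ≤ R := by
    rintro _ ⟨g, ⟨a, b, z, rfl⟩, rfl⟩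
    obtain ⟨c, hcR, hc⟩ : ∃ c ∈ R, ∀ u : ι → F, (c : Matrix ι ι F) *ᵥ u = (sc z : F) • u := by
      rcases zmod2 z with rfl | rfl
      · exact ⟨1, one_mem _, fun u => by simp⟩
      · exact ⟨-1, hR.neg, fun u => by simp [Matrix.neg_mulVec]⟩
    have key : φ (elt a b z) = c * (T a * S b) := by
      refine Units.ext (Matrix.ext_iff_mulVec.2 fun u => ?_)
      obtain ⟨y, rfl⟩ : ∃ y, M *ᵥ y = u := ⟨L.symm u, by rw [← hL, L.apply_symm_apply]⟩
      rw [hφM, hMx, hMx, Matrix.mulVec_sum, ← Equiv.sum_comp (Equiv.addRight a)]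
      refine Finset.sum_congr rfl fun d _ => ?_
      rw [show ((elt a b z : GL (Bits k) F) : Matrix (Bits k) (Bits k) F) *ᵥ y = _ from rfl, elt,
        mg_mulVec, Units.val_mul, Units.val_mul, ← Matrix.mulVec_mulVec, ← Matrix.mulVec_mulVec,
        Matrix.mulVec_smul, heS]
      simp only [Matrix.mulVec_smul, heT, hc, smul_smul, sc_add]
      rw [dotProduct_comm]
      show _ • e (d + a) = _ • e (d + a)
      congr 1; ring
    show φ (elt a b z) ∈ R
    rw [key]
    exact R.mul_mem hcR (R.mul_mem (hTR a) (hSR b))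
  refine ⟨φ, Subgroup.eq_of_le_of_card_ge hRle ?_, ?_⟩
  · rw [Subgroup.card_map_of_injective φ.injective, (R0_sys hR.two).card, hR.card]
  have hQM : ∀ u, Q (M *ᵥ u) = Q v0 * Frame.sq u := fun u => by
    rw [hMx, Q_sum_orth _ _ fun a _ b _ hab => by
      rw [pl_smul_left, pl_smul_right, horth a b hab, mul_zero, mul_zero], Frame.sq_apply, dotProduct,
      Finset.mul_sum]
    exact Finset.sum_congr rfl fun a _ => by rw [Q_smul, heQ]; ring
  have hc : Q v0 ≠ 0 := fun h0 => hv0 (hQ.1 v0 fun u => by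
    obtain ⟨y, rfl⟩ : ∃ y, M *ᵥ y = u := ⟨L.symm u, by rw [← hL, L.apply_symm_apply]⟩
    rw [QuadraticMap.polarBilin_apply_apply, QuadraticMap.polar, hQM]
    have h := hQM (Pi.single 0 1 + y)
    have e0 : M *ᵥ Pi.single 0 1 = v0 := by
      rw [Matrix.mulVec_single_one]
      funext m
      have hT0 : T 0 = 1 := by
        have := hTadd 0 0
        rw [add_zero] at this
        exact right_eq_mul.1 this
      simp [hM, he, hT0]
    rw [Matrix.mulVec_add, e0] at h
    rw [h, h0]; ring)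
  ext g
  constructor
  · rintro ⟨g, hg, rfl⟩
    refine mem_iso fun u => ?_
    obtain ⟨y, rfl⟩ : ∃ y, M *ᵥ y = u := ⟨L.symm u, by rw [← hL, L.apply_symm_apply]⟩
    show Q ((φ g : Matrix ι ι F) *ᵥ (M *ᵥ y)) = _
    rw [hφM, hQM, hQM, iso_apply hg]
  · intro hg
    refine ⟨φ.symm g, mem_iso fun y => mul_left_cancel₀ hc ?_, φ.apply_symm_apply g⟩
    rw [← hQM, ← hφM, φ.apply_symm_apply, iso_apply hg, hQM]

/-- The normaliser of a system of plus type is maximal. -/
theorem plus_maximal (hprime : (Fintype.card F).Prime) {R : Subgroup (GL ι F)} (hR : Sys k R) (hk : 4 ≤ k)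
    {Q : QuadraticForm F (ι → F)} (hQ : Q.polarBilin.Nondegenerate) (hRQ : R ≤ Cfsg.isometryGroup F ⇑Q)
    (hplus : Cfsg.Geo.IsOfPlusType k R) :
    Cfsg.Geo.IsMaximalIn (Cfsg.Geo.omegaGL ⇑Q) (Cfsg.Geo.subgroupNormalizer R ⊓ Cfsg.Geo.omegaGL ⇑Q) := by
  obtain ⟨φ, hφR, hφO⟩ := exists_model hR (by omega) hQ hRQ hplus
  have h := C5.isMaximalIn_map φ (standard_maximal (F := F) hR.two hprime hk)
  have hΩ : (omg (Bits k) F).map φ.toMonoidHom = Cfsg.Geo.omegaGL ⇑Q := by
    rw [omg, omegaGL_eq_commutator, Subgroup.map_commutator, hφO, omegaGL_eq_commutator]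
  have hN : (Cfsg.Geo.subgroupNormalizer (R0 k F)).map φ.toMonoidHom = Cfsg.Geo.subgroupNormalizer R := by
    rw [Cfsg.Geo.subgroupNormalizer, Cfsg.Geo.subgroupNormalizer, ← hφR]
    exact Subgroup.map_equiv_normalizer_eq _ φ
  rwa [Subgroup.map_inf _ _ _ φ.injective, hΩ, hN] at h

end Cfsg.Agent.C6Orth
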