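import Cfsg.Agent.EqLemmas
import Mathlib.GroupTheory.Sylow
import Mathlib.GroupTheory.FixedPointFree
import Mathlib.Algebra.BigOperators.Group.Finset.Basic
/-!
# Involutions of finite sets and groups of twice odd order

* `exists_common_fixed` : commuting involutions of a finite set of even size with a common fixed point
* `neg_inv_of_fpf`      : an automorphism of order two with only trivial fixed classes inverts every class
-/

set_option autoImplicit false

namespace Cfsg.Agent.C6Orth

theorem even_card_fixed {X : Type*} [Finite X] (g : X → X) (hg : ∀ x, g (g x) = x) :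
    (Even (Nat.card X) ↔ Even (Nat.card {x : X // g x = x})) := by
  classical
  have := Fintype.ofFinite X
  have h : ∑ _x ∈ (Finset.univ.filter fun x : X => g x ≠ x), (1 : ZMod 2) = 0 :=
    Finset.sum_involution (fun x _ => g x) (fun _ _ => rfl)
      (fun x hx _ => (Finset.mem_filter.1 hx).2)
      (fun x hx => Finset.mem_filter.2 ⟨Finset.mem_univ _, fun e => (Finset.mem_filter.1 hx).2 (by
        rw [hg] at e; exact e.symm)⟩)
      (fun x _ => hg x)
  rw [Finset.sum_const, nsmul_one, ZMod.natCast_eq_zero_iff_even] at h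
  have hsplit := Finset.card_filter_add_card_filter_not (s := (Finset.univ : Finset X)) (fun x => g x = x)
  rw [Nat.card_eq_fintype_card, Nat.card_eq_fintype_card, Fintype.card_subtype, ← Finset.card_univ, ← hsplit,
    Nat.even_add]
  simp only [ne_eq] at h
  simp [h]

/-- Commuting involutions with a common fixed point have another one. -/
theorem exists_common_fixed {X I : Type*} [Finite X] [Finite I] (hX : Even (Nat.card X)) (x0 : X)
    (f : I → X → X) (hinv : ∀ i x, f i (f i x) = x) (hcomm : ∀ i j x, f i (f j x) = f j (f i x))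
    (h0 : ∀ i, f i x0 = x0) : ∃ x, x ≠ x0 ∧ ∀ i, f i x = x := by
  classical
  have := Fintype.ofFinite I
  have key : ∀ s : Finset I, Even (Nat.card {x : X // ∀ i ∈ s, f i x = x}) := by
    intro s
    induction s using Finset.induction_on with
    | empty => simpa using hX
    | insert i s his ih =>
      let g : {x : X // ∀ j ∈ s, f j x = x} → {x : X // ∀ j ∈ s, f j x = x} := fun x =>
        ⟨f i x, fun j hj => by rw [hcomm, x.2 j hj]⟩
      have h := (even_card_fixed g fun x => Subtype.ext (hinv i x)).1 ih
      refine (Nat.card_congr ?_).symm ▸ h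
      exact
        { toFun := fun x => ⟨⟨x.1, fun j hj => x.2 j (Finset.mem_insert_of_mem hj)⟩,
            Subtype.ext (x.2 i (Finset.mem_insert_self i s))⟩
          invFun := fun x => ⟨x.1.1, fun j hj => by
            rcases Finset.mem_insert.1 hj with rfl | hj
            · exact congrArg Subtype.val x.2
            · exact x.1.2 j hj⟩
          left_inv := fun x => rfl
          right_inv := fun x => rfl }
  by_contra hno
  push Not at hno
  have h1 : Nat.card {x : X // ∀ i ∈ (Finset.univ : Finset I), f i x = x} = 1 := by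
    rw [Nat.card_eq_one_iff_exists]
    refine ⟨⟨x0, fun i _ => h0 i⟩, fun y => Subtype.ext ?_⟩
    by_contra hne
    obtain ⟨i, hi⟩ := hno _ hne
    exact hi (y.2 i (Finset.mem_univ i))
  have := key Finset.univ
  rw [h1] at this
  exact Nat.not_even_one this

/-- Fixed-point-free modulo the signs means inverting modulo the signs. -/
theorem neg_inv_of_fpf {G : Type*} [Group G] [Finite G] (Z : Subgroup G) [Z.Normal] (φ : G ≃* G)
    (hinv : ∀ x, φ (φ x) = x) (hZ : ∀ z ∈ Z, φ z ∈ Z) (hfix : ∀ x, x⁻¹ * φ x ∈ Z → x ∈ Z) (x : G) :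
    x * φ x ∈ Z := by
  let ψ : G ⧸ Z →* G ⧸ Z := QuotientGroup.map Z Z φ.toMonoidHom fun z hz => hZ z hz
  have hψ : ∀ y : G, ψ (y : G ⧸ Z) = ((φ y : G) : G ⧸ Z) := fun y => rfl
  have hff : MonoidHom.FixedPointFree ψ := by
    intro q hq
    obtain ⟨y, rfl⟩ := QuotientGroup.mk_surjective q
    rw [hψ] at hq
    refine (QuotientGroup.eq_one_iff y).2 (hfix y ?_)
    exact QuotientGroup.eq.1 hq.symm
  have hinv' : Function.Involutive ψ := fun q => by
    obtain ⟨y, rfl⟩ := QuotientGroup.mk_surjective q
    rw [hψ, hψ, hinv]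
  have e := congrFun (hff.coe_eq_inv_of_involutive hinv') (x : G ⧸ Z)
  rw [hψ] at e
  rw [← QuotientGroup.eq_one_iff, QuotientGroup.mk_mul, e, mul_inv_cancel]

end Cfsg.Agent.C6Orth
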