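import Cfsg.Agent.Lib.C6Orth.Block
import Cfsg.Agent.Lib.C6Orth.Pairs
import Cfsg.Agent.Lib.C6Orth.Fixed
import Cfsg.Agent.EqLemmas
import Mathlib.GroupTheory.Transfer
/-!
# The kernel of the projection

* `core_le` : a group normalised by the normaliser in which the centraliser of the top sign lies in the
  standard group lies in it
-/

set_option autoImplicit false
set_option linter.unusedSectionVars false
set_option linter.style.haveILetI false

namespace Cfsg.Agent.C6Orth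

open Matrix
open Cfsg.Agent.C6Gen

variable {k : ℕ} {F : Type*} [Field F] [Fintype F]

theorem lastS_invol (h2 : (2 : F) ≠ 0) :
    lastS k F * lastS k F = 1 ∧ lastS k F ≠ 1 ∧ lastS k F ≠ -1 := by
  refine ⟨by rw [lastS, elt_sq, dotProduct_zero, elt_zero], fun h => ?_, fun h => ?_⟩
  · rw [lastS, ← elt_zero] at h
    have := congrFun (elt_inj h2 h).2.1 (Fin.last k)
    simp at this
  · rw [lastS, neg_one_elt] at h
    exact zero_ne_one (elt_inj h2 h).2.2

set_option maxHeartbeats 800000 in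
/-- The kernel lies in the standard group. -/
theorem core_le (h2 : (2 : F) ≠ 0) (hk : 3 ≤ k + 1) {K : Subgroup (GL (Bits (k + 1)) F)}
    (hR0K : R0 (k + 1) F ≤ K)
    (hnorm : ∀ n ∈ Cfsg.Geo.subgroupNormalizer (R0 (k + 1) F), n ∈ orth (Bits (k + 1)) F →
      ∀ x ∈ K, n * x * n⁻¹ ∈ K)
    (hcent : ∀ x ∈ K, x * lastS k F = lastS k F * x → x ∈ R0 (k + 1) F) : K ≤ R0 (k + 1) F := by
  classical
  have hR := R0_sys (F := F) (k := k + 1) h2
  letI := hR.addCommGroup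
  letI := hR.module2
  have := hR.finite
  have := hR.finiteR
  obtain ⟨q, hq⟩ : ∃ q, q = hR.quad hk := ⟨_, rfl⟩
  have hneg : (-1 : GL (Bits (k + 1)) F) ∈ K := hR0K hR.neg
  -- all noncentral involutions
  have hcent' : ∀ d ∈ R0 (k + 1) F, d * d = 1 → d ≠ 1 → d ≠ -1 → ∀ x ∈ K, x * d = d * x → x ∈ R0 (k + 1) F := by
    intro d hd hdd hd1 hd2 x hx hxd
    obtain ⟨n, hn, hnO, hnd⟩ := hR.exists_move hk R0_le_orth (hasPairs_orth h2) hd (elt_mem _ _ _) hdd
      (lastS_invol h2).1 hd1 hd2 (lastS_invol h2).2.1 (lastS_invol h2).2.2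
    have h := hcent _ (hnorm n hn hnO x hx) (by
      show n * x * n⁻¹ * lastS k F = lastS k F * (n * x * n⁻¹)
      rw [show lastS k F = n * d * n⁻¹ from hnd.symm,
        show n * x * n⁻¹ * (n * d * n⁻¹) = n * (x * d) * n⁻¹ by group, hxd]
      group)
    exact (Subgroup.mem_normalizer_iff.mp hn x).2 h
  -- up to sign
  have hcentpm : ∀ d ∈ R0 (k + 1) F, d * d = 1 → d ≠ 1 → d ≠ -1 → ∀ x ∈ K,
      (x * d * x⁻¹ = d ∨ x * d * x⁻¹ = -d) → x ∈ R0 (k + 1) F := by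
    intro d hd hdd hd1 hd2 x hx h
    rcases h with h | h
    · exact hcent' d hd hdd hd1 hd2 x hx (mul_inv_eq_iff_eq_mul.1 h)
    · obtain ⟨y, hy, hdy⟩ := hR.exists_anti hd hd1 hd2
      have h' := hcent' d hd hdd hd1 hd2 (y * x) (K.mul_mem (hR0K hy) hx) (by
        rw [mul_assoc, mul_inv_eq_iff_eq_mul.1 h, neg_mul, mul_neg, ← mul_assoc,
          show y * d = -(d * y) by rw [hdy, neg_neg], neg_mul, neg_neg, mul_assoc])
      exact ((R0 (k + 1) F).mul_mem_cancel_left hy).1 h'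
  -- the normaliser of the standard group in `K`
  have hself : ∀ x ∈ K, (∀ p ∈ R0 (k + 1) F, x * p * x⁻¹ ∈ R0 (k + 1) F) → x ∈ R0 (k + 1) F := by
    intro x0 hx0 hx0N
    let KN : Subgroup (GL (Bits (k + 1)) F) := K ⊓ Cfsg.Geo.subgroupNormalizer (R0 (k + 1) F)
    have hconj : ∀ {x}, x ∈ KN → ∀ p ∈ R0 (k + 1) F, x * p * x⁻¹ ∈ R0 (k + 1) F := fun hx p hp =>
      (Subgroup.mem_normalizer_iff.mp hx.2 p).1 hp
    by_contra hxR
    let Act (x : GL (Bits (k + 1)) F) (σ : VB (R0 (k + 1) F) ≃ₗ[ZMod 2] VB (R0 (k + 1) F)) : Prop :=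
      ∀ (p p' : R0 (k + 1) F), (p' : GL (Bits (k + 1)) F) = x * p * x⁻¹ →
        σ (Additive.ofMul (bar p)) = Additive.ofMul (bar p')
    let Kbar : Subgroup (VB (R0 (k + 1) F) ≃ₗ[ZMod 2] VB (R0 (k + 1) F)) :=
      { carrier := {σ | ∃ x ∈ KN, Act x σ}
        one_mem' := ⟨1, KN.one_mem, fun p p' hp => by
          rw [show p' = p from Subtype.ext (by rw [hp]; group)]; rfl⟩
        mul_mem' := fun {σ τ} ⟨x, hx, hx'⟩ ⟨y, hy, hy'⟩ => ⟨x * y, KN.mul_mem hx hy, fun p p' hp => by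
          show σ (τ _) = _
          rw [hy' p ⟨_, hconj hy p p.2⟩ rfl]
          exact hx' _ p' (by rw [hp]; group)⟩
        inv_mem' := fun {σ} ⟨x, hx, hx'⟩ => ⟨x⁻¹, KN.inv_mem hx, fun p p' hp => by
          show σ.symm _ = _
          rw [LinearEquiv.symm_apply_eq]
          exact (hx' p' p (by rw [hp]; group)).symm⟩ }
    have hiso : ∀ σ ∈ Kbar, q.Isom σ := by
      rintro σ ⟨x, hx, hx'⟩ v
      obtain ⟨p', hp'⟩ : ∃ p' : R0 (k + 1) F, (p' : GL (Bits (k + 1)) F) = x * (Sys.lift v : GL (Bits (k + 1)) F) * x⁻¹ :=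
        ⟨⟨_, hconj hx _ (Sys.lift v).2⟩, rfl⟩
      have he := hx' _ p' hp'
      rw [hR.lift_ofMul] at he
      rw [he, hq, hR.Q_bar hk]
      conv_rhs => rw [← hR.lift_ofMul v, hR.Q_bar hk]
      have key : (p' : GL (Bits (k + 1)) F) * p' =
          x * ((Sys.lift v : GL (Bits (k + 1)) F) * Sys.lift v) * x⁻¹ := by rw [hp']; group
      simp only [Qv, key, conj_eq_one_iff]
    have hKpair : ∀ a b, q.Q a = 1 → q.Q b = 1 → ∀ σ ∈ Kbar,
        ∀ σ' : VB (R0 (k + 1) F) ≃ₗ[ZMod 2] VB (R0 (k + 1) F),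
        (∀ v, σ' (q.tr a (q.tr b v)) = q.tr a (q.tr b (σ v))) → σ' ∈ Kbar := by
      rintro a b ha hb σ ⟨x, hx, hx'⟩ σ' hσ'
      obtain ⟨A, hA⟩ : ∃ A : R0 (k + 1) F, A = Sys.lift a := ⟨_, rfl⟩
      obtain ⟨B, hB⟩ : ∃ B : R0 (k + 1) F, B = Sys.lift b := ⟨_, rfl⟩
      have hAA : (A : GL (Bits (k + 1)) F) * A = -1 :=
        hR.sq_neg_of_Qv (by rw [hA, ← hR.Q_bar hk, hR.lift_ofMul, ← hq]; exact ha)
      have hBB : (B : GL (Bits (k + 1)) F) * B = -1 :=
        hR.sq_neg_of_Qv (by rw [hB, ← hR.Q_bar hk, hR.lift_ofMul, ← hq]; exact hb)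
      obtain ⟨m, hm, hmv, hmc⟩ := hR.exists_pair_normal A.2 B.2 hAA hBB
      have hmO : m ∈ orth (Bits (k + 1)) F := hasPairs_orth h2 _ A.2 _ B.2 hAA hBB m hmv
      refine ⟨m * x * m⁻¹, ⟨hnorm m hm hmO x hx.1, (Cfsg.Geo.subgroupNormalizer (R0 (k + 1) F)).mul_mem ((Cfsg.Geo.subgroupNormalizer (R0 (k + 1) F)).mul_mem hm hx.2) ((Cfsg.Geo.subgroupNormalizer (R0 (k + 1) F)).inv_mem hm)⟩, fun p p' hp => ?_⟩
      have htau : ∀ p p' : R0 (k + 1) F, (p' : GL (Bits (k + 1)) F) = m * p * m⁻¹ →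
          q.tr a (q.tr b (Additive.ofMul (bar p))) = Additive.ofMul (bar p') := by
        intro p p' hp
        have hstep : ∀ (c : VB (R0 (k + 1) F)) (C z w : R0 (k + 1) F), C = Sys.lift c →
            ((w : GL (Bits (k + 1)) F) = z ∧ (z : GL (Bits (k + 1)) F) * C = C * z ∨
              (w : GL (Bits (k + 1)) F) = C * z ∧ (z : GL (Bits (k + 1)) F) * C = -(C * z)) →
            q.tr c (Additive.ofMul (bar z)) = Additive.ofMul (bar w) := by
          intro c C z w hC hw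
          have hBv : q.B (Additive.ofMul (bar z)) c = Bv z C := by
            rw [hq, ← hR.lift_ofMul c, hR.B_bar hk, hC]
          rw [q.tr_apply, hBv]
          rcases hw with ⟨e1, e2⟩ | ⟨e1, e2⟩
          · rw [hR.Bv_zero e2, zero_smul, add_zero, show w = z from Subtype.ext e1]
          · rw [hR.Bv_one e2, one_smul, show w = C * z from Subtype.ext e1, bar_mul]
            rw [show Additive.ofMul (bar C * bar z) = Additive.ofMul (bar C) + Additive.ofMul (bar z) from rfl,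
              hC, hR.lift_ofMul]
            exact add_comm _ _
        obtain ⟨y, hy, hy'⟩ := hmc p p.2
        have hyR : y ∈ R0 (k + 1) F := by
          rcases hy with ⟨e1, -⟩ | ⟨e1, -⟩ <;> rw [e1]
          exacts [p.2, mul_mem B.2 p.2]
        rw [hstep b B p ⟨y, hyR⟩ hB hy, hstep a A ⟨y, hyR⟩ p' hA (by rw [hp]; exact hy')]
      obtain ⟨p0, hp0⟩ : ∃ p0 : R0 (k + 1) F, (p0 : GL (Bits (k + 1)) F) = m⁻¹ * p * m :=
        ⟨⟨_, by simpa using (Subgroup.mem_normalizer_iff.mp (inv_mem hm) p).mp p.2⟩, rfl⟩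
      rw [← htau p0 p (by rw [hp0]; group), hσ', hx' p0 ⟨_, hconj hx p0 p0.2⟩ rfl]
      exact htau _ p' (by show _ = m * (x * (p0 : GL (Bits (k + 1)) F) * x⁻¹) * m⁻¹; rw [hp, hp0]; group)
    have hx0KN : x0 ∈ KN := ⟨hx0, mem_normalizer_of hx0N⟩
    -- the action of `x0`
    let f : VB (R0 (k + 1) F) →ₗ[ZMod 2] VB (R0 (k + 1) F) := (AddMonoidHom.mk' (fun v =>
      Additive.ofMul (bar (⟨_, hconj hx0KN _ (Sys.lift v).2⟩ : R0 (k + 1) F))) fun u v => by
        show Additive.ofMul _ = Additive.ofMul _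
        congr 1
        show bar _ = bar _ * bar _
        rw [← bar_mul, bar_eq]
        have huv : bar (Sys.lift (u + v)) = bar (Sys.lift u * Sys.lift v) := by
          rw [bar_mul, Sys.bar_lift, Sys.bar_lift, Sys.bar_lift]; rfl
        rcases bar_eq.1 huv with e1 | e1
        · left
          show x0 * _ * x0⁻¹ * (x0 * _ * x0⁻¹) = x0 * _ * x0⁻¹
          rw [Subgroup.coe_mul] at e1
          rw [← e1]; group
        · right
          show x0 * _ * x0⁻¹ * (x0 * _ * x0⁻¹) = -(x0 * _ * x0⁻¹)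
          rw [Subgroup.coe_mul] at e1
          rw [show x0 * (Sys.lift u : GL (Bits (k + 1)) F) * x0⁻¹ * (x0 * (Sys.lift v : GL (Bits (k + 1)) F) * x0⁻¹) =
            x0 * ((Sys.lift u : GL (Bits (k + 1)) F) * Sys.lift v) * x0⁻¹ by group, e1, mul_neg, neg_mul]).toZModLinearMap 2
    have hbarconj : ∀ (p p' : R0 (k + 1) F), (p' : GL (Bits (k + 1)) F) = x0 * p * x0⁻¹ →
        f (Additive.ofMul (bar p)) = Additive.ofMul (bar p') := by
      intro p p' hp'
      show Additive.ofMul _ = Additive.ofMul _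
      congr 1
      rw [bar_eq, hp']
      rcases bar_eq.1 (Sys.bar_lift (Additive.ofMul (bar p) : VB (R0 (k + 1) F))) with e1 | e1
      · left; show _ = x0 * _ * x0⁻¹; rw [e1]
      · right
        show _ = -(x0 * _ * x0⁻¹)
        rw [e1]; simp
    have hinj : Function.Injective f := fun u v huv => by
      obtain ⟨pu, hpu⟩ : ∃ pu : R0 (k + 1) F, (pu : GL (Bits (k + 1)) F) = x0 * (Sys.lift u : GL (Bits (k + 1)) F) * x0⁻¹ :=
        ⟨⟨_, hconj hx0KN _ (Sys.lift u).2⟩, rfl⟩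
      obtain ⟨pv, hpv⟩ : ∃ pv : R0 (k + 1) F, (pv : GL (Bits (k + 1)) F) = x0 * (Sys.lift v : GL (Bits (k + 1)) F) * x0⁻¹ :=
        ⟨⟨_, hconj hx0KN _ (Sys.lift v).2⟩, rfl⟩
      have e1 := hbarconj _ pu hpu
      have e2 := hbarconj _ pv hpv
      rw [hR.lift_ofMul] at e1 e2
      rw [e1, e2] at huv
      rw [← hR.lift_ofMul u, ← hR.lift_ofMul v]
      congr 1
      rw [bar_eq]
      rcases bar_eq.1 (Additive.ofMul.injective huv) with e3 | e3 <;> rw [hpu, hpv] at e3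
      · exact Or.inl (mul_left_cancel (mul_right_cancel e3))
      · exact Or.inr (mul_left_cancel (mul_right_cancel (e3.trans (by rw [mul_neg, neg_mul]))))
    obtain ⟨σ0, hσ0⟩ : ∃ σ : VB (R0 (k + 1) F) ≃ₗ[ZMod 2] VB (R0 (k + 1) F), ∀ v, σ v = f v :=
      ⟨LinearEquiv.ofBijective f ⟨hinj, Finite.injective_iff_surjective.1 hinj⟩, fun _ => rfl⟩
    have hσ0K : σ0 ∈ Kbar := ⟨x0, hx0KN, fun p p' hp' => by rw [hσ0]; exact hbarconj p p' hp'⟩
    -- a nontrivial action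
    have hne : Kbar ≠ ⊥ := fun hbot => by
      rw [hbot, Subgroup.mem_bot] at hσ0K
      obtain ⟨p', hp'⟩ : ∃ p' : R0 (k + 1) F,
          (p' : GL (Bits (k + 1)) F) = x0 * lastS k F * x0⁻¹ := ⟨⟨_, hconj hx0KN _ (elt_mem _ _ _)⟩, rfl⟩
      have e1 := hbarconj ⟨lastS k F, elt_mem _ _ _⟩ p' hp'
      rw [← hσ0, hσ0K] at e1
      refine hxR (hcentpm _ (elt_mem _ _ _) (lastS_invol h2).1 (lastS_invol h2).2.1 (lastS_invol h2).2.2 x0 hx0 ?_)
      show x0 * lastS k F * x0⁻¹ = lastS k F ∨ x0 * lastS k F * x0⁻¹ = -lastS k F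
      rcases bar_eq.1 (Additive.ofMul.injective e1) with e2 | e2
      · exact Or.inl (hp'.symm.trans e2)
      · exact Or.inr (hp'.symm.trans e2)
    obtain ⟨σ, ⟨x, hx, hσ⟩, γ, hγ0, hγQ, hσγ, π, -, hπ1, -⟩ := q.exists_local Kbar hiso hKpair hne
    obtain ⟨d, hd⟩ : ∃ d : R0 (k + 1) F, d = Sys.lift γ := ⟨_, rfl⟩
    have hdγ : Additive.ofMul (bar d) = γ := hd ▸ hR.lift_ofMul γ
    have hdd : (d : GL (Bits (k + 1)) F) * d = 1 := hR.sq_one_of_Qv (by rw [← hR.Q_bar hk, hdγ, ← hq]; exact hγQ)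
    have hd1 : (d : GL (Bits (k + 1)) F) ≠ 1 := fun e => hγ0 (by rw [← hdγ, show d = 1 from Subtype.ext e]; rfl)
    have hd2 : (d : GL (Bits (k + 1)) F) ≠ -1 := fun e => hγ0 (by
      rw [← hdγ, show bar d = bar 1 from bar_eq.2 (Or.inr (by rw [e, neg_neg]; rfl))]; rfl)
    have hxR' : x ∈ R0 (k + 1) F := by
      refine hcentpm _ d.2 hdd hd1 hd2 x hx.1 ?_
      obtain ⟨p', hp'⟩ : ∃ p' : R0 (k + 1) F, (p' : GL (Bits (k + 1)) F) = x * d * x⁻¹ :=
        ⟨⟨_, hconj hx _ d.2⟩, rfl⟩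
      have e1 := hσ d p' hp'
      rw [hdγ, hσγ, ← hdγ] at e1
      rcases bar_eq.1 (Additive.ofMul.injective e1) with e2 | e2 <;> rw [← hp', e2]
      exacts [Or.inl rfl, Or.inr rfl]
    obtain ⟨P, hP⟩ : ∃ P : R0 (k + 1) F, P = Sys.lift π := ⟨_, rfl⟩
    have hPπ : Additive.ofMul (bar P) = π := hP ▸ hR.lift_ofMul π
    obtain ⟨p', hp'⟩ : ∃ p' : R0 (k + 1) F, (p' : GL (Bits (k + 1)) F) = x * P * x⁻¹ :=
      ⟨⟨_, hconj hx _ P.2⟩, rfl⟩
    refine hπ1 ?_
    rw [← hPπ, hσ P p' hp']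
    congr 1
    rw [bar_eq, hp']
    rcases hR.comm x hxR' P P.2 with e | e
    · exact Or.inl (by rw [e, mul_inv_cancel_right])
    · exact Or.inr (by rw [e, neg_mul, mul_inv_cancel_right, neg_neg])
  -- the quotient by `± 1`
  let Z : Subgroup K := pmIn K
  let V0 : Subgroup K := (R0 (k + 1) F).subgroupOf K
  have hZV : ∀ z ∈ Z, z ∈ V0 := fun z hz => by
    rcases hz with h | h
    · show (z : GL (Bits (k + 1)) F) ∈ R0 (k + 1) F; rw [h]; exact one_mem _
    · show (z : GL (Bits (k + 1)) F) ∈ R0 (k + 1) F; rw [h]; exact hR.neg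
  let π : K →* K ⧸ Z := QuotientGroup.mk' Z
  let V : Subgroup (K ⧸ Z) := V0.map π
  have hmemV : ∀ g : K, π g ∈ V ↔ (g : GL (Bits (k + 1)) F) ∈ R0 (k + 1) F := fun g => by
    refine ⟨fun h => ?_, fun h => Subgroup.mem_map_of_mem π (show g ∈ V0 from h)⟩
    obtain ⟨g', hg', e⟩ := h
    have := hZV _ (QuotientGroup.eq.1 e)
    have h' := V0.mul_mem hg' this
    rwa [mul_inv_cancel_left] at h'
  have hVsq : ∀ v ∈ V, v * v = 1 := by
    rintro _ ⟨g, hg, rfl⟩
    rw [← map_mul]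
    exact (QuotientGroup.eq_one_iff _).2 ((hR.sq _ hg).imp id id)
  have hVp : IsPGroup 2 V := fun v => ⟨1, Subtype.ext (by
    show ((v ^ 2 ^ 1 : V) : K ⧸ Z) = 1
    rw [pow_one, pow_two]; exact hVsq _ v.2)⟩
  obtain ⟨P, hP⟩ := hVp.exists_le_sylow
  have hPV : (P : Subgroup (K ⧸ Z)) = V := by
    by_contra hne
    haveI : Finite (P : Subgroup (K ⧸ Z)) := inferInstance
    haveI := P.2.isNilpotent
    have hlt : V.subgroupOf P < ⊤ := lt_top_iff_ne_top.2 fun e =>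
      hne (le_antisymm (Subgroup.subgroupOf_eq_top.1 e) hP)
    obtain ⟨y, hyN, hy⟩ := SetLike.exists_of_lt (Group.normalizerCondition_of_isNilpotent _ hlt)
    obtain ⟨g, hg⟩ := QuotientGroup.mk'_surjective Z (y : K ⧸ Z)
    refine hy ?_
    show (y : K ⧸ Z) ∈ V
    rw [← hg]
    refine (hmemV g).2 (hself g g.2 fun p hp => ?_)
    have hpV : π ⟨p, hR0K hp⟩ ∈ V := (hmemV _).2 hp
    have h := (Subgroup.mem_normalizer_iff.mp hyN ⟨π ⟨p, hR0K hp⟩, hP hpV⟩).1
      (show π ⟨p, hR0K hp⟩ ∈ V from hpV)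
    have h' : (y : K ⧸ Z) * π ⟨p, hR0K hp⟩ * (y : K ⧸ Z)⁻¹ ∈ V := h
    rw [← hg, ← map_inv, ← map_mul, ← map_mul] at h'
    exact (hmemV _).1 h'
  have hab : ∀ a ∈ (P : Subgroup (K ⧸ Z)), ∀ b ∈ (P : Subgroup (K ⧸ Z)), a * b = b * a := by
    intro a ha b hb
    rw [hPV] at ha hb
    have hab' := hVsq _ (V.mul_mem ha hb)
    calc a * b = (a * b)⁻¹ := eq_inv_of_mul_eq_one_left hab'
      _ = b⁻¹ * a⁻¹ := mul_inv_rev a b
      _ = b * a := by rw [inv_eq_of_mul_eq_one_right (hVsq b hb), inv_eq_of_mul_eq_one_right (hVsq a ha)]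
  -- normal complement
  have hNC : Subgroup.normalizer ((P : Subgroup (K ⧸ Z)) : Set (K ⧸ Z)) ≤
      Subgroup.centralizer ((P : Subgroup (K ⧸ Z)) : Set (K ⧸ Z)) := by
    intro y hy
    obtain ⟨g, rfl⟩ := QuotientGroup.mk'_surjective Z y
    have hgR : (g : GL (Bits (k + 1)) F) ∈ R0 (k + 1) F := hself g g.2 fun p hp => by
      have hpV : π ⟨p, hR0K hp⟩ ∈ (P : Subgroup (K ⧸ Z)) := hP ((hmemV _).2 hp)
      have h := (Subgroup.mem_normalizer_iff.mp hy _).1 hpV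
      rw [hPV, ← map_inv, ← map_mul, ← map_mul] at h
      exact (hmemV _).1 h
    rw [Subgroup.mem_centralizer_iff]
    intro b hb
    exact hab b hb _ (hP ((hmemV g).2 hgR))
  have hcompl := MonoidHom.ker_transferSylow_isComplement' P hNC
  let O : Subgroup (K ⧸ Z) := (MonoidHom.transferSylow P hNC).ker
  haveI hOn : O.Normal := MonoidHom.normal_ker _
  haveI : P.FiniteIndex := inferInstance
  have hOcard : Odd (Nat.card O) := by
    rw [show Nat.card O = (P : Subgroup (K ⧸ Z)).index from hcompl.index_eq_card.symm]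
    rw [← Nat.not_even_iff_odd, even_iff_two_dvd]
    exact P.not_dvd_index
  -- involutions act without fixed points
  have hfpf : ∀ d : K, (d : GL (Bits (k + 1)) F) ∈ R0 (k + 1) F → (d : GL (Bits (k + 1)) F) * d = 1 →
      (d : GL (Bits (k + 1)) F) ≠ 1 → (d : GL (Bits (k + 1)) F) ≠ -1 → ∀ o ∈ O, π d * o * (π d)⁻¹ = o⁻¹ := by
    intro d hd hdd hd1 hd2
    let φ : O →* O :=
      { toFun := fun o => ⟨π d * o * (π d)⁻¹, hOn.conj_mem _ o.2 _⟩
        map_one' := Subtype.ext (by simp)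
        map_mul' := fun a b => Subtype.ext (by simp [mul_assoc]) }
    have hπdd : π d * π d = 1 := by
      rw [← map_mul]
      exact (QuotientGroup.eq_one_iff _).2 (Or.inl hdd)
    have hff : MonoidHom.FixedPointFree φ := fun o ho => by
      obtain ⟨g, hg⟩ := QuotientGroup.mk'_surjective Z (o : K ⧸ Z)
      have e : π d * π g * (π d)⁻¹ = π g := by rw [hg]; exact congrArg Subtype.val ho
      rw [mul_inv_eq_iff_eq_mul] at e
      have e' : π (d * g) = π (g * d) := by rw [map_mul, map_mul, e]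
      have hgR : (g : GL (Bits (k + 1)) F) ∈ R0 (k + 1) F := by
        refine hcentpm _ hd hdd hd1 hd2 g g.2 ?_
        rcases QuotientGroup.eq.1 e' with h | h <;>
          simp only [Subgroup.coe_mul, Subgroup.coe_inv, inv_mul_eq_iff_eq_mul] at h
        · left; rw [mul_inv_eq_iff_eq_mul, h, mul_one]
        · right; rw [mul_inv_eq_iff_eq_mul, h, mul_neg, mul_one, neg_mul]
      refine Subtype.ext ((Subgroup.mem_bot).1 ?_)
      rw [← hcompl.disjoint.eq_bot]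
      exact ⟨o.2, hP (hg ▸ (hmemV g).2 hgR)⟩
    intro o ho
    have e := congrFun (hff.coe_eq_inv_of_involutive fun o => Subtype.ext (by
      show π d * (π d * (o : K ⧸ Z) * (π d)⁻¹) * (π d)⁻¹ = o
      rw [show π d * (π d * (o : K ⧸ Z) * (π d)⁻¹) * (π d)⁻¹ = π d * π d * (o : K ⧸ Z) * (π d * π d)⁻¹ by group,
        hπdd]
      simp)) ⟨o, ho⟩
    exact congrArg Subtype.val e
  obtain ⟨i⟩ : Nonempty (Fin k) := ⟨⟨0, by omega⟩⟩
  have hall : ∀ b : Bits (k + 1), b ≠ 0 → ∀ o ∈ O,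
      π ⟨elt 0 b 0, hR0K (elt_mem _ _ _)⟩ * o * (π ⟨elt 0 b 0, hR0K (elt_mem _ _ _)⟩)⁻¹ = o⁻¹ := fun b hb =>
    hfpf _ (elt_mem _ _ _) (by rw [elt_sq, dotProduct_zero, elt_zero])
      (fun e => hb (elt_inj h2 (e.trans elt_zero.symm)).2.1)
      (fun e => hb (elt_inj h2 (e.trans neg_one_elt)).2.1)
  intro g hg
  refine (hmemV ⟨g, hg⟩).1 ?_
  rw [← hPV]
  have hO1 : O = ⊥ := by
    rw [Subgroup.eq_bot_iff_forall]
    intro o ho
    have hb1 : (sn (Pi.single i 1) 0 : Bits (k + 1)) ≠ 0 := fun e => by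
      have := congrFun e i.castSucc; simp at this
    have hb2 : (sn 0 1 : Bits (k + 1)) ≠ 0 := fun e => by
      have := congrFun e (Fin.last k); simp at this
    have hb3 : (sn (Pi.single i 1) 0 + sn 0 1 : Bits (k + 1)) ≠ 0 := fun e => by
      have := congrFun e (Fin.last k); simp at this
    have e3 := hall _ hb3 o ho
    have hsplit : π ⟨elt 0 (sn (Pi.single i 1) 0 + sn 0 1) 0, hR0K (elt_mem _ _ _)⟩ =
        π ⟨elt 0 (sn (Pi.single i 1) 0) 0, hR0K (elt_mem _ _ _)⟩ *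
          π ⟨elt 0 (sn 0 1) 0, hR0K (elt_mem _ _ _)⟩ := by
      rw [← map_mul]
      congr 1
      exact Subtype.ext (by rw [Subgroup.coe_mul, elt_mul]; simp)
    rw [hsplit] at e3
    rw [show ∀ a b c : K ⧸ Z, a * b * c * (a * b)⁻¹ = a * (b * c * b⁻¹) * a⁻¹ from fun a b c => by group,
      hall _ hb2 o ho, hall _ hb1 _ (O.inv_mem ho), inv_inv] at e3
    have hsq : o ^ 2 = 1 := by rw [pow_two]; nth_rewrite 1 [e3]; exact inv_mul_cancel o
    have hdvd : orderOf o ∣ Nat.card O := by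
      rw [← Subgroup.orderOf_mk o ho]; exact orderOf_dvd_natCard _
    exact orderOf_eq_one_iff.1 (Nat.eq_one_of_dvd_coprimes
      ((Nat.prime_two.coprime_iff_not_dvd).2 fun h => Nat.not_even_iff_odd.2 hOcard (even_iff_two_dvd.2 h))
      (orderOf_dvd_of_pow_eq_one hsq) hdvd)
  have := hcompl.sup_eq_top
  rw [show (MonoidHom.transferSylow P hNC).ker = O from rfl, hO1, bot_sup_eq] at this
  rw [this]; trivial

end Cfsg.Agent.C6Orth
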