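import Cfsg.Agent.Lib.C6Orth.Model
import Cfsg.Agent.EqLemmas
/-!
# Controlled flips generate the even permutations and the even signs

* `gate I b`  : flip the coordinate `b` where the coordinates in `I` vanish
* `ind I`     : the indicator of the vanishing of the coordinates in `I`
* `Gen G`     : a group containing the translations, the transvections, one gate with two controls and
  one indicator with three
* `Gen.perm_sq`, `Gen.pair_sign`
-/

set_option autoImplicit false
set_option linter.unusedSectionVars false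

namespace Cfsg.Agent.C6Orth

open Matrix

variable {n : ℕ} {F : Type*} [Field F]

/-- The unit vectors. -/
abbrev uv (i : Fin n) : Bits n := Pi.single i 1

theorem uv_ne_zero (i : Fin n) : uv i ≠ 0 := fun h => by simpa [uv] using congrFun h i

theorem uv_ne {i j : Fin n} (h : i ≠ j) : uv i ≠ uv j := fun e => by
  simpa [uv, h] using congrFun e i

theorem zmod2_add_self (z : ZMod 2) : z + z = 0 := CharTwo.add_self_eq_zero z

/-- The coordinates in `I` vanish. -/
def Ctl (I : Finset (Fin n)) (x : Bits n) : Prop := ∀ i ∈ I, x i = 0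

instance (I : Finset (Fin n)) (x : Bits n) : Decidable (Ctl I x) :=
  inferInstanceAs (Decidable (∀ i ∈ I, x i = 0))

theorem ctl_add_uv {I : Finset (Fin n)} {b : Fin n} (h : b ∉ I) (x : Bits n) :
    Ctl I (x + uv b) ↔ Ctl I x :=
  forall₂_congr fun i hi => by rw [Pi.add_apply, uv, Pi.single_eq_of_ne (ne_of_mem_of_not_mem hi h), add_zero]

theorem ctl_insert {I : Finset (Fin n)} {b : Fin n} (x : Bits n) :
    Ctl (insert b I) x ↔ x b = 0 ∧ Ctl I x := Finset.forall_mem_insert ..

theorem add_uv_cancel (x : Bits n) (b : Fin n) : x + uv b + uv b = x := by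
  rw [add_assoc, bits_add_self, add_zero]

/-- Flip `b` where the coordinates in `I` vanish. -/
def gate (I : Finset (Fin n)) (b : Fin n) (h : b ∉ I) : Equiv.Perm (Bits n) :=
  Function.Involutive.toPerm (fun x => if Ctl I x then x + uv b else x) fun x => by
    by_cases hc : Ctl I x
    · simp only [hc, if_true, (ctl_add_uv h x).2 hc, add_uv_cancel]
    · simp [hc]

theorem gate_apply (I : Finset (Fin n)) (b : Fin n) (h : b ∉ I) (x : Bits n) :
    gate I b h x = if Ctl I x then x + uv b else x := rfl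

theorem gate_inv (I : Finset (Fin n)) (b : Fin n) (h : b ∉ I) : (gate I b h)⁻¹ = gate I b h :=
  Equiv.ext fun x => by
    rw [Equiv.Perm.inv_def]
    exact Equiv.congr_fun (Function.Involutive.toPerm_symm _) x

/-- The indicator. -/
def ind (I : Finset (Fin n)) (x : Bits n) : ZMod 2 := if Ctl I x then 1 else 0

theorem ind_insert {I : Finset (Fin n)} {b : Fin n} (x : Bits n) :
    ind (insert b I) x = (1 + x b) * ind I x := by
  simp only [ind, ctl_insert]
  rcases C6Gen.zmod2 (x b) with h | h <;> by_cases hc : Ctl I x <;>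
    simp [h, hc, show (1 : ZMod 2) + 1 = 0 from rfl]

/-- Permuting the coordinates. -/
def cp (σ : Equiv.Perm (Fin n)) : Equiv.Perm (Bits n) := Equiv.arrowCongr σ (Equiv.refl _)

theorem cp_apply (σ : Equiv.Perm (Fin n)) (x : Bits n) (i : Fin n) : cp σ x (σ i) = x i := by
  simp [cp, Equiv.arrowCongr]

theorem cp_inv_apply (σ : Equiv.Perm (Fin n)) (x : Bits n) (i : Fin n) : (cp σ)⁻¹ x i = x (σ i) := by
  conv_rhs => rw [← (cp σ).apply_symm_apply x]
  rw [cp_apply, Equiv.Perm.inv_def]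

/-- The signed permutations in question. -/
structure Gen (G : Subgroup (GL (Bits n) F)) : Prop where
  four_le : 4 ≤ n
  trans : ∀ a : Bits n, mg (Equiv.addRight a) 0 ∈ G
  transv : ∀ (f w : Bits n) (h : f ⬝ᵥ w = 0), mg (tv f w h).toEquiv 0 ∈ G
  gate_mem : ∃ (p q b : Fin n) (_ : p ≠ q) (h : b ∉ ({p, q} : Finset (Fin n))), mg (gate {p, q} b h) 0 ∈ G
  ind_mem : ∃ (p q r : Fin n) (_ : p ≠ q) (_ : p ≠ r) (_ : q ≠ r), mg 1 (ind {p, q, r}) ∈ G

namespace Gen

variable {G : Subgroup (GL (Bits n) F)} (hG : Gen G)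

/-- The permutation matrices. -/
def permHom (n : ℕ) (F : Type*) [Field F] : Equiv.Perm (Bits n) →* GL (Bits n) F where
  toFun π := mg π 0
  map_one' := mg_one
  map_mul' π τ := by rw [mg_mul]; simp; rfl

theorem mem_perms {π : Equiv.Perm (Bits n)} : π ∈ G.comap (permHom n F) ↔ mg π 0 ∈ G := Iff.rfl

theorem sign_add {s t : Bits n → ZMod 2} (hs : mg 1 s ∈ G) (ht : mg 1 t ∈ G) : mg 1 (t + s) ∈ G := by
  have h := G.mul_mem hs ht
  rwa [mg_mul, one_mul] at h

theorem sign_comp {s : Bits n → ZMod 2} {π : Equiv.Perm (Bits n)} (hs : mg 1 s ∈ G) (hπ : mg π 0 ∈ G) :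
    mg 1 (fun x => s (π⁻¹ x)) ∈ G := by
  have h := G.mul_mem (G.mul_mem hπ hs) (G.inv_mem hπ)
  rwa [mg_conj_perm, mul_one, mul_inv_cancel] at h

theorem perm_conj {π τ : Equiv.Perm (Bits n)} (hπ : mg π 0 ∈ G) (hτ : mg τ 0 ∈ G) :
    mg (π * τ * π⁻¹) 0 ∈ G :=
  (G.comap (permHom n F)).mul_mem ((G.comap (permHom n F)).mul_mem hπ hτ) ((G.comap (permHom n F)).inv_mem hπ)

include hG

theorem cp_mem (σ : Equiv.Perm (Fin n)) : mg (cp σ) 0 ∈ G := by
  induction σ using Equiv.Perm.swap_induction_on with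
  | one =>
    rw [show cp (1 : Equiv.Perm (Fin n)) = 1 from Equiv.ext fun _ => rfl, mg_one]
    exact one_mem _
  | swap_mul σ i j hij ih =>
    have hw : (uv i + uv j) ⬝ᵥ (uv i + uv j) = 0 := by
      simp [uv, Pi.single_eq_of_ne hij, Pi.single_eq_of_ne hij.symm, show (1 : ZMod 2) + 1 = 0 from rfl]
    have e : cp (Equiv.swap i j * σ) = (tv (uv i + uv j) (uv i + uv j) hw).toEquiv * cp σ := by
      have hsw : cp (Equiv.swap i j) = (tv (uv i + uv j) (uv i + uv j) hw).toEquiv := Equiv.ext fun x => by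
        funext l
        have hl := cp_apply (Equiv.swap i j) x (Equiv.swap i j l)
        rw [Equiv.swap_apply_self] at hl
        rw [hl]
        show _ = (tv (uv i + uv j) (uv i + uv j) hw) x l
        rw [tv_apply, add_dotProduct, uv, uv, single_dotProduct, single_dotProduct, one_mul, one_mul,
          Pi.add_apply, Pi.smul_apply, Pi.add_apply, smul_eq_mul]
        rcases eq_or_ne l i with rfl | hi
        · rw [Equiv.swap_apply_left, Pi.single_eq_same, Pi.single_eq_of_ne hij, add_zero, mul_one,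
            ← add_assoc, zmod2_add_self, zero_add]
        rcases eq_or_ne l j with rfl | hj
        · rw [Equiv.swap_apply_right, Pi.single_eq_same, Pi.single_eq_of_ne hi, zero_add, mul_one,
            add_left_comm, zmod2_add_self, add_zero]
        · rw [Equiv.swap_apply_of_ne_of_ne hi hj, Pi.single_eq_of_ne hi, Pi.single_eq_of_ne hj]; simp
      rw [← hsw]; exact Equiv.ext fun _ => rfl
    rw [e]
    exact (G.comap (permHom n F)).mul_mem (hG.transv _ _ hw) ih

/-- A coordinate permutation moving three coordinates to three given ones. -/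
theorem exists_cp {p q r p' q' r' : Fin n} (hpq : p ≠ q) (hpr : p ≠ r) (hqr : q ≠ r) (hpq' : p' ≠ q')
    (hpr' : p' ≠ r') (hqr' : q' ≠ r') :
    ∃ σ : Equiv.Perm (Fin n), σ p = p' ∧ σ q = q' ∧ σ r = r' := by
  obtain ⟨σ1, h1⟩ : ∃ σ, σ = Equiv.swap p p' := ⟨_, rfl⟩
  obtain ⟨σ2, h2⟩ : ∃ σ, σ = Equiv.swap (σ1 q) q' * σ1 := ⟨_, rfl⟩
  have a1 : σ1 p = p' := by rw [h1, Equiv.swap_apply_left]
  have a2 : σ2 p = p' := by
    rw [h2, Equiv.Perm.mul_apply, a1,
      Equiv.swap_apply_of_ne_of_ne (fun e => hpq (σ1.injective (a1.trans e))) hpq']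
  have b2 : σ2 q = q' := by rw [h2, Equiv.Perm.mul_apply, Equiv.swap_apply_left]
  refine ⟨Equiv.swap (σ2 r) r' * σ2, ?_, ?_, ?_⟩
  · rw [Equiv.Perm.mul_apply, a2, Equiv.swap_apply_of_ne_of_ne (fun e => hpr (σ2.injective (a2.trans e))) hpr']
  · rw [Equiv.Perm.mul_apply, b2, Equiv.swap_apply_of_ne_of_ne (fun e => hqr (σ2.injective (b2.trans e))) hqr']
  · rw [Equiv.Perm.mul_apply, Equiv.swap_apply_left]

theorem gate_two {p q b : Fin n} (hpq : p ≠ q) (h : b ∉ ({p, q} : Finset (Fin n))) :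
    mg (gate {p, q} b h) 0 ∈ G := by
  obtain ⟨p0, q0, b0, hpq0, hb0, h0⟩ := hG.gate_mem
  simp only [Finset.mem_insert, Finset.mem_singleton, not_or] at h
  have hb0' := hb0
  simp only [Finset.mem_insert, Finset.mem_singleton, not_or] at hb0'
  obtain ⟨σ, hp, hq, hb⟩ := hG.exists_cp hpq0 (Ne.symm hb0'.1) (Ne.symm hb0'.2) hpq (Ne.symm h.1) (Ne.symm h.2)
  convert perm_conj (hG.cp_mem σ) h0 using 2
  refine Equiv.ext fun x => funext fun l => ?_
  obtain ⟨l, rfl⟩ := σ.surjective l
  have hc : Ctl {p0, q0} ((cp σ)⁻¹ x) ↔ Ctl {p, q} x := by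
    simp [Ctl, cp_inv_apply, hp, hq]
  rw [Equiv.Perm.mul_apply, Equiv.Perm.mul_apply, cp_apply, gate_apply, gate_apply]
  by_cases hh : Ctl {p, q} x
  · rw [if_pos hh, if_pos (hc.2 hh), Pi.add_apply, Pi.add_apply, cp_inv_apply, ← hb, uv, uv]
    simp [Pi.single_apply]
  · rw [if_neg hh, if_neg fun e => hh (hc.1 e), cp_inv_apply]

theorem ind_three {p q r : Fin n} (hpq : p ≠ q) (hpr : p ≠ r) (hqr : q ≠ r) : mg 1 (ind {p, q, r}) ∈ G := by
  obtain ⟨p0, q0, r0, h1, h2, h3, h0⟩ := hG.ind_mem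
  obtain ⟨σ, hp, hq, hr⟩ := hG.exists_cp h1 h2 h3 hpq hpr hqr
  convert sign_comp h0 (hG.cp_mem σ) using 2
  funext x
  simp only [ind]
  refine if_congr ?_ rfl rfl
  simp [Ctl, cp_inv_apply, hp, hq, hr]

theorem gate_all : ∀ j, 2 ≤ j → j + 2 ≤ n → ∀ (I : Finset (Fin n)) (b : Fin n) (h : b ∉ I), I.card = j →
    mg (gate I b h) 0 ∈ G := by
  intro j hj
  induction j, hj using Nat.le_induction with
  | base =>
    intro _ I b h hI
    obtain ⟨p, q, hpq, rfl⟩ := Finset.card_eq_two.1 hI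
    exact hG.gate_two hpq h
  | succ j hj ih =>
    intro hjn I' b hb hI'
    obtain ⟨q, hq⟩ := Finset.card_pos.1 (show 0 < I'.card by omega)
    obtain ⟨a, ha⟩ : ∃ a, a ∉ insert b I' := by
      by_contra hno
      push Not at hno
      have := Finset.card_le_card (s := (Finset.univ : Finset (Fin n))) (fun a _ => hno a)
      rw [Finset.card_univ, Fintype.card_fin, Finset.card_insert_of_notMem hb] at this
      omega
    simp only [Finset.mem_insert, not_or] at ha
    have haI : a ∉ I'.erase q := fun e => ha.2 (Finset.mem_of_mem_erase e)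
    have hbI : b ∉ I'.erase q := fun e => hb (Finset.mem_of_mem_erase e)
    have hqI : q ∉ I'.erase q := Finset.notMem_erase q I'
    have hqa : q ≠ a := fun e => ha.2 (e ▸ hq)
    have hqb : q ≠ b := fun e => hb (e ▸ hq)
    have hY : b ∉ ({a, q} : Finset (Fin n)) := by simp [Ne.symm ha.1, hqb.symm]
    have hX := ih (by omega) (I'.erase q) a haI (by rw [Finset.card_erase_of_mem hq, hI']; omega)
    have hY' := hG.gate_two hqa.symm hY
    have h := (G.comap (permHom n F)).mul_mem ((G.comap (permHom n F)).mul_mem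
      ((G.comap (permHom n F)).mul_mem hX hY') hX) hY'
    convert mem_perms.1 h using 2
    refine Equiv.ext fun x => ?_
    have hIq : ∀ y, Ctl I' y ↔ y q = 0 ∧ Ctl (I'.erase q) y := fun y => by
      rw [← ctl_insert, Finset.insert_erase hq]
    have hYc : ∀ y, Ctl ({a, q} : Finset (Fin n)) y ↔ y a = 0 ∧ y q = 0 := fun y => by simp [Ctl]
    simp only [Equiv.Perm.mul_apply, gate_apply, hIq, hYc]
    have ua : uv a a = (1 : ZMod 2) := Pi.single_eq_same a 1
    have u1 : uv a q = (0 : ZMod 2) := Pi.single_eq_of_ne hqa 1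
    have u2 : uv b a = (0 : ZMod 2) := Pi.single_eq_of_ne ha.1 1
    have u3 : uv b q = (0 : ZMod 2) := Pi.single_eq_of_ne hqb 1
    have ee : (1 : ZMod 2) + 1 = 0 := rfl
    by_cases hA : Ctl (I'.erase q) x <;> rcases C6Gen.zmod2 (x a) with hxa | hxa <;>
      rcases C6Gen.zmod2 (x q) with hxq | hxq <;>
      simp [hA, hxa, hxq, ua, u1, u2, u3, ee, ctl_add_uv haI, ctl_add_uv hbI, add_uv_cancel,
        add_right_comm _ (uv b) (uv a)]

theorem ind_all : ∀ j, 3 ≤ j → j + 1 ≤ n → ∀ I : Finset (Fin n), I.card = j → mg 1 (ind I) ∈ G := by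
  intro j hj
  induction j, hj using Nat.le_induction with
  | base =>
    intro _ I hI
    obtain ⟨p, q, r, hpq, hpr, hqr, rfl⟩ := Finset.card_eq_three.1 hI
    exact hG.ind_three hpq hpr hqr
  | succ j hj ih =>
    intro hjn I' hI'
    obtain ⟨p, hp⟩ := Finset.card_pos.1 (show 0 < I'.card by omega)
    obtain ⟨q, hq⟩ := Finset.card_pos.1 (show 0 < (I'.erase p).card by
      rw [Finset.card_erase_of_mem hp]; omega)
    obtain ⟨i, hi⟩ : ∃ i, i ∉ I' := by
      by_contra hno
      push Not at hno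
      have := Finset.card_le_card (s := (Finset.univ : Finset (Fin n))) (fun a _ => hno a)
      rw [Finset.card_univ, Fintype.card_fin] at this
      omega
    have hqp : q ≠ p := (Finset.mem_erase.1 hq).1
    obtain ⟨J, hJ⟩ : ∃ J, J = (I'.erase p).erase q := ⟨_, rfl⟩
    have hI'J : I' = insert p (insert q J) := by rw [hJ, Finset.insert_erase hq, Finset.insert_erase hp]
    have hiJ : i ∉ J := fun e => hi (by rw [hI'J]; simp [e])
    have hiY : i ∉ ({p, q} : Finset (Fin n)) := by
      simp only [Finset.mem_insert, Finset.mem_singleton, not_or]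
      exact ⟨fun e => hi (e ▸ hp), fun e => hi (e ▸ Finset.mem_of_mem_erase hq)⟩
    have hs := ih (by omega) (insert i J) (by
      rw [Finset.card_insert_of_notMem hiJ, hJ, Finset.card_erase_of_mem hq, Finset.card_erase_of_mem hp]; omega)
    convert sign_add hs (sign_comp hs (hG.gate_two hqp.symm hiY)) using 2
    funext x
    rw [hI'J, Pi.add_apply, gate_inv, gate_apply]
    simp only [ind_insert]
    have hc : Ctl ({p, q} : Finset (Fin n)) x ↔ x p = 0 ∧ x q = 0 := by simp [Ctl]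
    have hJx : ind J (x + uv i) = ind J x := if_congr (ctl_add_uv hiJ x) rfl rfl
    have ui : (x + uv i) i = x i + 1 := by rw [Pi.add_apply, uv, Pi.single_eq_same]
    have ee : (1 : ZMod 2) + 1 = 0 := rfl
    rcases C6Gen.zmod2 (x p) with h1 | h1 <;> rcases C6Gen.zmod2 (x q) with h2 | h2 <;>
      simp only [hc, h1, h2, ee, hJx, ui, one_ne_zero, and_true, and_false, false_and, if_true, if_false,
        zero_add, add_zero, zero_mul, one_mul, mul_zero, zmod2_add_self]
    rcases C6Gen.zmod2 (x i) with h3 | h3 <;> simp [h3, ee]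

/-- Transvections are transitive on the nonzero vectors. -/
theorem exists_move_vec {u v : Bits n} (hu : u ≠ 0) (hv : v ≠ 0) :
    ∃ L : Bits n ≃+ Bits n, mg L.toEquiv 0 ∈ G ∧ L u = v := by
  rcases eq_or_ne v u with rfl | hvu
  · exact ⟨AddEquiv.refl _, by
      rw [show (AddEquiv.refl (Bits n)).toEquiv = 1 from rfl, mg_one]; exact one_mem _, rfl⟩
  obtain ⟨f, h1, h2⟩ := exists_dot_two hu hv hvu 1 1
  have hw : f ⬝ᵥ (u + v) = 0 := by rw [dotProduct_add, h1, h2]; rfl
  exact ⟨tv f (u + v) hw, hG.transv _ _ _, by rw [tv_apply, h1, one_smul, ← add_assoc, bits_add_self, zero_add]⟩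

/-- Transvections are transitive on the pairs of independent vectors. -/
theorem exists_move_two {u v u' v' : Bits n} (hu : u ≠ 0) (hv : v ≠ 0) (huv : v ≠ u) (hu' : u' ≠ 0)
    (hv' : v' ≠ 0) (huv' : v' ≠ u') :
    ∃ L : Bits n ≃+ Bits n, mg L.toEquiv 0 ∈ G ∧ L u = u' ∧ L v = v' := by
  obtain ⟨L, hL, hLu⟩ := hG.exists_move_vec hu hu'
  rcases eq_or_ne v' (L v) with rfl | hne
  · exact ⟨L, hL, hLu, rfl⟩
  have hw0 : L v ≠ 0 := fun e => hv (L.injective (e.trans (map_zero L).symm))
  have hwu : L v ≠ u' := fun e => huv (L.injective (e.trans hLu.symm))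
  obtain ⟨f, hfu, hfw, hfv⟩ : ∃ f : Bits n, f ⬝ᵥ u' = 0 ∧ f ⬝ᵥ L v = 1 ∧ f ⬝ᵥ v' = 1 := by
    obtain ⟨i, hi⟩ := Function.ne_iff.1 hu'
    have hi1 : u' i = 1 := (C6Gen.zmod2 (u' i)).resolve_left hi
    have hP : ∀ z : Bits n, z ≠ 0 → z ≠ u' → z + z i • u' ≠ 0 := fun z h0 h1 e => by
      rcases C6Gen.zmod2 (z i) with hz | hz <;> rw [hz] at e
      · rw [zero_smul, add_zero] at e; exact h0 e
      · rw [one_smul] at e; exact h1 (by rw [← add_zero z, ← bits_add_self u', ← add_assoc, e, zero_add])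
    rcases eq_or_ne (v' + v' i • u') (L v + (L v) i • u') with hPe | hPe
    · obtain ⟨h, ha, hb⟩ := exists_dot_two hu' hw0 hwu 0 1
      refine ⟨h, ha, hb, ?_⟩
      have := congrArg (fun z => h ⬝ᵥ z) hPe
      simp only [dotProduct_add, dotProduct_smul, ha, hb, smul_zero, add_zero] at this
      exact this
    obtain ⟨h, ha, hb⟩ := exists_dot_two (hP _ hw0 hwu) (hP _ hv' huv') hPe 1 1
    refine ⟨h + (h ⬝ᵥ u') • uv i, ?_, ?_, ?_⟩ <;>
      simp only [add_dotProduct, smul_dotProduct, uv, single_dotProduct, one_mul, smul_eq_mul]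
    · rw [hi1, mul_one, zmod2_add_self]
    · rw [← ha, dotProduct_add, dotProduct_smul, smul_eq_mul, mul_comm]
    · rw [← hb, dotProduct_add, dotProduct_smul, smul_eq_mul, mul_comm]
  have hw : f ⬝ᵥ (L v + v') = 0 := by rw [dotProduct_add, hfw, hfv]; rfl
  refine ⟨L.trans (tv f (L v + v') hw), ?_, ?_, ?_⟩
  · exact (G.comap (permHom n F)).mul_mem (hG.transv f (L v + v') hw) hL
  · rw [AddEquiv.trans_apply, hLu, tv_apply, hfu, zero_smul, add_zero]
  · rw [AddEquiv.trans_apply, tv_apply, hfw, one_smul, ← add_assoc, bits_add_self, zero_add]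

/-- The signs at two points. -/
theorem pair_sign {x y : Bits n} (hxy : x ≠ y) : mg 1 (fun z => if z = x ∨ z = y then 1 else 0) ∈ G := by
  have h4 := hG.four_le
  let i : Fin n := ⟨0, by omega⟩
  have h := hG.ind_all (n - 1) (by omega) (by omega) (Finset.univ.erase i)
    (by rw [Finset.card_erase_of_mem (Finset.mem_univ i), Finset.card_univ, Fintype.card_fin])
  have hiff : ∀ z : Bits n, Ctl (Finset.univ.erase i) z ↔ z = 0 ∨ z = uv i := fun z => by
    refine ⟨fun hz => ?_, ?_⟩
    · have e : z = z i • uv i := funext fun l => by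
        rcases eq_or_ne l i with rfl | hl
        · simp [uv]
        · rw [hz l (Finset.mem_erase.2 ⟨hl, Finset.mem_univ l⟩)]; simp [uv, hl]
      rcases C6Gen.zmod2 (z i) with h | h <;> rw [h] at e
      · exact Or.inl (e.trans (zero_smul _ _))
      · exact Or.inr (e.trans (one_smul _ _))
    · rintro (rfl | rfl) l hl
      · rfl
      · simp [uv, (Finset.mem_erase.1 hl).1]
  have hd : x + y ≠ 0 := fun e => hxy (by rw [← add_zero x, ← bits_add_self y, ← add_assoc, e, zero_add])
  obtain ⟨L, hL, hLu⟩ := hG.exists_move_vec (uv_ne_zero i) hd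
  convert sign_comp (sign_comp h hL) (hG.trans x) using 2
  funext z
  simp only [ind, hiff, Equiv.Perm.inv_def]
  refine if_congr ?_ rfl rfl
  have hz : (Equiv.addRight x).symm z = z + x := by
    rw [Equiv.symm_apply_eq]; show z = z + x + x; rw [add_assoc, bits_add_self, add_zero]
  rw [hz]
  show _ ↔ L.symm (z + x) = 0 ∨ L.symm (z + x) = uv i
  rw [AddEquiv.symm_apply_eq, AddEquiv.symm_apply_eq, map_zero, hLu]
  refine or_congr ⟨fun e => by rw [e, bits_add_self],
    fun e => by rw [← add_zero z, ← bits_add_self x, ← add_assoc, e, zero_add]⟩ ?_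
  refine ⟨fun e => by rw [e, add_comm], fun e => ?_⟩
  rw [← add_zero z, ← bits_add_self x, ← add_assoc, e, add_comm (x + y), ← add_assoc, bits_add_self, zero_add]

omit hG in
theorem gate_eq_swaps {b c : Fin n} (hbc : b ≠ c) (h : b ∉ (Finset.univ.erase b).erase c) :
    gate ((Finset.univ.erase b).erase c) b h = Equiv.swap 0 (uv b) * Equiv.swap (uv c) (uv b + uv c) := by
  refine Equiv.ext fun z => ?_
  rw [gate_apply, Equiv.Perm.mul_apply]
  have hb0 := uv_ne_zero b
  have hc0 := uv_ne_zero c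
  have hbc' := uv_ne hbc
  have hs0 : uv b + uv c ≠ 0 := fun e => hbc' (by
    rw [← add_zero (uv b), ← bits_add_self (uv c), ← add_assoc, e, zero_add])
  have hsb : uv b + uv c ≠ uv b := fun e => hc0 (by simpa using e)
  have hsc : uv b + uv c ≠ uv c := fun e => hb0 (by simpa using e)
  by_cases hz : Ctl ((Finset.univ.erase b).erase c) z
  · have e : z = z b • uv b + z c • uv c := funext fun l => by
      rcases eq_or_ne l b with rfl | hlb
      · simp [uv, hbc]
      rcases eq_or_ne l c with rfl | hlc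
      · simp [uv, hbc.symm]
      rw [hz l (Finset.mem_erase.2 ⟨hlc, Finset.mem_erase.2 ⟨hlb, Finset.mem_univ l⟩⟩)]
      simp [uv, hlb, hlc]
    rw [if_pos hz]
    rcases C6Gen.zmod2 (z b) with h1 | h1 <;> rcases C6Gen.zmod2 (z c) with h2 | h2 <;> rw [h1, h2] at e <;>
      simp only [zero_smul, one_smul, zero_add, add_zero] at e <;> subst e
    · rw [Equiv.swap_apply_of_ne_of_ne hc0.symm hs0.symm, Equiv.swap_apply_left, zero_add]
    · rw [Equiv.swap_apply_left, Equiv.swap_apply_of_ne_of_ne hs0 hsb, add_comm]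
    · rw [Equiv.swap_apply_of_ne_of_ne hbc' hsb.symm, Equiv.swap_apply_right, bits_add_self]
    · rw [Equiv.swap_apply_right, Equiv.swap_apply_of_ne_of_ne hc0 hbc'.symm, add_right_comm, bits_add_self,
        zero_add]
  · rw [if_neg hz]
    have h0 : ∀ w : Bits n, Ctl ((Finset.univ.erase b).erase c) w → z ≠ w := fun w hw e => hz (e ▸ hw)
    have hcb : ∀ l ∈ (Finset.univ.erase b).erase c, uv b l = 0 ∧ uv c l = 0 := fun l hl => by
      simp only [Finset.mem_erase] at hl
      simp [uv, hl.1, hl.2.1]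
    rw [Equiv.swap_apply_of_ne_of_ne (h0 _ fun l hl => (hcb l hl).2)
      (h0 _ fun l hl => by rw [Pi.add_apply, (hcb l hl).1, (hcb l hl).2, add_zero]),
      Equiv.swap_apply_of_ne_of_ne (h0 0 fun l _ => rfl) (h0 (uv b) fun l hl => (hcb l hl).1)]

theorem cycle_mem {x y z : Bits n} (hxy : x ≠ y) (hxz : x ≠ z) (hyz : y ≠ z) :
    mg (Equiv.swap x y * Equiv.swap y z) 0 ∈ G := by
  have h4 := hG.four_le
  obtain ⟨b, c, d, e, hbc, hbd, hbe, hcd, hce, hde⟩ : ∃ b c d e : Fin n,
      b ≠ c ∧ b ≠ d ∧ b ≠ e ∧ c ≠ d ∧ c ≠ e ∧ d ≠ e :=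
    ⟨⟨0, by omega⟩, ⟨1, by omega⟩, ⟨2, by omega⟩, ⟨3, by omega⟩, by simp, by simp, by simp, by simp, by simp,
      by simp⟩
  have hD : ∀ b c : Fin n, b ≠ c → mg (Equiv.swap 0 (uv b) * Equiv.swap (uv c) (uv b + uv c)) 0 ∈ G := by
    intro b c hbc
    have h : b ∉ (Finset.univ.erase b).erase c := fun h =>
      Finset.notMem_erase b Finset.univ (Finset.mem_of_mem_erase h)
    rw [← gate_eq_swaps hbc h]
    exact hG.gate_all (n - 2) (by omega) (by omega) _ _ _ (by
      rw [Finset.card_erase_of_mem (Finset.mem_erase.2 ⟨hbc.symm, Finset.mem_univ c⟩),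
        Finset.card_erase_of_mem (Finset.mem_univ b), Finset.card_univ, Fintype.card_fin]
      omega)
  -- the points
  obtain ⟨u, hu⟩ : ∃ u, u = uv b := ⟨_, rfl⟩
  obtain ⟨v, hv⟩ : ∃ v, v = uv c := ⟨_, rfl⟩
  obtain ⟨p, hp⟩ : ∃ p, p = uv d := ⟨_, rfl⟩
  obtain ⟨q, hq⟩ : ∃ q, q = uv e := ⟨_, rfl⟩
  have hne : ∀ {s t : Bits n} (l : Fin n), s l ≠ t l → s ≠ t := fun {s t} l h h' => h (congrFun h' l)
  have hD1 := hD b c hbc
  have hD2 := hD d e hde
  rw [← hu, ← hv] at hD1
  rw [← hp, ← hq] at hD2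
  have hX := perm_conj hD2 hD1
  rw [show Equiv.swap 0 p * Equiv.swap q (p + q) * (Equiv.swap 0 u * Equiv.swap v (u + v)) *
      (Equiv.swap 0 p * Equiv.swap q (p + q))⁻¹ =
      (Equiv.swap 0 p * Equiv.swap q (p + q) * Equiv.swap 0 u * (Equiv.swap 0 p * Equiv.swap q (p + q))⁻¹) *
      (Equiv.swap 0 p * Equiv.swap q (p + q) * Equiv.swap v (u + v) *
        (Equiv.swap 0 p * Equiv.swap q (p + q))⁻¹) by group,
    ← Equiv.swap_apply_apply, ← Equiv.swap_apply_apply] at hX
  have vb : v b = 0 := by simp [hv, uv, hbc]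
  have vc : v c = 1 := by simp [hv, uv]
  have ub : u b = 1 := by simp [hu, uv]
  have uc : u c = 0 := by simp [hu, uv, hbc.symm]
  have pb : p b = 0 := by simp [hp, uv, hbd]
  have pc : p c = 0 := by simp [hp, uv, hcd]
  have qb : q b = 0 := by simp [hq, uv, hbe]
  have qc : q c = 0 := by simp [hq, uv, hce]
  have pd : p d = 1 := by simp [hp, uv]
  have qd : q d = 0 := by simp [hq, uv, hde]
  have hq0 : q ≠ 0 := hq ▸ uv_ne_zero e
  have hpq0 : p + q ≠ 0 := hne d (by simp [pd, qd])
  have hfix : ∀ w : Bits n, w ≠ q → w ≠ p + q → w ≠ 0 → w ≠ p →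
      (Equiv.swap 0 p * Equiv.swap q (p + q)) w = w := fun w h1 h2 h3 h4 => by
    rw [Equiv.Perm.mul_apply, Equiv.swap_apply_of_ne_of_ne h1 h2, Equiv.swap_apply_of_ne_of_ne h3 h4]
  have fu := hfix u (hne b (by simp [ub, qb])) (hne b (by simp [ub, pb, qb])) (hne b (by simp [ub]))
    (hne b (by simp [ub, pb]))
  have fv := hfix v (hne c (by simp [vc, qc])) (hne c (by simp [vc, pc, qc])) (hne c (by simp [vc]))
    (hne c (by simp [vc, pc]))
  have fuv := hfix (u + v) (hne c (by simp [uc, vc, qc])) (hne c (by simp [uc, vc, pc, qc]))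
    (hne c (by simp [uc, vc])) (hne c (by simp [uc, vc, pc]))
  have f0 : (Equiv.swap 0 p * Equiv.swap q (p + q)) 0 = p := by
    rw [Equiv.Perm.mul_apply, Equiv.swap_apply_of_ne_of_ne hq0.symm hpq0.symm, Equiv.swap_apply_left]
  rw [fu, fv, fuv, f0] at hX
  have hpu : (Equiv.swap v (u + v)) p = p ∧ (Equiv.swap v (u + v)) u = u :=
    ⟨Equiv.swap_apply_of_ne_of_ne (hne c (by simp [pc, vc])) (hne c (by simp [pc, uc, vc])),
     Equiv.swap_apply_of_ne_of_ne (hne c (by simp [uc, vc])) (hne c (by simp [uc, vc]))⟩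
  have hcyc := (G.comap (permHom n F)).mul_mem hD1 hX
  rw [show Equiv.swap 0 u * Equiv.swap v (u + v) * (Equiv.swap p u * Equiv.swap v (u + v)) =
      Equiv.swap 0 u * (Equiv.swap v (u + v) * Equiv.swap p u * (Equiv.swap v (u + v))⁻¹) by
        rw [Equiv.swap_inv]; group,
    ← Equiv.swap_apply_apply, hpu.1, hpu.2, Equiv.swap_comm p u] at hcyc
  -- moving the three points
  have hu0 : u ≠ 0 := hu ▸ uv_ne_zero b
  have hp0 : p ≠ 0 := hp ▸ uv_ne_zero d
  have hsum : ∀ s, x ≠ s → x + s ≠ 0 := fun s h h' =>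
    h (by rw [← add_zero x, ← bits_add_self s, ← add_assoc, h', zero_add])
  obtain ⟨L, hL, hLu, hLp⟩ := hG.exists_move_two hu0 hp0 (hne b (by simp [ub, pb])) (hsum y hxy) (hsum z hxz)
    (fun h => hyz (add_left_cancel h).symm)
  have hτ : mg (Equiv.addRight x * L.toEquiv) 0 ∈ G := (G.comap (permHom n F)).mul_mem (hG.trans x) hL
  have e : ∀ w, (Equiv.addRight x * L.toEquiv) w = L w + x := fun w => rfl
  have hxs : ∀ s : Bits n, x + s + x = s := fun s => by rw [add_comm x s, add_assoc, bits_add_self, add_zero]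
  have h := perm_conj hτ (mem_perms.1 hcyc)
  rwa [show Equiv.addRight x * L.toEquiv * (Equiv.swap 0 u * Equiv.swap u p) * (Equiv.addRight x * L.toEquiv)⁻¹ =
      (Equiv.addRight x * L.toEquiv * Equiv.swap 0 u * (Equiv.addRight x * L.toEquiv)⁻¹) *
        (Equiv.addRight x * L.toEquiv * Equiv.swap u p * (Equiv.addRight x * L.toEquiv)⁻¹) by group,
    ← Equiv.swap_apply_apply, ← Equiv.swap_apply_apply, e, e, e, map_zero, zero_add, hLu, hLp, hxs, hxs] at h

/-- The squares of permutations. -/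
theorem perm_sq (π : Equiv.Perm (Bits n)) : mg (π * π) 0 ∈ G := by
  have hle : alternatingGroup (Bits n) ≤ G.comap (permHom n F) := by
    rw [← Equiv.Perm.closure_three_cycles_eq_alternating, Subgroup.closure_le]
    intro σ hσ
    obtain ⟨x, hx⟩ : ∃ x, x ∈ σ.support := Finset.card_pos.1 (by rw [hσ.card_support]; norm_num)
    obtain ⟨a, b, c, hab, hac, hbc, hs⟩ := Finset.card_eq_three.1 hσ.card_support
    have hc3 : σ.IsCycle := hσ.isCycle
    have hx1 := Equiv.Perm.mem_support.1 hx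
    have hord : σ * σ * σ = 1 := by
      have h := pow_orderOf_eq_one σ
      rw [hσ.orderOf, pow_succ, pow_two] at h
      exact h
    obtain ⟨y, hy⟩ : ∃ y, y = σ x := ⟨_, rfl⟩
    obtain ⟨z, hz⟩ : ∃ z, z = σ y := ⟨_, rfl⟩
    have hzx : σ z = x := by
      have := Equiv.congr_fun hord x
      rw [hz, hy]; simpa using this
    have hxy : x ≠ y := fun e => hx1 (hy.symm.trans e.symm)
    have hyz : y ≠ z := fun e => hxy (σ.injective (by rw [← hy, ← hz, ← e]))
    have hxz : x ≠ z := fun e => hx1 (by nth_rewrite 1 [e]; exact hzx)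
    have hsupp : σ.support = {x, y, z} := by
      refine (Finset.eq_of_subset_of_card_le ?_ ?_).symm
      · simp only [Finset.insert_subset_iff, Finset.singleton_subset_iff]
        exact ⟨hx, hy ▸ Equiv.Perm.apply_mem_support.2 hx,
          hz ▸ Equiv.Perm.apply_mem_support.2 (hy ▸ Equiv.Perm.apply_mem_support.2 hx)⟩
      · rw [hσ.card_support, Finset.card_insert_of_notMem (by simp [hxy, hxz]),
          Finset.card_insert_of_notMem (by simp [hyz]), Finset.card_singleton]
    have e : σ = Equiv.swap x y * Equiv.swap y z := by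
      refine Equiv.ext fun w => ?_
      rw [Equiv.Perm.mul_apply]
      rcases eq_or_ne w x with rfl | hwx
      · rw [Equiv.swap_apply_of_ne_of_ne hxy hxz, Equiv.swap_apply_left, hy]
      rcases eq_or_ne w y with rfl | hwy
      · rw [Equiv.swap_apply_left, Equiv.swap_apply_of_ne_of_ne hxz.symm hyz.symm, hz]
      rcases eq_or_ne w z with rfl | hwz
      · rw [Equiv.swap_apply_right, Equiv.swap_apply_right, hzx]
      rw [Equiv.swap_apply_of_ne_of_ne hwy hwz, Equiv.swap_apply_of_ne_of_ne hwx hwy]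
      exact Equiv.Perm.notMem_support.1 (by rw [hsupp]; simp [hwx, hwy, hwz])
    show mg σ 0 ∈ G
    rw [e]
    exact hG.cycle_mem hxy hxz hyz
  exact hle (Equiv.Perm.mem_alternatingGroup.2 (by rw [map_mul, Int.units_mul_self]))

end Gen

end Cfsg.Agent.C6Orth
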