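import Cfsg.Agent.Lib.C6Orth.Local
import Cfsg.Agent.Lib.C6Orth.Gates
import Cfsg.Agent.Lib.Orth.Frame.Main
import Cfsg.Agent.EqLemmas
/-!
# Quarters and the normaliser generate the derived group

* `omg_le_of_fill`       : the monomial part and one non-monomial element
* `omg_not_le_normalizer`
* `standard_maximal`     : the normaliser of the standard group is maximal
-/

set_option autoImplicit false
set_option linter.unusedSectionVars false

namespace Cfsg.Agent.C6Orth

open Matrix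
open Cfsg.Agent.Orth

variable {k : ℕ} {F : Type*} [Field F] [Fintype F]

theorem elt_trans (a : Bits k) : (elt a 0 0 : GL (Bits k) F) = mg (Equiv.addRight a) 0 := by
  rw [elt]; congr 1; funext x; simp

theorem elt_linear (b : Bits k) : (elt 0 b 0 : GL (Bits k) F) = mg 1 (fun x => b ⬝ᵥ x) := by
  rw [elt]; congr 1
  · ext x; simp
  · funext x; simp

theorem uv_sn (j : Fin k) : (uv j.castSucc : Bits (k + 1)) = sn (uv j) 0 := by
  funext l
  induction l using Fin.lastCases with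
  | last => simp [uv, (Fin.castSucc_lt_last j).ne]
  | cast l => simp [uv, Pi.single_apply, Fin.castSucc_inj]

theorem quarter_gate (i : Fin k) (h : i.castSucc.castSucc ∉ ({(Fin.last k).castSucc, Fin.last (k + 1)} : Finset (Fin (k + 2)))) :
    jd (jd ((elt (uv i) 0 0 : GL (Bits k) F), 1), 1) =
      mg (gate {(Fin.last k).castSucc, Fin.last (k + 1)} i.castSucc.castSucc h) 0 := by
  rw [elt_trans, ← mg_one, jd_mg, ← mg_one, jd_mg]
  congr 1
  · refine Equiv.ext fun x => ?_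
    obtain ⟨x, w, rfl⟩ := exists_sn x
    obtain ⟨y, z, rfl⟩ := exists_sn x
    have hc : Ctl {(Fin.last k).castSucc, Fin.last (k + 1)} (sn (sn y z) w) ↔ z = 0 ∧ w = 0 := by
      simp [Ctl]
    rw [gate_apply, uv_sn, uv_sn]
    simp only [hc, Equiv.permCongr_apply]
    rcases C6Gen.zmod2 w with rfl | rfl
    · rw [split_symm_zero, Equiv.sumCongr_apply, Sum.map_inl, split_inl, Equiv.permCongr_apply]
      rcases C6Gen.zmod2 z with rfl | rfl
      · rw [split_symm_zero, Equiv.sumCongr_apply, Sum.map_inl, split_inl, if_pos ⟨rfl, rfl⟩, sn_add, sn_add,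
          add_zero]
        rfl
      · rw [split_symm_one, Equiv.sumCongr_apply, Sum.map_inr, split_inr, if_neg fun e => one_ne_zero e.1]
        rfl
    · rw [split_symm_one, Equiv.sumCongr_apply, Sum.map_inr, split_inr, if_neg fun e => one_ne_zero e.2]
      rfl
  · funext x
    obtain ⟨x, rfl | rfl⟩ := sn_cases x
    · rw [split_symm_zero, Sum.elim_inl]
      obtain ⟨y, rfl | rfl⟩ := sn_cases x
      · rw [split_symm_zero]; rfl
      · rw [split_symm_one]; rfl
    · rw [split_symm_one]; rfl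

theorem quarter_ind (i : Fin k) :
    jd (jd ((elt 0 (uv i) 0 : GL (Bits k) F), 1), 1) =
      mg 1 (fun x => x i.castSucc.castSucc * ind {(Fin.last k).castSucc, Fin.last (k + 1)} x) := by
  rw [elt_linear, ← mg_one, jd_mg, ← mg_one, jd_mg]
  congr 1
  · have h1 : ∀ m : ℕ, (split m).permCongr (Equiv.sumCongr (1 : Equiv.Perm (Bits m)) 1) = 1 := fun m =>
      Equiv.ext fun x => by simp [Equiv.permCongr_apply]
    rw [h1, h1]
  · funext x
    obtain ⟨x, w, rfl⟩ := exists_sn x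
    obtain ⟨y, z, rfl⟩ := exists_sn x
    have hc : Ctl {(Fin.last k).castSucc, Fin.last (k + 1)} (sn (sn y z) w) ↔ z = 0 ∧ w = 0 := by
      simp [Ctl]
    simp only [ind, hc, sn_cast]
    rcases C6Gen.zmod2 w with rfl | rfl
    · rw [split_symm_zero, Sum.elim_inl]
      rcases C6Gen.zmod2 z with rfl | rfl
      · rw [split_symm_zero, Sum.elim_inl, if_pos ⟨rfl, rfl⟩, mul_one, uv, single_dotProduct, one_mul]
      · rw [split_symm_one, Sum.elim_inr, if_neg fun e => one_ne_zero e.1, mul_zero]; rfl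
    · rw [split_symm_one, Sum.elim_inr, if_neg fun e => one_ne_zero e.2, mul_zero]; rfl

theorem coe_sgn_pair {ι : Type} [Fintype ι] [DecidableEq ι] {x y : ι} (hxy : x ≠ y) :
    ((Frame.sgn x * Frame.sgn y : orth ι F) : GL ι F) = mg 1 (fun z => if z = x ∨ z = y then 1 else 0) := by
  refine Units.ext (Matrix.ext_iff_mulVec.2 fun v => funext fun z => ?_)
  have h := mg_mulVec (F := F) (1 : Equiv.Perm ι) (fun z => if z = x ∨ z = y then 1 else 0) v z
  rw [Equiv.Perm.one_apply] at h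
  rw [h, ← ap_apply, ap_mul, Frame.sgn_coord, Frame.sgn_coord]
  by_cases h1 : z = x
  · subst h1; simp [hxy]
  · by_cases h2 : z = y <;> simp [h1, h2, hxy, hxy.symm]

theorem coe_permIso {ι : Type} [Fintype ι] [DecidableEq ι] (π : Equiv.Perm ι) :
    ((Frame.permIso π : orth ι F) : GL ι F) = mg π 0 := by
  refine Units.ext (Matrix.ext_iff_mulVec.2 fun v => funext fun z => ?_)
  obtain ⟨z, rfl⟩ := π.surjective z
  rw [mg_mulVec, Pi.zero_apply, sc_zero, one_mul, ← ap_apply, Frame.permIso_coord]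

theorem gen_of_fill (h2 : (2 : F) ≠ 0) (hk : 2 ≤ k) {G : Subgroup (GL (Bits (k + 2)) F)}
    (hNG : ∀ n ∈ Cfsg.Geo.subgroupNormalizer (R0 (k + 2) F), n ∈ omg (Bits (k + 2)) F → n ∈ G)
    (hfill : ∀ x ∈ R0 k F, jd (jd (x, 1), 1) ∈ G) : Gen G := by
  have := (R0_sys (F := F) (k := k + 2) h2).finiteR
  have hT : ∀ a : Bits (k + 2), (mg (Equiv.addRight a) 0 : GL (Bits (k + 2)) F) ∈ G := fun a => by
    rw [← elt_trans]
    exact hNG _ (Subgroup.le_normalizer (elt_mem _ _ _)) (R0_le_omg (by omega) (elt_mem _ _ _))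
  obtain ⟨i⟩ : Nonempty (Fin k) := ⟨⟨0, by omega⟩⟩
  have hpq : (Fin.last k).castSucc ≠ Fin.last (k + 1) := (Fin.castSucc_lt_last _).ne
  have hbq : i.castSucc.castSucc ≠ Fin.last (k + 1) := (Fin.castSucc_lt_last _).ne
  have hbp : i.castSucc.castSucc ≠ (Fin.last k).castSucc := fun e =>
    (Fin.castSucc_lt_last i).ne (Fin.castSucc_injective _ e)
  have hb : i.castSucc.castSucc ∉ ({(Fin.last k).castSucc, Fin.last (k + 1)} : Finset (Fin (k + 2))) := by
    simp [hbp, hbq]
  refine ⟨by omega, hT, fun f w h => hNG _ (lin_normal h2 _) (tv_omg (by omega) f w h),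
    ⟨_, _, _, hpq, hb, by rw [← quarter_gate (F := F) i hb]; exact hfill _ (elt_mem _ _ _)⟩, ⟨_, _, _, hbp, hbq, hpq, ?_⟩⟩
  convert Gen.sign_comp (quarter_ind (F := F) i ▸ hfill _ (elt_mem _ _ _)) (hT (uv i.castSucc.castSucc)) using 2
  funext x
  have hx : (Equiv.addRight (uv i.castSucc.castSucc : Bits (k + 2)))⁻¹ x = x + uv i.castSucc.castSucc := by
    rw [Equiv.Perm.inv_def, Equiv.symm_apply_eq]; exact (add_uv_cancel x _).symm
  rw [hx, ind_insert, Pi.add_apply, uv, Pi.single_eq_same, add_comm]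
  congr 1
  exact if_congr (ctl_add_uv hb x).symm rfl rfl

/-- An overgroup containing the quarters is everything. -/
theorem omg_le_of_fill (h2 : (2 : F) ≠ 0) (hprime : (Fintype.card F).Prime) (hk : 2 ≤ k)
    {G : Subgroup (GL (Bits (k + 2)) F)} (hGO : G ≤ omg (Bits (k + 2)) F)
    (hNG : ∀ n ∈ Cfsg.Geo.subgroupNormalizer (R0 (k + 2) F), n ∈ omg (Bits (k + 2)) F → n ∈ G)
    (hfill : ∀ x ∈ R0 k F, jd (jd (x, 1), 1) ∈ G) : omg (Bits (k + 2)) F ≤ G := by
  classical
  have hgen := gen_of_fill h2 hk hNG hfill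
  let K : Subgroup (orth (Bits (k + 2)) F) := G.comap (orth (Bits (k + 2)) F).subtype
  have hK : Frame.Over K := by
    refine ⟨h2, fun g hg => coe_mem_omegaGL.1 (hGO hg), fun x y => ?_, fun τ => ?_⟩
    · rcases eq_or_ne x y with rfl | hxy
      · rw [Frame.sgn_mul_self]; exact one_mem _
      · show ((Frame.sgn x * Frame.sgn y : orth (Bits (k + 2)) F) : GL (Bits (k + 2)) F) ∈ G
        rw [coe_sgn_pair hxy]; exact hgen.pair_sign hxy
    · show ((Frame.permIso (τ * τ) : orth (Bits (k + 2)) F) : GL (Bits (k + 2)) F) ∈ G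
      rw [coe_permIso]; exact hgen.perm_sq τ
  -- a member outside the monomial group
  have hR := R0_sys (F := F) (k := k + 2) h2
  obtain ⟨i0, i1, hi⟩ : ∃ i0 i1 : Fin (k + 2), i0 ≠ i1 := ⟨⟨0, by omega⟩, ⟨1, by omega⟩, by simp⟩
  have h11 : ∀ i : Fin (k + 2), uv i ⬝ᵥ uv i = 1 := fun i => by simp [uv]
  have h01 : uv i0 ⬝ᵥ uv i1 = 0 := by simp [uv, hi]
  have haa := sq_neg_elt (F := F) 0 (h11 i0)
  have hbb := sq_neg_elt (F := F) 0 (h11 i1)
  obtain ⟨m, hm, hmv, -⟩ := hR.exists_pair_normal (elt_mem _ _ _) (elt_mem _ _ _) haa hbb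
  have hmΩ := hasPairs_omg h2 (by omega) _ (elt_mem _ _ _) _ (elt_mem _ _ _) haa hbb m hmv
  have hmG := hNG m hm hmΩ
  obtain ⟨g, hg⟩ : ∃ g : orth (Bits (k + 2)) F, (g : GL (Bits (k + 2)) F) = m := ⟨⟨m, omg_le hmΩ⟩, rfl⟩
  have hgK : g ∈ K := show (g : GL (Bits (k + 2)) F) ∈ G from hg ▸ hmG
  have hne : (uv i0 : Bits (k + 2)) + uv i1 ≠ 0 := fun e => by
    have := congrFun e i0
    simp [uv, hi] at this
  have hne' : (uv i0 : Bits (k + 2)) + uv i1 ≠ uv i0 := fun e => uv_ne_zero i1 (by simpa using e)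
  have hexp : (m : Matrix (Bits (k + 2)) (Bits (k + 2)) F) = (2 : F)⁻¹ •
      (1 + ((elt (uv i0) (uv i0) 0 : GL (Bits (k + 2)) F) : Matrix (Bits (k + 2)) (Bits (k + 2)) F) +
        ((elt (uv i1) (uv i1) 0 : GL (Bits (k + 2)) F) : Matrix (Bits (k + 2)) (Bits (k + 2)) F) +
        ((elt (uv i0 + uv i1) (uv i0 + uv i1) 0 : GL (Bits (k + 2)) F) :
          Matrix (Bits (k + 2)) (Bits (k + 2)) F)) := by
    have e : (elt (uv i0) (uv i0) 0 : GL (Bits (k + 2)) F) * elt (uv i1) (uv i1) 0 =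
        elt (uv i0 + uv i1) (uv i0 + uv i1) 0 := by rw [elt_mul, h01, add_zero, add_zero]
    rw [hmv, ← e, Units.val_mul]; congr 1; noncomm_ring
  have hcol : ∀ x, (m : Matrix (Bits (k + 2)) (Bits (k + 2)) F) x 0 = (2 : F)⁻¹ *
      ((if x = 0 then 1 else 0) + (if x = uv i0 then 1 else 0) + (if x = uv i1 then 1 else 0) +
        (if x = uv i0 + uv i1 then 1 else 0)) := fun x => by
    rw [hexp]
    simp [elt, mg_apply, Matrix.one_apply]
  have hgm : ¬ Frame.Mono g := fun hmono => by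
    obtain ⟨j, c, hjc⟩ := hmono 0
    rw [ap_apply, hg] at hjc
    have hv : ∀ x, (m : Matrix (Bits (k + 2)) (Bits (k + 2)) F) x 0 = c * Frame.unitVec j x := fun x => by
      have := congrFun hjc x
      simpa [Frame.unitVec, Matrix.mulVec_single_one, Matrix.col_apply] using this
    have h0 := hv 0
    have h1 := hv (uv i0)
    rw [hcol] at h0 h1
    simp only [(uv_ne_zero i0).symm, (uv_ne_zero i1).symm, hne.symm, if_true, if_false, add_zero, mul_one] at h0
    simp only [uv_ne_zero i0, uv_ne hi, hne'.symm, if_true, if_false, add_zero, zero_add, mul_one] at h1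
    rcases eq_or_ne j 0 with rfl | hj
    · simp [Frame.unitVec, uv_ne_zero i0, h2] at h1
    · simp [Frame.unitVec, hj.symm, h2] at h0
  have hcard : 10 ≤ Fintype.card (Bits (k + 2)) := by
    rw [card_bits]
    exact le_trans (by norm_num) (Nat.pow_le_pow_right (show 1 ≤ 2 by norm_num) (show 4 ≤ k + 2 by omega))
  intro x hx
  obtain ⟨y, hy, rfl⟩ := mem_omegaGL_iff.1 hx
  exact Frame.omega_le_of_nonmono hK (Or.inl hcard) hprime hgK hgm hy

/-- The derived group does not normalise the standard group. -/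
theorem omg_not_le_normalizer (h2 : (2 : F) ≠ 0) (hk : 4 ≤ k) :
    ¬ omg (Bits k) F ≤ Cfsg.Geo.subgroupNormalizer (R0 k F) := by
  intro hle
  let i : Fin 4 → Fin k := Fin.castLE hk
  have hi : ∀ {a b : Fin 4}, a ≠ b → i a ≠ i b := fun h e => h (Fin.castLE_injective hk e)
  have hs : (mg 1 (fun z => if z = 0 ∨ z = uv (i 1) then 1 else 0) : GL (Bits k) F) ∈ omg (Bits k) F := by
    rw [← coe_sgn_pair (uv_ne_zero _).symm]
    exact coe_mem_omegaGL.2 (Frame.mul_sgn_mem_omega h2 _ _)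
  obtain ⟨a, b, e, h⟩ := (Subgroup.mem_normalizer_iff.mp (hle hs) _).1 (elt_mem (uv (i 0)) 0 0)
  rw [elt_trans, mg_inv, mg_mul, mg_mul, elt] at h
  obtain ⟨-, h'⟩ := mg_inj h2 h
  have key : ∀ y : Bits k, ((if y = 0 ∨ y = uv (i 1) then 1 else 0 : ZMod 2) +
      (if y + uv (i 0) = 0 ∨ y + uv (i 0) = uv (i 1) then 1 else 0)) = b ⬝ᵥ y + e := fun y => by
    simpa using congrFun h' y
  have hA : ∀ y : Bits k, (y (i 2) = 1 ∨ y (i 3) = 1) → b ⬝ᵥ y + e = 0 := fun y hy => by
    have hne : ∀ w : Bits k, w (i 2) = 0 → w (i 3) = 0 → y ≠ w := fun w h2' h3 e' => by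
      subst e'
      rcases hy with h | h
      · rw [h] at h2'; exact one_ne_zero h2'
      · rw [h] at h3; exact one_ne_zero h3
    have hsub : ∀ w : Bits k, w (i 2) = 0 → w (i 3) = 0 → y + uv (i 0) ≠ w := fun w h2' h3 e' =>
      hne (w + uv (i 0))
        (by rw [Pi.add_apply, h2', uv, Pi.single_eq_of_ne (hi (by decide)), add_zero])
        (by rw [Pi.add_apply, h3, uv, Pi.single_eq_of_ne (hi (by decide)), add_zero])
        (by rw [← e', add_uv_cancel])
    have z2 : uv (i 1) (i 2) = (0 : ZMod 2) := Pi.single_eq_of_ne (hi (by decide)) 1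
    have z3 : uv (i 1) (i 3) = (0 : ZMod 2) := Pi.single_eq_of_ne (hi (by decide)) 1
    rw [← key y, if_neg (not_or.2 ⟨hne 0 rfl rfl, hne _ z2 z3⟩),
      if_neg (not_or.2 ⟨hsub 0 rfl rfl, hsub _ z2 z3⟩), add_zero]
  have he : e = 1 := by
    have h0 := key 0
    rw [if_pos (Or.inl rfl), zero_add, if_neg (not_or.2 ⟨uv_ne_zero _, uv_ne (hi (by decide))⟩),
      dotProduct_zero, zero_add, add_zero] at h0
    exact h0.symm
  have s2 : uv (i 2) (i 2) = (1 : ZMod 2) := Pi.single_eq_same (i 2) 1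
  have s3 : uv (i 3) (i 3) = (1 : ZMod 2) := Pi.single_eq_same (i 3) 1
  have e2 := hA _ (Or.inl s2)
  have e3 := hA _ (Or.inr s3)
  have e23 := hA (uv (i 2) + uv (i 3))
    (Or.inl (by rw [Pi.add_apply, s2, uv, Pi.single_eq_of_ne (hi (by decide)), add_zero]))
  rw [dotProduct_add] at e23
  rw [he] at e2 e3 e23
  exact one_ne_zero (α := ZMod 2) (by linear_combination e2 + e3 - e23)

/-- The normaliser of the standard group is maximal in the derived group. -/
theorem standard_maximal (h2 : (2 : F) ≠ 0) (hprime : (Fintype.card F).Prime) (hk : 4 ≤ k) :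
    Cfsg.Geo.IsMaximalIn (omg (Bits k) F)
      (Cfsg.Geo.subgroupNormalizer (R0 k F) ⊓ omg (Bits k) F) := by
  obtain ⟨k, rfl⟩ : ∃ j, k = j + 2 := ⟨k - 2, by omega⟩
  refine ⟨lt_of_le_not_ge inf_le_right fun h => omg_not_le_normalizer h2 hk fun x hx => (h hx).1,
    fun G hG hGO => ?_⟩
  rcases normalises_or_fill h2 (by omega) hGO (fun n hn hnΩ => hG ⟨hn, hnΩ⟩) with h | h
  · exact Or.inl (le_antisymm (le_inf h hGO) hG)
  · exact Or.inr (le_antisymm hGO (omg_le_of_fill h2 hprime (by omega) hGO (fun n hn hnΩ => hG ⟨hn, hnΩ⟩) h))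

end Cfsg.Agent.C6Orth
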