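import Cfsg.Agent.Lib.C6Orth.Model
import Cfsg.Agent.EqLemmas
import Mathlib.Tactic.Module
/-!
# Matrices commuting with part of the standard group

* `comm_form` : commuting with the centraliser of `u` means being a combination of `1` and `u`
* `quat_form` : commuting with the common centraliser of an anticommuting pair
* `quat_indep`: `1, u, w, uw` are independent
-/

set_option autoImplicit false
set_option linter.unusedSectionVars false

namespace Cfsg.Agent.C6Orth

open Matrix
open Cfsg.Agent.C6Gen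

variable {k : ℕ} {F : Type*} [Field F]

theorem val_comm {ι : Type} [Fintype ι] [DecidableEq ι] {x y : GL ι F} (h : x * y = y * x) :
    (x : Matrix ι ι F) * (y : Matrix ι ι F) = (y : Matrix ι ι F) * (x : Matrix ι ι F) := by
  rw [← Units.val_mul, h, Units.val_mul]

theorem val_anti {ι : Type} [Fintype ι] [DecidableEq ι] {x y : GL ι F} (h : x * y = -(y * x)) :
    (x : Matrix ι ι F) * (y : Matrix ι ι F) = -((y : Matrix ι ι F) * (x : Matrix ι ι F)) := by
  rw [← Units.val_mul, h, Units.val_neg, Units.val_mul]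

/-- Commuting with the centraliser of `u`. -/
theorem comm_form (h2 : (2 : F) ≠ 0) {u : GL (Bits k) F} (hu : u ∈ R0 k F) (h1 : u ≠ 1) (hm : u ≠ -1)
    {M : Matrix (Bits k) (Bits k) F}
    (hM : ∀ d ∈ R0 k F, d * u = u * d → M * (d : Matrix (Bits k) (Bits k) F) = (d : Matrix (Bits k) (Bits k) F) * M) :
    ∃ α β : F, M = α • 1 + β • (u : Matrix (Bits k) (Bits k) F) := by
  have hR := R0_sys (F := F) (k := k) h2
  obtain ⟨d0, hd0, hanti⟩ := hR.exists_anti hu h1 hm
  obtain ⟨D, hD⟩ : ∃ D : Matrix (Bits k) (Bits k) F, D = (d0 : Matrix (Bits k) (Bits k) F) := ⟨_, rfl⟩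
  obtain ⟨U, hU⟩ : ∃ U : Matrix (Bits k) (Bits k) F, U = (u : Matrix (Bits k) (Bits k) F) := ⟨_, rfl⟩
  obtain ⟨D', hD'⟩ : ∃ D' : Matrix (Bits k) (Bits k) F, D' = ((d0⁻¹ : GL (Bits k) F) : Matrix (Bits k) (Bits k) F) :=
    ⟨_, rfl⟩
  have hDD : D' * D = 1 := by rw [hD, hD', ← Units.val_mul, inv_mul_cancel, Units.val_one]
  have hDD' : D * D' = 1 := by rw [hD, hD', ← Units.val_mul, mul_inv_cancel, Units.val_one]
  -- the conjugate commutes with the same members
  have hconj : ∀ d ∈ R0 k F, d * u = u * d →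
      D * M * D' * (d : Matrix (Bits k) (Bits k) F) = (d : Matrix (Bits k) (Bits k) F) * (D * M * D') := by
    intro d hd hdu
    have h := hM d hd hdu
    rcases hR.comm d hd d0 hd0 with e | e
    · have e1 : (d : Matrix (Bits k) (Bits k) F) * D = D * d := hD ▸ val_comm e
      have e2 : D' * (d : Matrix (Bits k) (Bits k) F) = (d : Matrix (Bits k) (Bits k) F) * D' := by
        rw [hD']; refine val_comm ?_
        rw [eq_mul_inv_iff_mul_eq, mul_assoc, e, inv_mul_cancel_left]
      rw [mul_assoc, e2, ← mul_assoc, mul_assoc D M, h, ← mul_assoc, ← e1]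
      simp only [mul_assoc]
    · have e1 : (d : Matrix (Bits k) (Bits k) F) * D = -(D * d) := hD ▸ val_anti e
      have e2 : D' * (d : Matrix (Bits k) (Bits k) F) = -((d : Matrix (Bits k) (Bits k) F) * D') := by
        rw [hD']; refine val_anti ?_
        rw [← neg_mul, eq_mul_inv_iff_mul_eq, mul_assoc, e, mul_neg, inv_mul_cancel_left]
      rw [mul_assoc, e2, mul_neg, ← mul_assoc, mul_assoc D M, h, ← mul_assoc,
        show D * (d : Matrix (Bits k) (Bits k) F) = -((d : Matrix (Bits k) (Bits k) F) * D) by rw [e1, neg_neg]]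
      simp only [neg_mul, neg_neg, mul_assoc]
  -- everything is generated by the centraliser and `d0`
  have hall : ∀ {X : Matrix (Bits k) (Bits k) F},
      (∀ d ∈ R0 k F, d * u = u * d → X * (d : Matrix (Bits k) (Bits k) F) = (d : Matrix (Bits k) (Bits k) F) * X) →
      X * D = D * X → ∃ c : F, X = c • 1 := by
    intro X hX hXD
    refine scalar_of_commute h2 fun d hd => ?_
    rcases hR.comm d hd u hu with e | e
    · exact hX d hd e
    · have h' := hX (d0⁻¹ * d) (mul_mem (inv_mem hd0) hd) (by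
        have e' : d0⁻¹ * u = -(u * d0⁻¹) := by
          rw [← neg_mul, eq_mul_inv_iff_mul_eq, mul_assoc, hanti, mul_neg, inv_mul_cancel_left]
        rw [mul_assoc, e, mul_neg, ← mul_assoc, e', neg_mul, neg_neg, mul_assoc])
      rw [Units.val_mul, ← hD'] at h'
      calc X * (d : Matrix (Bits k) (Bits k) F) = X * D * (D' * d) := by
            rw [mul_assoc X D, ← mul_assoc D, hDD', one_mul]
        _ = D * (X * (D' * d)) := by rw [hXD, mul_assoc]
        _ = D * (D' * d * X) := by rw [h']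
        _ = _ := by rw [← mul_assoc, ← mul_assoc, hDD', one_mul]
  have hUD : D * U = -(U * D) := by rw [hD, hU]; exact val_anti (by rw [hanti, neg_neg])
  have hswap : D * (D * M * D') = M * D ∧ D * M * D' * D = D * M := by
    refine ⟨?_, by rw [mul_assoc, hDD, mul_one]⟩
    rcases hR.sq d0 hd0 with e | e
    · have hsq : D * D = 1 := by rw [hD, ← Units.val_mul, e, Units.val_one]
      have : D' = D := by rw [hD', hD, inv_eq_of_mul_eq_one_right e]
      rw [← mul_assoc, ← mul_assoc, hsq, one_mul, this]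
    · have hsq : D * D = -1 := by rw [hD, ← Units.val_mul, e, Units.val_neg, Units.val_one]
      have : D' = -D := by
        rw [hD', hD, inv_eq_of_mul_eq_one_right (show d0 * -d0 = 1 by rw [mul_neg, e, neg_neg]), Units.val_neg]
      rw [← mul_assoc, ← mul_assoc, hsq, this]
      simp
  obtain ⟨a, ha⟩ := hall (X := M + D * M * D') (fun d hd hdu => by rw [add_mul, mul_add, hM d hd hdu, hconj d hd hdu])
    (by rw [add_mul, mul_add, hswap.1, hswap.2, add_comm])
  have hUu : ∀ d ∈ R0 k F, d * u = u * d → U * (d : Matrix (Bits k) (Bits k) F) = (d : Matrix (Bits k) (Bits k) F) * U :=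
    fun d _ h => hU ▸ val_comm h.symm
  obtain ⟨b, hb⟩ := hall (X := (M - D * M * D') * U) (fun d hd hdu => by
      rw [mul_assoc, hUu d hd hdu, ← mul_assoc, sub_mul _ _ (d : Matrix (Bits k) (Bits k) F), hM d hd hdu,
        hconj d hd hdu, ← mul_sub, mul_assoc])
    (by
      rw [mul_assoc, show U * D = -(D * U) by rw [hUD, neg_neg], mul_neg, ← mul_assoc, ← mul_assoc D,
        sub_mul, hswap.2, mul_sub, hswap.1, ← neg_mul, neg_sub])
  obtain ⟨z, hz, hUU⟩ : ∃ z : F, z ≠ 0 ∧ U * U = z • 1 := by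
    rcases hR.sq u hu with e | e
    · exact ⟨1, one_ne_zero, by rw [hU, ← Units.val_mul, e, Units.val_one, one_smul]⟩
    · exact ⟨-1, neg_ne_zero.2 one_ne_zero, by
        rw [hU, ← Units.val_mul, e, Units.val_neg, Units.val_one, neg_one_smul]⟩
  have hd : M - D * M * D' = (b / z) • U := by
    have h := congrArg (· * U) hb
    simp only [mul_assoc, hUU, Matrix.mul_smul, mul_one, Matrix.smul_mul, one_mul] at h
    rw [div_eq_inv_mul, mul_smul, ← h, inv_smul_smul₀ hz]
    simp only [mul_assoc]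
  refine ⟨(2 : F)⁻¹ * a, (2 : F)⁻¹ * (b / z), ?_⟩
  rw [← hU, mul_smul, mul_smul, ← ha, ← hd, ← smul_add,
    show M + D * M * D' + (M - D * M * D') = (2 : F) • M by rw [two_smul]; abel, inv_smul_smul₀ h2]

/-- Commuting with the common centraliser of an anticommuting pair. -/
theorem quat_form (h2 : (2 : F) ≠ 0) {u w : GL (Bits k) F} (hu : u ∈ R0 k F) (hw : w ∈ R0 k F)
    (huu : u * u = -1) (hww : w * w = -1) (hwu : w * u = -(u * w))
    {M : Matrix (Bits k) (Bits k) F}
    (hM : ∀ d ∈ R0 k F, d * u = u * d → d * w = w * d →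
      M * (d : Matrix (Bits k) (Bits k) F) = (d : Matrix (Bits k) (Bits k) F) * M) :
    ∃ α β γ δ : F, M = α • 1 + β • (u : Matrix (Bits k) (Bits k) F) + γ • (w : Matrix (Bits k) (Bits k) F) +
      δ • ((u : Matrix (Bits k) (Bits k) F) * (w : Matrix (Bits k) (Bits k) F)) := by
  have hR := R0_sys (F := F) (k := k) h2
  have hu1 : u ≠ 1 := fun e => hR.one_ne_neg (by rw [e, one_mul] at huu; exact huu)
  have hum : u ≠ -1 := fun e => hR.one_ne_neg (by rw [e, neg_mul_neg, one_mul] at huu; exact huu)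
  obtain ⟨U, hU⟩ : ∃ U : Matrix (Bits k) (Bits k) F, U = (u : Matrix (Bits k) (Bits k) F) := ⟨_, rfl⟩
  obtain ⟨W, hW⟩ : ∃ W : Matrix (Bits k) (Bits k) F, W = (w : Matrix (Bits k) (Bits k) F) := ⟨_, rfl⟩
  have hUU : U * U = -1 := by rw [hU, ← Units.val_mul, huu, Units.val_neg, Units.val_one]
  have hWW : W * W = -1 := by rw [hW, ← Units.val_mul, hww, Units.val_neg, Units.val_one]
  have hWU : W * U = -(U * W) := hU ▸ hW ▸ val_anti hwu
  -- everything commuting with `u` is in the centraliser of both or in its translate by `u`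
  have hall : ∀ {X : Matrix (Bits k) (Bits k) F},
      (∀ d ∈ R0 k F, d * u = u * d → d * w = w * d →
        X * (d : Matrix (Bits k) (Bits k) F) = (d : Matrix (Bits k) (Bits k) F) * X) →
      X * U = U * X → ∃ α β : F, X = α • 1 + β • U := by
    intro X hX hXU
    rw [hU]
    refine comm_form h2 hu hu1 hum fun d hd hdu => ?_
    rcases hR.comm d hd w hw with e | e
    · exact hX d hd hdu e
    · have h := hX (d * u) (mul_mem hd hu) (by rw [mul_assoc, huu, ← mul_assoc, ← hdu, mul_assoc, huu]) (by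
        rw [mul_assoc, show u * w = -(w * u) by rw [hwu, neg_neg], mul_neg, ← mul_assoc, e, neg_mul, neg_neg,
          mul_assoc])
      rw [Units.val_mul, ← hU] at h
      have hd' : (d : Matrix (Bits k) (Bits k) F) = -((d : Matrix (Bits k) (Bits k) F) * U * U) := by
        rw [mul_assoc, hUU]; simp
      rw [hd', mul_neg, ← mul_assoc, h, mul_assoc, hXU, ← mul_assoc, neg_mul]
  have hUd : ∀ d ∈ R0 k F, d * u = u * d → U * (d : Matrix (Bits k) (Bits k) F) = (d : Matrix (Bits k) (Bits k) F) * U :=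
    fun d _ h => hU ▸ val_comm h.symm
  have hconj : ∀ d ∈ R0 k F, d * u = u * d → d * w = w * d →
      U * M * U * (d : Matrix (Bits k) (Bits k) F) = (d : Matrix (Bits k) (Bits k) F) * (U * M * U) := by
    intro d hd h1 h3
    rw [mul_assoc, hUd d hd h1, ← mul_assoc, mul_assoc U M, hM d hd h1 h3, ← mul_assoc U, hUd d hd h1]
    simp only [mul_assoc]
  obtain ⟨a, b, hab⟩ := hall (X := M - U * M * U)
    (fun d hd h1 h3 => by rw [sub_mul, mul_sub, hM d hd h1 h3, hconj d hd h1 h3]) (by
      rw [sub_mul, mul_sub, mul_assoc (U * M), hUU, ← mul_assoc U (U * M), ← mul_assoc U U, hUU]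
      simp only [mul_neg, mul_one, neg_mul, one_mul, sub_neg_eq_add]
      abel)
  have hWd : ∀ d ∈ R0 k F, d * w = w * d → W * (d : Matrix (Bits k) (Bits k) F) = (d : Matrix (Bits k) (Bits k) F) * W :=
    fun d _ h => hW ▸ val_comm h.symm
  obtain ⟨c, e, hce⟩ := hall (X := (M + U * M * U) * W)
    (fun d hd h1 h3 => by
      rw [mul_assoc, hWd d hd h3, ← mul_assoc, add_mul _ _ (d : Matrix (Bits k) (Bits k) F), hM d hd h1 h3,
        hconj d hd h1 h3, ← mul_add, mul_assoc]) (by
      rw [mul_assoc, hWU, mul_neg, ← mul_assoc, ← mul_assoc U, ← neg_mul, add_mul, mul_assoc (U * M), hUU,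
        mul_add, ← mul_assoc U (U * M), ← mul_assoc U U, hUU]
      simp only [mul_neg, mul_one, neg_mul, one_mul, neg_add, neg_neg]
      congr 1
      abel)
  have hM2 : M + U * M * U = -(c • W + e • (U * W)) := by
    have h := congrArg (· * W) hce
    simp only [mul_assoc, hWW, add_mul, Matrix.smul_mul, one_mul, mul_neg, mul_one] at h
    rw [← h]; simp only [mul_assoc]; abel
  refine ⟨(2 : F)⁻¹ * a, (2 : F)⁻¹ * b, -((2 : F)⁻¹ * c), -((2 : F)⁻¹ * e), ?_⟩
  rw [← hU, ← hW, neg_smul, neg_smul, mul_smul, mul_smul, mul_smul, mul_smul, ← smul_add, ← hab]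
  have : (2 : F) • M = (M - U * M * U) + -(c • W + e • (U * W)) := by rw [← hM2, two_smul]; abel
  refine (smul_right_injective _ h2) ?_
  simp only [smul_add, smul_neg, smul_inv_smul₀ h2]
  rw [this]; abel

/-- `1, u, w, uw` are independent. -/
theorem quat_indep {ι : Type} [Fintype ι] [DecidableEq ι] [Nonempty ι] (h2 : (2 : F) ≠ 0)
    {U W : Matrix ι ι F} (hUU : U * U = -1) (hWW : W * W = -1) (hWU : W * U = -(U * W)) {c0 c1 c2 c3 : F}
    (h : c0 • (1 : Matrix ι ι F) + c1 • U + c2 • W + c3 • (U * W) = 0) : c0 = 0 ∧ c1 = 0 ∧ c2 = 0 ∧ c3 = 0 := by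
  have hU0 : U ≠ 0 := fun e => by rw [e, zero_mul] at hUU; exact one_ne_zero (neg_eq_zero.1 hUU.symm)
  have key : ∀ a b : F, a • (1 : Matrix ι ι F) + b • U = 0 → a = 0 ∧ b = 0 := by
    intro a b hab
    have h' := congrArg (fun X => W * X * W) hab
    simp only [mul_add, add_mul, Matrix.mul_smul, Matrix.smul_mul, mul_one, hWW, hWU, neg_mul, mul_assoc U W W,
      mul_neg, neg_neg, mul_zero, zero_mul] at h'
    have e1 : (2 * b) • U = 0 := by
      have := congrArg₂ (· + ·) hab h'
      rw [add_zero] at this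
      rw [← this]; module
    have hb : b = 0 := (mul_eq_zero.1 ((smul_eq_zero.1 e1).resolve_right hU0)).resolve_left h2
    rw [hb, zero_smul, add_zero] at hab
    exact ⟨(smul_eq_zero.1 hab).resolve_right one_ne_zero, hb⟩
  have h' := congrArg (fun X => U * X * U) h
  simp only [mul_add, add_mul, Matrix.mul_smul, Matrix.smul_mul, mul_one, hUU, ← mul_assoc U U, neg_mul, one_mul,
    mul_assoc U W U, hWU, mul_neg, neg_neg, mul_zero, zero_mul] at h'
  have e1 : c0 • (1 : Matrix ι ι F) + c1 • U = 0 := by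
    have : (2 : F) • (c0 • (1 : Matrix ι ι F) + c1 • U) = 0 := by
      rw [← sub_self (0 : Matrix ι ι F)]
      nth_rewrite 1 [← h]
      rw [← h']; module
    exact (smul_eq_zero.1 this).resolve_left h2
  obtain ⟨k0, k1⟩ := key c0 c1 e1
  rw [e1, zero_add] at h
  have h'' := congrArg (· * W) h
  simp only [add_mul, Matrix.smul_mul, mul_assoc, hWW, mul_neg, mul_one, zero_mul] at h''
  obtain ⟨k2, k3⟩ := key c2 c3 (by rw [← neg_eq_zero, ← h'']; module)
  exact ⟨k0, k1, k2, k3⟩

end Cfsg.Agent.C6Orth
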