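import Cfsg.Agent.Lib.C6Orth.Spread
import Cfsg.Agent.Lib.C6Orth.Quat
import Cfsg.Agent.Lib.C6Orth.Fixed
/-!
# Groups normalised by the normaliser of the standard group

* `kill` : a group of isometries normalised by the normaliser of the standard group either contains it or is `±1`
-/

set_option autoImplicit false
set_option linter.unusedSectionVars false

namespace Cfsg.Agent.C6Orth

open Matrix
open Cfsg.Agent.C6Gen

variable {k : ℕ} {F : Type*} [Field F]

/-- Conjugates by a member of a semicommuting element keep commuting. -/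
theorem comm_conj {ι : Type} [Fintype ι] [DecidableEq ι] {s d y : GL ι F}
    (hsd : s * d = d * s ∨ s * d = -(d * s)) (hsy : s * y = y * s) :
    s * (d * y * d⁻¹) = d * y * d⁻¹ * s := by
  rcases hsd with e | e
  · have e' : s * d⁻¹ = d⁻¹ * s := by
      rw [eq_inv_mul_iff_mul_eq, ← mul_assoc, ← e, mul_inv_cancel_right]
    rw [← mul_assoc, ← mul_assoc, e, mul_assoc d s, hsy, mul_assoc, mul_assoc y, e', ← mul_assoc, ← mul_assoc]
  · have e' : s * d⁻¹ = -(d⁻¹ * s) := by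
      rw [← mul_neg, eq_inv_mul_iff_mul_eq, ← mul_assoc, show d * s = -(s * d) by rw [e, neg_neg], neg_mul,
        mul_inv_cancel_right]
    rw [← mul_assoc, ← mul_assoc, e, neg_mul, mul_assoc d s, hsy, neg_mul, mul_assoc, mul_assoc y, e', mul_neg,
      mul_neg, neg_neg, ← mul_assoc, ← mul_assoc]

/-- Conjugation by a member is of order two on matrices. -/
theorem conj_conj {ι : Type} [Fintype ι] [DecidableEq ι] {d : GL ι F} (hd : d * d = 1 ∨ d * d = -1) (y : GL ι F) :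
    d * (d * y * d⁻¹) * d⁻¹ = y := by
  rw [show d * (d * y * d⁻¹) * d⁻¹ = (d * d) * y * (d * d)⁻¹ by group]
  rcases hd with h | h <;> rw [h]
  · simp
  · simp [inv_neg]

/-- Conjugations by members commute. -/
theorem conj_comm {ι : Type} [Fintype ι] [DecidableEq ι] {d d' : GL ι F}
    (hd : d * d' = d' * d ∨ d * d' = -(d' * d)) (y : GL ι F) :
    d * (d' * y * d'⁻¹) * d⁻¹ = d' * (d * y * d⁻¹) * d'⁻¹ := by
  rw [show d * (d' * y * d'⁻¹) * d⁻¹ = (d * d') * y * (d * d')⁻¹ by group,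
    show d' * (d * y * d⁻¹) * d'⁻¹ = (d' * d) * y * (d' * d)⁻¹ by group]
  rcases hd with h | h <;> rw [h]
  simp [inv_neg]

theorem pow_anti {ι : Type} [Fintype ι] [DecidableEq ι] {h a : GL ι F} (ha : h * a = -(a * h)) (m : ℕ) :
    (Even m → h ^ m * a = a * h ^ m) ∧ (Odd m → h ^ m * a = -(a * h ^ m)) := by
  induction m with
  | zero => simp
  | succ m ih =>
    refine ⟨fun hm => ?_, fun hm => ?_⟩
    · have ho : Odd m := Nat.not_even_iff_odd.1 (Nat.even_add_one.1 hm)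
      rw [pow_succ, mul_assoc, ha, mul_neg, ← mul_assoc, ih.2 ho, neg_mul, neg_neg, mul_assoc]
    · have he : Even m := by
        by_contra hne
        exact (Nat.not_even_iff_odd.2 hm) (Nat.even_add_one.2 hne)
      rw [pow_succ, mul_assoc, ha, mul_neg, ← mul_assoc, ih.1 he, mul_assoc]

theorem sys_not_pm {u : GL (Bits k) F} (h2 : (2 : F) ≠ 0) (hu : u * u = -1) : u ≠ 1 ∧ u ≠ -1 :=
  ⟨fun e => (R0_sys h2).one_ne_neg (by rw [e, one_mul] at hu; exact hu),
   fun e => (R0_sys h2).one_ne_neg (by rw [e, neg_mul_neg, one_mul] at hu; exact hu)⟩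

/-- An anticommuting partner of square `-1`. -/
theorem exists_partner (h2 : (2 : F) ≠ 0) (hk : 2 ≤ k) {u : GL (Bits k) F} (hu : u ∈ R0 k F) (huu : u * u = -1) :
    ∃ w ∈ R0 k F, w * w = -1 ∧ w * u = -(u * w) := by
  obtain ⟨a, b, e, rfl⟩ := hu
  rw [elt_sq, neg_one_elt] at huu
  have hab : b ⬝ᵥ a = 1 := (elt_inj h2 huu).2.2
  obtain ⟨i, hi⟩ : ∃ i, b i * a i ≠ 0 := by
    by_contra hno
    push Not at hno
    rw [dotProduct, Finset.sum_eq_zero fun i _ => hno i] at hab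
    exact zero_ne_one hab
  obtain ⟨hbi, hai⟩ : b i = 1 ∧ a i = 1 :=
    ⟨(zmod2 (b i)).resolve_left fun e => hi (by rw [e, zero_mul]),
     (zmod2 (a i)).resolve_left fun e => hi (by rw [e, mul_zero])⟩
  obtain ⟨l, hl⟩ : ∃ l : Fin k, l ≠ i := by
    have : Nontrivial (Fin k) := Fin.nontrivial_iff_two_le.2 hk
    exact exists_ne i
  rcases zmod2 (b l + a l) with hz | hz
  · refine ⟨elt (Pi.single i 1 + Pi.single l 1) (Pi.single l 1) 0, elt_mem _ _ _,
      sq_neg_elt 0 (by simp [dotProduct_add, Ne.symm hl, hl]), ?_⟩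
    rcases elt_comm_cases (F := F) (Pi.single i 1 + Pi.single l 1) (Pi.single l 1) a b 0 e with ⟨h, -⟩ | ⟨-, h⟩
    · simp only [dotProduct_add, single_dotProduct, dotProduct_single, one_mul, mul_one, hbi] at h
      exact absurd (by linear_combination h - hz : (1 : ZMod 2) = 0) one_ne_zero
    · exact h
  · refine ⟨elt (Pi.single l 1) (Pi.single l 1) 0, elt_mem _ _ _, sq_neg_elt 0 (by simp), ?_⟩
    rcases elt_comm_cases (F := F) (Pi.single l 1) (Pi.single l 1) a b 0 e with ⟨h, -⟩ | ⟨-, h⟩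
    · simp only [single_dotProduct, dotProduct_single, one_mul, mul_one] at h
      exact absurd (by linear_combination h - hz : (1 : ZMod 2) = 0) one_ne_zero
    · exact h

variable [Fintype F]

theorem card_pmIn {ι : Type} [Fintype ι] [DecidableEq ι] (h1 : (1 : GL ι F) ≠ -1) {H : Subgroup (GL ι F)}
    (hneg : (-1 : GL ι F) ∈ H) : Nat.card (pmIn H) = 2 := by
  refine Nat.card_eq_two_iff.2 ⟨⟨1, Or.inl rfl⟩, ⟨⟨-1, hneg⟩, Or.inr rfl⟩,
    fun h => h1 (congrArg (fun z : pmIn H => ((z : H) : GL ι F)) h), Set.eq_univ_of_forall fun z => ?_⟩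
  rcases z.2 with h | h
  · exact Or.inl (Subtype.ext (Subtype.ext h))
  · exact Or.inr (Subtype.ext (Subtype.ext h))

/-- The even case. -/
theorem kill_even (h2 : (2 : F) ≠ 0) {H : Subgroup (GL (Bits k) F)} (hH : H ≤ orth (Bits k) F)
    (hnormR : ∀ d ∈ R0 k F, ∀ h ∈ H, d * h * d⁻¹ ∈ H) (hN : Even (Nat.card (H ⧸ pmIn H))) :
    ∃ c ∈ R0 k F, c ∈ H ∧ c ≠ 1 ∧ c ≠ -1 := by
  classical
  have hR := R0_sys (F := F) (k := k) h2
  have := hR.finiteR
  let cj : R0 k F → (H →* H) := fun d =>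
    { toFun := fun x => ⟨(d : GL (Bits k) F) * x * (d : GL (Bits k) F)⁻¹, hnormR _ d.2 _ x.2⟩
      map_one' := Subtype.ext (by simp)
      map_mul' := fun x y => Subtype.ext (by simp [mul_assoc]) }
  have hcj : ∀ d, ∀ z ∈ pmIn H, cj d z ∈ pmIn H := fun d z hz => by
    rcases hz with h | h
    · exact Or.inl (by show _ * _ * _ = _; simp [h])
    · exact Or.inr (by show _ * _ * _ = _; simp [h])
  let f : Option (R0 k F) → H ⧸ pmIn H → H ⧸ pmIn H := fun o => match o with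
    | none => fun q => q⁻¹
    | some d => QuotientGroup.map (pmIn H) (pmIn H) (cj d) fun z hz => hcj d z hz
  obtain ⟨q, hq, hqf⟩ := exists_common_fixed hN (1 : H ⧸ pmIn H) f (fun o q => by
      obtain ⟨x, rfl⟩ := QuotientGroup.mk_surjective q
      rcases o with _ | d
      · exact inv_inv _
      · show ((cj d (cj d x) : H) : H ⧸ pmIn H) = _
        congr 1
        exact Subtype.ext (conj_conj (hR.sq _ d.2) _))
    (fun o o' q => by
      obtain ⟨x, rfl⟩ := QuotientGroup.mk_surjective q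
      rcases o with _ | d <;> rcases o' with _ | d'
      · rfl
      · exact (map_inv (QuotientGroup.map (pmIn H) (pmIn H) (cj d') fun z hz => hcj d' z hz) _).symm
      · exact map_inv (QuotientGroup.map (pmIn H) (pmIn H) (cj d) fun z hz => hcj d z hz) _
      · show ((cj d (cj d' x) : H) : H ⧸ pmIn H) = ((cj d' (cj d x) : H) : H ⧸ pmIn H)
        congr 1
        exact Subtype.ext (conj_comm (hR.comm _ d.2 _ d'.2) _))
    (fun o => by rcases o with _ | d <;> simp [f])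
  obtain ⟨x, rfl⟩ := QuotientGroup.mk_surjective q
  have hxR : (x : GL (Bits k) F) ∈ R0 k F := by
    refine exists_elt_orth h2 (hH x.2) fun d hd => ?_
    have h : ((cj ⟨d, hd⟩ x : H) : H ⧸ pmIn H) = (x : H ⧸ pmIn H) := hqf (some ⟨d, hd⟩)
    rcases (QuotientGroup.eq.1 h.symm) with e | e
    · left
      have e' : d * (x : GL (Bits k) F) * d⁻¹ = x := (inv_mul_eq_one.1 e).symm
      exact (mul_inv_eq_iff_eq_mul.1 e').symm
    · right
      have e' : d * (x : GL (Bits k) F) * d⁻¹ = -(x : GL (Bits k) F) := by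
        rw [Subgroup.coe_mul, Subgroup.coe_inv, inv_mul_eq_iff_eq_mul, mul_neg, mul_one] at e
        exact e
      rw [mul_inv_eq_iff_eq_mul.1 e', neg_mul, neg_neg]
  exact ⟨x, hxR, x.2, fun e => hq ((QuotientGroup.eq_one_iff x).2 (Or.inl e)),
    fun e => hq ((QuotientGroup.eq_one_iff x).2 (Or.inr e))⟩

set_option maxHeartbeats 1600000 in
/-- The odd case. -/
theorem kill_odd (h2 : (2 : F) ≠ 0) (hk : 2 ≤ k) {H : Subgroup (GL (Bits k) F)} (hH : H ≤ orth (Bits k) F)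
    (hneg : (-1 : GL (Bits k) F) ∈ H)
    (hnorm : ∀ n ∈ Cfsg.Geo.subgroupNormalizer (R0 k F), n ∈ orth (Bits k) F → ∀ h ∈ H, n * h * n⁻¹ ∈ H)
    (hnormR : ∀ d ∈ R0 k F, ∀ h ∈ H, d * h * d⁻¹ ∈ H)
    (hN : Odd (Nat.card (H ⧸ pmIn H))) : ∀ h ∈ H, h = 1 ∨ h = -1 := by
  classical
  have hR := R0_sys (F := F) (k := k) h2
  have := hR.finiteR
  have := Fintype.ofFinite (R0 k F)
  intro h0 hh0
  by_contra hnot
  push Not at hnot
  obtain ⟨N, hNdef⟩ : ∃ N, N = Nat.card (H ⧸ pmIn H) := ⟨_, rfl⟩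
  rw [← hNdef] at hN
  have hexp : ∀ g ∈ H, g ^ N = 1 ∨ g ^ N = -1 := fun g hg => by
    have h : ((⟨g, hg⟩ : H) : H ⧸ pmIn H) ^ N = 1 := hNdef ▸ pow_card_eq_one'
    rw [← QuotientGroup.mk_pow, QuotientGroup.eq_one_iff] at h
    exact h
  have hm1 : (-1 : GL (Bits k) F) ^ N ≠ 1 := by rw [hN.neg_one_pow]; exact hR.one_ne_neg.symm
  have hN1 : Even (N + 1) := hN.add_one
  have hodd : ∀ g ∈ H, g ^ (N + 1) = 1 → g = 1 ∨ g = -1 := fun g hg h => by
    rw [pow_succ] at h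
    rcases hexp g hg with e | e <;> rw [e] at h
    · exact Or.inl (by rwa [one_mul] at h)
    · exact Or.inr (by rw [neg_mul, one_mul] at h; rw [← h, neg_neg])
  have hpowN : ∀ g ∈ H, (g ^ (N + 1)) ^ N = 1 := fun g hg => by
    rw [← pow_mul, mul_comm, pow_mul]
    rcases hexp g hg with e | e <;> rw [e]
    · exact one_pow _
    · exact hN1.neg_one_pow
  -- an element with a maximal set of commuting members
  let fixd : GL (Bits k) F → Finset (R0 k F) := fun y =>
    Finset.univ.filter fun d => (d : GL (Bits k) F) * y = y * d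
  have hFin : Finite H := inferInstance
  have := Fintype.ofFinite H
  obtain ⟨x, hxS, hmax⟩ := Finset.exists_max_image
    (Finset.univ.filter fun y : H => (y : GL (Bits k) F) ^ N = 1 ∧ (y : GL (Bits k) F) ≠ 1)
    (fun y => (fixd y).card) ⟨⟨h0 ^ (N + 1), H.pow_mem hh0 _⟩, Finset.mem_filter.2 ⟨Finset.mem_univ _,
      hpowN h0 hh0, fun e => by
        rcases hodd h0 hh0 e with e' | e'
        exacts [hnot.1 e', hnot.2 e']⟩⟩
  obtain ⟨-, hxN, hx1⟩ := Finset.mem_filter.1 hxS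
  obtain ⟨x, hxH⟩ := x
  dsimp only at hxN hx1 hmax
  have hxm : x ≠ -1 := fun e => hm1 (e ▸ hxN)
  have hdich : ∀ d ∈ R0 k F, d * x = x * d ∨ d * x * d⁻¹ = x⁻¹ := by
    intro d hd
    refine or_iff_not_imp_left.2 fun hdx => ?_
    let S : Set (GL (Bits k) F) := {s | s ∈ R0 k F ∧ s * x = x * s}
    let O : Subgroup (GL (Bits k) F) := H ⊓ Subgroup.centralizer S
    have hmemO : ∀ y, y ∈ O ↔ y ∈ H ∧ ∀ s, s ∈ R0 k F → s * x = x * s → s * y = y * s := fun y => by
      simp only [O, S, Subgroup.mem_inf, Subgroup.mem_centralizer_iff, Set.mem_setOf_eq, and_imp]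
    have hxO : x ∈ O := (hmemO x).2 ⟨hxH, fun s _ h => h⟩
    have hcl : ∀ y ∈ O, d * y * d⁻¹ ∈ O := fun y hy => (hmemO _).2 ⟨hnormR d hd _ ((hmemO y).1 hy).1,
      fun s hs hsx => comm_conj (hR.comm s hs d hd) (((hmemO y).1 hy).2 s hs hsx)⟩
    let φ : O ≃* O :=
      { toFun := fun y => ⟨d * y * d⁻¹, hcl y y.2⟩
        invFun := fun y => ⟨d * y * d⁻¹, hcl y y.2⟩
        left_inv := fun y => Subtype.ext (conj_conj (hR.sq d hd) _)
        right_inv := fun y => Subtype.ext (conj_conj (hR.sq d hd) _)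
        map_mul' := fun y z => Subtype.ext (by simp [mul_assoc]) }
    have hφ : ∀ y : O, ((φ y : O) : GL (Bits k) F) = d * y * d⁻¹ := fun y => rfl
    have hkey := neg_inv_of_fpf (pmIn O) φ (fun y => Subtype.ext (conj_conj (hR.sq d hd) _))
      (fun z hz => by
        rcases hz with h | h
        · exact Or.inl (by rw [hφ, h]; simp)
        · exact Or.inr (by rw [hφ, h]; simp))
      (fun y hy => by
        obtain ⟨y, hyO⟩ := y
        obtain ⟨hyH, hyS⟩ := (hmemO y).1 hyO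
        have hsgn : d * y * d⁻¹ = y ∨ d * y * d⁻¹ = -y := by
          rcases hy with h | h <;> rw [Subgroup.coe_mul, Subgroup.coe_inv, hφ, inv_mul_eq_iff_eq_mul] at h
          · exact Or.inl (by rw [h, mul_one])
          · exact Or.inr (by rw [h, mul_neg, mul_one])
        have hz : d * y ^ (N + 1) = y ^ (N + 1) * d := by
          refine mul_inv_eq_iff_eq_mul.1 ?_
          rw [← conj_pow]
          rcases hsgn with e | e <;> rw [e]
          exact hN1.neg_pow _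
        by_cases h1 : y ^ (N + 1) = 1
        · exact hodd y hyH h1
        exfalso
        have hle := hmax ⟨y ^ (N + 1), H.pow_mem hyH _⟩
          (Finset.mem_filter.2 ⟨Finset.mem_univ _, hpowN y hyH, h1⟩)
        have hlt : fixd x ⊂ fixd (y ^ (N + 1)) := by
          refine (Finset.ssubset_iff_of_subset fun s hs => ?_).2 ⟨⟨d, hd⟩, ?_, ?_⟩
          · simp only [fixd, Finset.mem_filter] at hs ⊢
            exact ⟨hs.1, (Commute.pow_right (hyS s s.2 hs.2) _)⟩
          · simp only [fixd, Finset.mem_filter]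
            exact ⟨Finset.mem_univ _, hz⟩
          · simp only [fixd, Finset.mem_filter]
            exact fun h => hdx h.2
        exact absurd hle (not_le.2 (Finset.card_lt_card hlt))) ⟨x, hxO⟩
    rcases hkey with h | h <;> rw [Subgroup.coe_mul, hφ] at h
    · exact (eq_inv_of_mul_eq_one_right h)
    · exfalso
      have e : d * x * d⁻¹ = -x⁻¹ := by
        rw [← mul_one x⁻¹, ← mul_neg, ← h, inv_mul_cancel_left]
      have e' := congrArg (· ^ N) e
      simp only [conj_pow, hxN, mul_one, mul_inv_cancel, hN.neg_pow, inv_pow, inv_one] at e'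
      exact hR.one_ne_neg e'
  have hxx : x⁻¹ ≠ x := fun e => by
    rw [inv_eq_iff_mul_eq_one, ← pow_two] at e
    have h' : x ^ N = x := by
      obtain ⟨m, hm⟩ := hN
      rw [hm, pow_succ, pow_mul, e, one_pow, one_mul]
    exact hx1 (h'.symm.trans hxN)
  have hexcl : ∀ d, d * x = x * d → d * x * d⁻¹ = x := fun d h => by rw [h, mul_inv_cancel_right]
  -- the member with the same pattern
  let b : Bits k := fun i => if elt (Pi.single i 1) 0 0 * x = x * elt (Pi.single i 1) 0 0 then 0 else 1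
  let a : Bits k := fun i => if elt 0 (Pi.single i 1) 0 * x = x * elt 0 (Pi.single i 1) 0 then 0 else 1
  obtain ⟨u, hu⟩ : ∃ u : GL (Bits k) F, u = elt a b 0 := ⟨_, rfl⟩
  have huR : u ∈ R0 k F := hu ▸ elt_mem _ _ _
  have hpat : ∀ d ∈ R0 k F, (d * u = u * d ∧ d * x = x * d) ∨ (d * u = -(u * d) ∧ d * x * d⁻¹ = x⁻¹) := by
    intro d hd
    refine R0_induction (P := fun d => (d * u = u * d ∧ d * x = x * d) ∨ (d * u = -(u * d) ∧ d * x * d⁻¹ = x⁻¹))
      (Or.inl ⟨by simp, by simp⟩) (Or.inl ⟨by simp, by simp⟩) (fun p hp q hq hp' hq' => ?_) (fun i => ?_)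
      (fun i => ?_) hd
    · have e : p * q * x * (p * q)⁻¹ = p * (q * x * q⁻¹) * p⁻¹ := by group
      rcases hp' with ⟨a1, a2⟩ | ⟨a1, a2⟩ <;> rcases hq' with ⟨b1, b2⟩ | ⟨b1, b2⟩
      · exact Or.inl ⟨by rw [mul_assoc, b1, ← mul_assoc, a1, mul_assoc],
          by rw [mul_assoc, b2, ← mul_assoc, a2, mul_assoc]⟩
      · refine Or.inr ⟨by rw [mul_assoc, b1, mul_neg, ← mul_assoc, a1, mul_assoc], ?_⟩
        rw [e, b2, ← conj_inv, hexcl p a2]
      · refine Or.inr ⟨by rw [mul_assoc, b1, ← mul_assoc, a1, neg_mul, mul_assoc], ?_⟩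
        rw [e, hexcl q b2, a2]
      · refine Or.inl ⟨by rw [mul_assoc, b1, mul_neg, ← mul_assoc, a1, neg_mul, neg_neg, mul_assoc], ?_⟩
        refine mul_inv_eq_iff_eq_mul.1 ?_
        rw [e, b2, ← conj_inv, a2, inv_inv]
    · rw [hu]
      rcases elt_comm_cases (F := F) (Pi.single i 1) 0 a b 0 0 with ⟨hz, h⟩ | ⟨hz, h⟩ <;>
        simp only [dotProduct_single, mul_one, zero_dotProduct, zero_add] at hz
      · refine Or.inl ⟨h, ?_⟩
        by_contra hne; simp [b, hne] at hz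
      · refine Or.inr ⟨h, (hdich _ (elt_mem _ _ _)).resolve_left fun he => ?_⟩
        simp [b, he] at hz
    · rw [hu]
      rcases elt_comm_cases (F := F) 0 (Pi.single i 1) a b 0 0 with ⟨hz, h⟩ | ⟨hz, h⟩ <;>
        simp only [single_dotProduct, one_mul, dotProduct_zero, add_zero] at hz
      · refine Or.inl ⟨h, ?_⟩
        by_contra hne; simp [a, hne] at hz
      · refine Or.inr ⟨h, (hdich _ (elt_mem _ _ _)).resolve_left fun he => ?_⟩
        simp [a, he] at hz
  have hcent : ∀ d ∈ R0 k F, d * u = u * d → d * x = x * d := fun d hd h => by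
    rcases hpat d hd with ⟨-, h'⟩ | ⟨h', -⟩
    · exact h'
    · rw [h] at h'; exact absurd h' (hR.ne_neg _)
  have hu1 : u ≠ 1 ∧ u ≠ -1 := by
    rw [← not_or]
    intro hor
    obtain ⟨c, hc⟩ := scalar_of_commute h2 (M := (x : Matrix (Bits k) (Bits k) F)) fun d hd =>
      val_comm (hcent d hd (by rcases hor with e | e <;> simp [e])).symm
    rcases scalar_pm h2 (hH hxH) hc with e | e
    exacts [hx1 e, hxm e]
  obtain ⟨U, hU⟩ : ∃ U : Matrix (Bits k) (Bits k) F, U = (u : Matrix (Bits k) (Bits k) F) := ⟨_, rfl⟩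
  obtain ⟨α, β, hform⟩ := comm_form h2 huR hu1.1 hu1.2 (M := (x : Matrix (Bits k) (Bits k) F))
    fun d hd h => val_comm (hcent d hd h).symm
  rw [← hU] at hform
  have hβ : β ≠ 0 := fun e => by
    rw [e, zero_smul, add_zero] at hform
    rcases scalar_pm h2 (hH hxH) hform with e | e
    exacts [hx1 e, hxm e]
  rcases hR.sq u huR with huu | huu
  · -- a symmetric `u`
    have hUU : U * U = 1 := by rw [hU, ← Units.val_mul, huu, Units.val_one]
    have hUT : Uᵀ = U := by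
      calc Uᵀ = Uᵀ * U * U := by rw [mul_assoc, hUU, mul_one]
        _ = U := by rw [hU, transpose_of_orth h2 (R0_le_orth huR), one_mul]
    have h := transpose_of_orth h2 (hH hxH)
    rw [hform, Matrix.transpose_add, Matrix.transpose_smul, Matrix.transpose_smul, Matrix.transpose_one, hUT] at h
    simp only [add_mul, mul_add, Matrix.smul_mul, Matrix.mul_smul, mul_one, one_mul, hUU] at h
    have h' : (2 * α * β) • U = (1 - (α * α + β * β)) • (1 : Matrix (Bits k) (Bits k) F) := by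
      rw [sub_smul, one_smul]; nth_rewrite 1 [← h]; module
    have hαβ : 2 * α * β = 0 := by
      by_contra hne
      have hsc : U = ((2 * α * β)⁻¹ * (1 - (α * α + β * β))) • 1 := by
        rw [mul_smul, ← h', inv_smul_smul₀ hne]
      rcases scalar_pm h2 (R0_le_orth huR) (hU ▸ hsc) with e | e
      exacts [hu1.1 e, hu1.2 e]
    have hα : α = 0 := by
      rcases mul_eq_zero.1 hαβ with e | e
      · exact (mul_eq_zero.1 e).resolve_left h2
      · exact absurd e hβ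
    rw [hα, zero_smul, zero_add] at hform
    have hxu : ((x * u : GL (Bits k) F) : Matrix (Bits k) (Bits k) F) = β • 1 := by
      rw [Units.val_mul, hform, ← hU, Matrix.smul_mul, hUU]
    have huN : u ^ N = u := by
      obtain ⟨m, hm⟩ := hN
      rw [hm, pow_succ, pow_mul, pow_two, huu, one_pow, one_mul]
    rcases scalar_pm h2 (mul_mem (hH hxH) (R0_le_orth huR)) hxu with e | e
    · rw [eq_inv_of_mul_eq_one_left e, inv_eq_of_mul_eq_one_right huu, huN] at hxN
      exact hu1.1 hxN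
    · rw [eq_mul_inv_of_mul_eq e, inv_eq_of_mul_eq_one_right huu, neg_mul, one_mul, hN.neg_pow, huN] at hxN
      exact hu1.2 (neg_eq_iff_eq_neg.1 hxN)
  -- the conjugate in the second direction
  obtain ⟨w, hwR, hww, hwu⟩ := exists_partner h2 hk huR huu
  obtain ⟨n, hnN, hnv, hconj⟩ := hR.exists_pair_normal huR hwR huu hww
  have huw : u * w = -(w * u) := by rw [hwu, neg_neg]
  have hnu : n * u * n⁻¹ = w := by
    obtain ⟨y, hy, hy'⟩ := hconj u huR
    have hyv : y = w * u := by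
      rcases hy with ⟨-, e⟩ | ⟨e, -⟩
      · rw [huw] at e; exact absurd e.symm (hR.ne_neg _)
      · exact e
    rw [hyv] at hy'
    have h3 : u * (w * u) = w := by
      rw [← mul_assoc, huw, neg_mul, mul_assoc, huu, mul_neg, mul_one, neg_neg]
    have h4 : w * u * u = -w := by rw [mul_assoc, huu, mul_neg, mul_one]
    rcases hy' with ⟨-, e⟩ | ⟨e, -⟩
    · rw [h3, h4] at e; exact absurd e.symm (hR.ne_neg _)
    · rw [e, h3]
  have hnO : n ∈ orth (Bits k) F := pair_orth h2 (R0_le_orth huR) (R0_le_orth hwR) huu hww hnv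
  obtain ⟨W, hW⟩ : ∃ W : Matrix (Bits k) (Bits k) F, W = (w : Matrix (Bits k) (Bits k) F) := ⟨_, rfl⟩
  have hUU : U * U = -1 := by rw [hU, ← Units.val_mul, huu, Units.val_neg, Units.val_one]
  have hWW : W * W = -1 := by rw [hW, ← Units.val_mul, hww, Units.val_neg, Units.val_one]
  have hWU : W * U = -(U * W) := hU ▸ hW ▸ val_anti hwu
  -- elements of prime order in both directions
  obtain ⟨o, ho⟩ : ∃ o, o = orderOf x := ⟨_, rfl⟩
  have hoN : o ∣ N := ho ▸ orderOf_dvd_of_pow_eq_one hxN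
  have ho1 : o ≠ 1 := fun e => hx1 (orderOf_eq_one_iff.1 (ho ▸ e))
  obtain ⟨r, hr⟩ : ∃ r, r = o.minFac := ⟨_, rfl⟩
  have hrp : r.Prime := hr ▸ Nat.minFac_prime ho1
  have hr2 : r ≠ 2 := fun e => Nat.not_even_iff_odd.2 hN
    (even_iff_two_dvd.2 (e ▸ (hr ▸ (Nat.minFac_dvd o).trans hoN : r ∣ N)))
  haveI := Fact.mk hrp
  obtain ⟨x0, hx0⟩ : ∃ x0, x0 = x ^ (o / r) := ⟨_, rfl⟩
  have hx0o : orderOf x0 = r := by
    rw [hx0, ho]
    refine orderOf_pow_orderOf_div (fun e => ?_) (by rw [hr, ho]; exact Nat.minFac_dvd _)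
    rw [ho, e] at hoN; exact (Nat.not_even_iff_odd.2 hN) (by rw [zero_dvd_iff.1 hoN]; exact Even.zero)
  have hnopm : ∀ g : GL (Bits k) F, orderOf g = r → g ≠ 1 ∧ g ≠ -1 := fun g hg =>
    ⟨fun e => hrp.ne_one (by rw [← hg, e, orderOf_one]),
     fun e => hr2 (by
      have h : orderOf g ∣ 2 := orderOf_dvd_of_pow_eq_one (by rw [e]; simp)
      rw [hg] at h; exact (Nat.prime_dvd_prime_iff_eq hrp Nat.prime_two).1 h)⟩
  have hx0H : x0 ∈ H := hx0 ▸ H.pow_mem hxH _
  obtain ⟨α0, β0, hform0⟩ := comm_form h2 huR hu1.1 hu1.2 (M := (x0 : Matrix (Bits k) (Bits k) F))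
    fun d hd h => val_comm (hx0 ▸ (Commute.pow_right (hcent d hd h) _).eq.symm)
  have hβ0 : β0 ≠ 0 := fun e => by
    rw [e, zero_smul, add_zero] at hform0
    rcases scalar_pm h2 (hH hx0H) hform0 with e | e
    exacts [(hnopm _ hx0o).1 e, (hnopm _ hx0o).2 e]
  obtain ⟨y0, hy0⟩ : ∃ y0, y0 = n * x0 * n⁻¹ := ⟨_, rfl⟩
  have hy0H : y0 ∈ H := hy0 ▸ hnorm n hnN hnO x0 hx0H
  have hy0o : orderOf y0 = r := by rw [hy0]; exact ((MulAut.conj n).orderOf_eq x0).trans hx0o
  have hform1 : (y0 : Matrix (Bits k) (Bits k) F) = α0 • 1 + β0 • W := by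
    rw [hy0, Units.val_mul, Units.val_mul, hform0, mul_add, add_mul, Matrix.mul_smul, Matrix.mul_smul,
      Matrix.smul_mul, Matrix.smul_mul, mul_one, ← Units.val_mul, mul_inv_cancel, Units.val_one,
      ← Units.val_mul, ← Units.val_mul, hnu, hW]
  rw [← hU] at hform0
  -- the group of both directions
  let S : Set (GL (Bits k) F) := {d | d ∈ R0 k F ∧ d * u = u * d ∧ d * w = w * d}
  let O : Subgroup (GL (Bits k) F) := H ⊓ Subgroup.centralizer S
  have hmemO : ∀ y, y ∈ O ↔ y ∈ H ∧ ∀ d, d ∈ R0 k F → d * u = u * d → d * w = w * d → d * y = y * d := fun y => by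
    simp only [O, S, Subgroup.mem_inf, Subgroup.mem_centralizer_iff, Set.mem_setOf_eq, and_imp]
  have hx0O : x0 ∈ O := (hmemO _).2 ⟨hx0H, fun d hd h1 _ => hx0 ▸ (Commute.pow_right (hcent d hd h1) _)⟩
  have hy0O : y0 ∈ O := (hmemO _).2 ⟨hy0H, fun d hd _ h3 => Units.ext (by
    rw [Units.val_mul, Units.val_mul, hform1, mul_add, add_mul, Matrix.mul_smul, Matrix.smul_mul,
      Matrix.mul_smul, Matrix.smul_mul, mul_one, one_mul, hW, val_comm h3])⟩
  have hnegO : (-1 : GL (Bits k) F) ∈ O := (hmemO _).2 ⟨hneg, fun d _ _ _ => by simp⟩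
  have hclO : ∀ e ∈ R0 k F, ∀ y ∈ O, e * y * e⁻¹ ∈ O := fun e he y hy =>
    (hmemO _).2 ⟨hnormR e he _ ((hmemO y).1 hy).1,
      fun d hd h1 h3 => comm_conj (hR.comm d hd e he) (((hmemO y).1 hy).2 d hd h1 h3)⟩
  let ψ : R0 k F → MulAut O := fun e =>
    { toFun := fun y => ⟨(e : GL (Bits k) F) * y * (e : GL (Bits k) F)⁻¹, hclO _ e.2 y y.2⟩
      invFun := fun y => ⟨(e : GL (Bits k) F) * y * (e : GL (Bits k) F)⁻¹, hclO _ e.2 y y.2⟩
      left_inv := fun y => Subtype.ext (conj_conj (hR.sq _ e.2) _)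
      right_inv := fun y => Subtype.ext (conj_conj (hR.sq _ e.2) _)
      map_mul' := fun y z => Subtype.ext (by simp [mul_assoc]) }
  have hψ : ∀ e (y : O), ((ψ e y : O) : GL (Bits k) F) = (e : GL (Bits k) F) * y * (e : GL (Bits k) F)⁻¹ :=
    fun e y => rfl
  have hψ2 : ∀ e, ψ e * ψ e = 1 := fun e => MulEquiv.ext fun y => Subtype.ext (conj_conj (hR.sq _ e.2) _)
  have hψc : ∀ e e', ψ e * ψ e' = ψ e' * ψ e :=
    fun e e' => MulEquiv.ext fun y => Subtype.ext (conj_comm (hR.comm _ e.2 _ e'.2) _)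
  -- the number of Sylow subgroups is odd
  have hcardH : Nat.card H = N * 2 := by
    rw [Subgroup.card_eq_card_quotient_mul_card_subgroup (pmIn H), card_pmIn hR.one_ne_neg hneg, hNdef]
  have hOH : Nat.card O ∣ N * 2 := hcardH ▸ Subgroup.card_dvd_of_le inf_le_left
  have hsyl : Odd (Nat.card (Sylow r O)) := by
    obtain ⟨P⟩ : Nonempty (Sylow r O) := Sylow.nonempty
    rw [Sylow.card_eq_index_normalizer P]
    have hev : 2 ∣ Nat.card (Subgroup.normalizer ((P : Subgroup O) : Set O)) := by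
      have hm : (⟨-1, hnegO⟩ : O) ∈ Subgroup.normalizer ((P : Subgroup O) : Set O) := by
        refine Subgroup.mem_normalizer_iff.mpr fun y => ?_
        rw [show (⟨-1, hnegO⟩ : O) * y * (⟨-1, hnegO⟩ : O)⁻¹ = y from Subtype.ext (by simp)]
      have h2' : orderOf (⟨-1, hnegO⟩ : O) = 2 := orderOf_eq_prime (Subtype.ext (by simp))
        (fun e => hR.one_ne_neg (congrArg Subtype.val e).symm)
      have h := Subgroup.card_dvd_of_le (Subgroup.zpowers_le.2 hm)
      rwa [Nat.card_zpowers, h2'] at h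
    rw [← Nat.not_even_iff_odd, even_iff_two_dvd]
    intro hdiv
    have h4 : 2 * 2 ∣ N * 2 :=
      ((mul_dvd_mul hev hdiv).trans (dvd_of_eq (Subgroup.card_mul_index _))).trans hOH
    exact (Nat.not_even_iff_odd.2 hN) (even_iff_two_dvd.2 (Nat.dvd_of_mul_dvd_mul_right two_pos h4))
  obtain ⟨P, hPu, hPw⟩ : ∃ P : Sylow r O, ψ ⟨u, huR⟩ • P = P ∧ ψ ⟨w, hwR⟩ • P = P := by
    have h1 : Odd (Nat.card {P : Sylow r O // ψ ⟨u, huR⟩ • P = P}) := by
      rw [← Nat.not_even_iff_odd, ← even_card_fixed (fun P : Sylow r O => ψ ⟨u, huR⟩ • P)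
        fun P => by rw [smul_smul, hψ2, one_smul], Nat.not_even_iff_odd]
      exact hsyl
    let g : {P : Sylow r O // ψ ⟨u, huR⟩ • P = P} → {P : Sylow r O // ψ ⟨u, huR⟩ • P = P} := fun P =>
      ⟨ψ ⟨w, hwR⟩ • P.1, by rw [smul_smul, hψc, ← smul_smul, P.2]⟩
    have h3 : Odd (Nat.card {P : {P : Sylow r O // ψ ⟨u, huR⟩ • P = P} // g P = P}) := by
      rw [← Nat.not_even_iff_odd, ← even_card_fixed g
        fun P => Subtype.ext (by show ψ ⟨w, hwR⟩ • ψ ⟨w, hwR⟩ • P.1 = P.1; rw [smul_smul, hψ2, one_smul]),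
        Nat.not_even_iff_odd]
      exact h1
    obtain ⟨⟨⟨P, hP⟩, hP'⟩⟩ := (Nat.card_pos_iff.1 h3.pos).1
    exact ⟨P, hP, congrArg Subtype.val hP'⟩
  have hfixP : ∀ (e : R0 k F), ψ e • P = P → ∀ y ∈ (P : Subgroup O), ψ e y ∈ (P : Subgroup O) := by
    intro e he y hy
    have h : ψ e • y ∈ ((ψ e • P : Sylow r O) : Subgroup O) := by
      rw [Sylow.pointwise_smul_def]; exact Subgroup.smul_mem_pointwise_smul y _ _ hy
    rwa [he] at h
  have hrO : r ∣ Nat.card O := by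
    rw [← hx0o, ← Subgroup.orderOf_mk x0 hx0O]; exact orderOf_dvd_natCard _
  haveI : Nontrivial (P : Subgroup O) :=
    (Subgroup.nontrivial_iff_ne_bot _).2 (P.ne_bot_of_dvd_card hrO)
  haveI := P.2.center_nontrivial
  obtain ⟨z, hz⟩ := exists_ne (1 : Subgroup.center (P : Subgroup O))
  obtain ⟨Z, hZ⟩ : ∃ Z : GL (Bits k) F, Z = (((z : (P : Subgroup O)) : O) : GL (Bits k) F) := ⟨_, rfl⟩
  have hzcomm : ∀ y : O, y ∈ (P : Subgroup O) → (y : GL (Bits k) F) * Z = Z * y := fun y hy => by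
    have := Subgroup.mem_center_iff.1 z.2 ⟨y, hy⟩
    rw [hZ]; exact congrArg (fun t : (P : Subgroup O) => ((t : O) : GL (Bits k) F)) this
  have hZ1 : Z ≠ 1 ∧ Z ≠ -1 := by
    have hne : Z ≠ 1 := fun e => hz (Subtype.ext (Subtype.ext (Subtype.ext (hZ.symm.trans e))))
    refine ⟨hne, fun e => ?_⟩
    obtain ⟨m, hm⟩ := P.2 (z : (P : Subgroup O))
    have h' : Z ^ r ^ m = 1 := by
      have := congrArg (fun t : (P : Subgroup O) => ((t : O) : GL (Bits k) F)) hm
      simpa [hZ] using this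
    rw [e, ((hrp.odd_of_ne_two hr2).pow).neg_one_pow] at h'
    exact hR.one_ne_neg h'.symm
  have hformO : ∀ y ∈ O, ∀ d ∈ R0 k F, d * u = u * d → d * w = w * d →
      (y : Matrix (Bits k) (Bits k) F) * d = d * y :=
    fun y hy d hd h1 h3 => val_comm (((hmemO y).1 hy).2 d hd h1 h3).symm
  have hUinv : ((u⁻¹ : GL (Bits k) F) : Matrix (Bits k) (Bits k) F) = -U := by
    rw [inv_eq_of_mul_eq_one_right (show u * -u = 1 by rw [mul_neg, huu, neg_neg]), Units.val_neg, hU]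
  have hWinv : ((w⁻¹ : GL (Bits k) F) : Matrix (Bits k) (Bits k) F) = -W := by
    rw [inv_eq_of_mul_eq_one_right (show w * -w = 1 by rw [mul_neg, hww, neg_neg]), Units.val_neg, hW]
  obtain ⟨α1, p, q, s, hZf⟩ := quat_form h2 huR hwR huu hww hwu (M := (Z : Matrix (Bits k) (Bits k) F))
    (hformO Z (hZ ▸ ((z : (P : Subgroup O)) : O).2))
  rw [← hU, ← hW] at hZf
  -- multiplication table
  have t1 : ∀ X, U * (U * X) = -X := fun X => by rw [← mul_assoc, hUU, neg_one_mul]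
  have t2 : ∀ X, W * (W * X) = -X := fun X => by rw [← mul_assoc, hWW, neg_one_mul]
  have t3 : ∀ X, W * (U * X) = -(U * (W * X)) := fun X => by rw [← mul_assoc, hWU, neg_mul, mul_assoc]
  have hconjU : ∀ e : R0 k F, ψ e • P = P → (e : GL (Bits k) F) * Z * (e : GL (Bits k) F)⁻¹ * Z =
      Z * ((e : GL (Bits k) F) * Z * (e : GL (Bits k) F)⁻¹) := fun e he => by
    have h := hzcomm _ (hfixP e he _ (z : (P : Subgroup O)).2)
    rw [hψ, ← hZ] at h
    exact h
  have hZu := congrArg Units.val (hconjU ⟨u, huR⟩ hPu)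
  have hZw := congrArg Units.val (hconjU ⟨w, hwR⟩ hPw)
  simp only [Units.val_mul, hUinv, hWinv, ← hU, ← hW, hZf] at hZu hZw
  simp only [add_mul, mul_add, mul_neg, neg_mul, Matrix.smul_mul, Matrix.mul_smul, mul_one, one_mul, mul_assoc,
    t1, t2, t3, hUU, hWW, hWU, neg_neg, smul_neg, neg_add, smul_add] at hZu hZw
  have hpu : p * q = 0 ∧ p * s = 0 := by
    obtain ⟨-, -, e2, e3⟩ := quat_indep (c0 := (0 : F)) (c1 := 0) (c2 := -(4 * (p * s))) (c3 := 4 * (p * q)) h2 hUU hWW hWU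
      (by rw [← sub_eq_zero.2 hZu]; module)
    have h4 : (4 : F) ≠ 0 := by rw [show (4 : F) = 2 * 2 by norm_num]; exact mul_ne_zero h2 h2
    exact ⟨(mul_eq_zero.1 e3).resolve_left h4, (mul_eq_zero.1 (neg_eq_zero.1 e2)).resolve_left h4⟩
  have hqs : q * p = 0 ∧ q * s = 0 := by
    obtain ⟨-, e1, -, e3⟩ := quat_indep (c0 := (0 : F)) (c1 := 4 * (q * s)) (c2 := 0) (c3 := -(4 * (q * p))) h2 hUU hWW hWU
      (by rw [← sub_eq_zero.2 hZw]; module)
    have h4 : (4 : F) ≠ 0 := by rw [show (4 : F) = 2 * 2 by norm_num]; exact mul_ne_zero h2 h2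
    exact ⟨(mul_eq_zero.1 (neg_eq_zero.1 e3)).resolve_left h4, (mul_eq_zero.1 e1).resolve_left h4⟩
  have hvR : u * w ∈ R0 k F := mul_mem huR hwR
  have hvv : u * w * (u * w) = -1 := by
    rw [mul_assoc, ← mul_assoc w, hwu, neg_mul, mul_neg, mul_assoc u w w, hww, mul_neg, mul_one, mul_neg,
      neg_neg, huu]
  -- the direction of `Z`, an anticommuting one and an element of order `r` in the latter
  obtain ⟨A, a', hAR, hA'R, hAA, hA'A', hanti, hCeq, t, ht, hZA, xb, hxbO, hxbo, hxb, b', hb'R, hb'b', hb'A,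
      hxb'⟩ : ∃ (A a' : GL (Bits k) F) (_ : A ∈ R0 k F) (_ : a' ∈ R0 k F) (_ : A * A = -1) (_ : a' * a' = -1)
      (_ : a' * A = -(A * a'))
      (_ : ∀ d ∈ R0 k F, d * A = A * d → d * a' = a' * d → d * u = u * d ∧ d * w = w * d)
      (t : F) (_ : t ≠ 0) (_ : (Z : Matrix (Bits k) (Bits k) F) = α1 • 1 + t • (A : Matrix (Bits k) (Bits k) F))
      (xb : GL (Bits k) F) (_ : xb ∈ O) (_ : orderOf xb = r) (_ : True) (b' : GL (Bits k) F) (_ : b' ∈ R0 k F)
      (_ : b' * b' = -1) (_ : b' * A = -(A * b')),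
      (xb : Matrix (Bits k) (Bits k) F) = α0 • 1 + β0 • (b' : Matrix (Bits k) (Bits k) F) := by
    have hne : p ≠ 0 ∨ q ≠ 0 ∨ s ≠ 0 := by
      by_contra h0
      push Not at h0
      obtain ⟨e1, e2, e3⟩ := h0
      rw [e1, e2, e3, zero_smul, zero_smul, zero_smul, add_zero, add_zero, add_zero] at hZf
      rcases scalar_pm h2 (hH ((hmemO Z).1 (hZ ▸ ((z : (P : Subgroup O)) : O).2)).1) hZf with e | e
      exacts [hZ1.1 e, hZ1.2 e]
    rcases hne with h | h | h
    · have e2 := (mul_eq_zero.1 hpu.1).resolve_left h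
      have e3 := (mul_eq_zero.1 hpu.2).resolve_left h
      exact ⟨u, w, huR, hwR, huu, hww, hwu, fun d _ e e' => ⟨e, e'⟩, p, h,
        by rw [hZf, e2, e3, hU]; simp, y0, hy0O, hy0o, trivial, w, hwR, hww, hwu, by rw [hform1, hW]⟩
    · have e1 := (mul_eq_zero.1 hqs.1).resolve_left h
      have e3 := (mul_eq_zero.1 hqs.2).resolve_left h
      exact ⟨w, u, hwR, huR, hww, huu, huw, fun d _ e e' => ⟨e', e⟩, q, h,
        by rw [hZf, e1, e3, hW]; simp, x0, hx0O, hx0o, trivial, u, huR, huu, huw, by rw [hform0, hU]⟩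
    · have e1 : p = 0 := (mul_eq_zero.1 hpu.2).resolve_right h
      have e2 : q = 0 := (mul_eq_zero.1 hqs.2).resolve_right h
      have hanti' : u * (u * w) = -(u * w * u) := by
        rw [mul_assoc u w u, hwu, mul_neg, neg_neg]
      refine ⟨u * w, u, hvR, huR, hvv, huu, hanti', fun d _ e e' => ⟨e', ?_⟩, s, h,
        by rw [hZf, e1, e2, Units.val_mul, hU, hW]; simp, x0, hx0O, hx0o, trivial, u, huR, huu, hanti',
        by rw [hform0, hU]⟩
      rw [← mul_assoc, e', mul_assoc, mul_assoc] at e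
      exact mul_left_cancel e
  obtain ⟨A', hA'⟩ : ∃ M : Matrix (Bits k) (Bits k) F, M = (A : Matrix (Bits k) (Bits k) F) := ⟨_, rfl⟩
  obtain ⟨B', hB'⟩ : ∃ M : Matrix (Bits k) (Bits k) F, M = (a' : Matrix (Bits k) (Bits k) F) := ⟨_, rfl⟩
  have hA'2 : A' * A' = -1 := by rw [hA', ← Units.val_mul, hAA, Units.val_neg, Units.val_one]
  have hB'2 : B' * B' = -1 := by rw [hB', ← Units.val_mul, hA'A', Units.val_neg, Units.val_one]
  have hBA : B' * A' = -(A' * B') := hA' ▸ hB' ▸ val_anti hanti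
  rw [← hA'] at hZA
  -- the members of `P` lie in the direction of `Z`
  have hPform : ∀ y : O, y ∈ (P : Subgroup O) → ∃ c c' : F,
      ((y : GL (Bits k) F) : Matrix (Bits k) (Bits k) F) = c • 1 + c' • A' := by
    intro y hy
    obtain ⟨c0, c1, c2, c3, hy'⟩ := quat_form h2 hAR hA'R hAA hA'A' hanti
      (M := ((y : GL (Bits k) F) : Matrix (Bits k) (Bits k) F))
      (fun d hd e e' => hformO y y.2 d hd (hCeq d hd e e').1 (hCeq d hd e e').2)
    rw [← hA', ← hB'] at hy'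
    have hc := congrArg Units.val (hzcomm y hy)
    rw [Units.val_mul, Units.val_mul, hy', hZA] at hc
    have hBAA : A' * B' * A' = B' := by
      rw [mul_assoc, hBA, mul_neg, ← mul_assoc, hA'2, neg_one_mul, neg_neg]
    have hABA : A' * (A' * B') = -B' := by rw [← mul_assoc, hA'2, neg_one_mul]
    simp only [add_mul, mul_add, Matrix.smul_mul, Matrix.mul_smul, mul_one, one_mul, hA'2, hBA, hBAA, hABA,
      smul_neg] at hc
    obtain ⟨-, -, e2, e3⟩ := quat_indep (c0 := (0 : F)) (c1 := 0) (c2 := 2 * (c3 * t)) (c3 := -(2 * (c2 * t))) h2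
      hA'2 hB'2 hBA (by rw [← sub_eq_zero.2 hc]; module)
    rw [neg_eq_zero] at e3
    have e2' : c3 = 0 := ((mul_eq_zero.1 ((mul_eq_zero.1 e2).resolve_left h2))).resolve_right ht
    have e3' : c2 = 0 := ((mul_eq_zero.1 ((mul_eq_zero.1 e3).resolve_left h2))).resolve_right ht
    exact ⟨c0, c1, by rw [hy', e2', e3', zero_smul, zero_smul, add_zero, add_zero]⟩
  -- a Sylow subgroup containing `xb`
  have hpg : IsPGroup r (Subgroup.zpowers (⟨xb, hxbO⟩ : O)) :=
    IsPGroup.of_card (n := 1) (by rw [Nat.card_zpowers, Subgroup.orderOf_mk, hxbo, pow_one])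
  obtain ⟨Q, hQ⟩ := hpg.exists_le_sylow
  obtain ⟨g, hg⟩ := MulAction.exists_smul_eq O P Q
  have hxQ : (⟨xb, hxbO⟩ : O) ∈ (Q : Subgroup O) := hQ (Subgroup.mem_zpowers _)
  rw [← hg, Sylow.coe_subgroup_smul, Subgroup.mem_smul_pointwise_iff_exists] at hxQ
  obtain ⟨z1, hz1P, hz1⟩ := hxQ
  have hz1' : (g : GL (Bits k) F) * z1 * (g : GL (Bits k) F)⁻¹ = xb := congrArg Subtype.val hz1
  obtain ⟨γ, δ, hz1f⟩ := hPform z1 hz1P
  have hδ : δ ≠ 0 := fun e => by
    rw [e, zero_smul, add_zero] at hz1f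
    have ho1 : orderOf (z1 : GL (Bits k) F) = r := by
      rw [← hxbo, ← hz1']; exact ((MulAut.conj (g : GL (Bits k) F)).orderOf_eq _).symm
    rcases scalar_pm h2 (hH ((hmemO _).1 z1.2).1) hz1f with e | e
    exacts [(hnopm _ ho1).1 e, (hnopm _ ho1).2 e]
  obtain ⟨Bm, hBm⟩ : ∃ M : Matrix (Bits k) (Bits k) F, M = (b' : Matrix (Bits k) (Bits k) F) := ⟨_, rfl⟩
  obtain ⟨G', hG'⟩ : ∃ M : Matrix (Bits k) (Bits k) F,
      M = (((g : GL (Bits k) F) * A * (g : GL (Bits k) F)⁻¹ : GL (Bits k) F) : Matrix (Bits k) (Bits k) F) := ⟨_, rfl⟩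
  have heq : γ • 1 + δ • G' = α0 • 1 + β0 • Bm := by
    rw [hBm, ← hxb', ← hz1', hG']
    simp only [Units.val_mul, hz1f, mul_add, add_mul, Matrix.mul_smul, Matrix.smul_mul, mul_one, hA']
    rw [← Units.val_mul (g : GL (Bits k) F) (g : GL (Bits k) F)⁻¹, mul_inv_cancel, Units.val_one]
  have hG : G' = ((α0 - γ) / δ) • 1 + (β0 / δ) • Bm := by
    rw [div_eq_inv_mul, div_eq_inv_mul, mul_smul, mul_smul, ← smul_add, eq_inv_smul_iff₀ hδ, sub_smul,
      show δ • G' = α0 • 1 + β0 • Bm - γ • 1 by rw [← heq]; abel]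
    abel
  have hlam : β0 / δ ≠ 0 := div_ne_zero hβ0 hδ
  have hG2 : G' * G' = -1 := by
    rw [hG', ← Units.val_mul, show (g : GL (Bits k) F) * A * (g : GL (Bits k) F)⁻¹ *
      ((g : GL (Bits k) F) * A * (g : GL (Bits k) F)⁻¹) = (g : GL (Bits k) F) * (A * A) * (g : GL (Bits k) F)⁻¹
      by group, hAA, mul_neg, mul_one, neg_mul, mul_inv_cancel, Units.val_neg, Units.val_one]
  have hBm2 : Bm * Bm = -1 := by rw [hBm, ← Units.val_mul, hb'b', Units.val_neg, Units.val_one]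
  have hBmA : Bm * A' = -(A' * Bm) := hA' ▸ hBm ▸ val_anti hb'A
  obtain ⟨m0, hm0⟩ : ∃ m0, m0 = (α0 - γ) / δ := ⟨_, rfl⟩
  obtain ⟨l0, hl0⟩ : ∃ l0, l0 = β0 / δ := ⟨_, rfl⟩
  rw [← hm0, ← hl0] at hG
  rw [← hl0] at hlam
  have hG3 := hG2
  rw [hG] at hG3
  simp only [add_mul, mul_add, Matrix.smul_mul, Matrix.mul_smul, mul_one, one_mul, hBm2, smul_neg] at hG3
  obtain ⟨e0, -, e2, -⟩ := quat_indep (c0 := m0 * m0 - l0 * l0 + 1) (c1 := 0) (c2 := 2 * (m0 * l0)) (c3 := 0) h2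
    hA'2 hBm2 hBmA (by
      rw [show (0 : Matrix (Bits k) (Bits k) F) = -1 - -1 from (sub_self _).symm]
      nth_rewrite 1 [← hG3]
      module)
  have hm0' : m0 = 0 := ((mul_eq_zero.1 ((mul_eq_zero.1 e2).resolve_left h2))).resolve_right hlam
  rw [hm0', zero_smul, zero_add] at hG
  have hl1 : l0 = 1 ∨ l0 = -1 := mul_self_eq_one_iff.1 (by
    rw [hm0'] at e0
    linear_combination -e0)
  have hgA : (g : GL (Bits k) F) * A * (g : GL (Bits k) F)⁻¹ = b' ∨
      (g : GL (Bits k) F) * A * (g : GL (Bits k) F)⁻¹ = -b' := by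
    rcases hl1 with e | e <;> rw [e] at hG
    · exact Or.inl (Units.ext (by rw [← hG', hG, one_smul, hBm]))
    · exact Or.inr (Units.ext (by rw [← hG', hG, neg_one_smul, Units.val_neg, hBm]))
  obtain ⟨h1, hh1⟩ : ∃ h1 : GL (Bits k) F, h1 = (g : GL (Bits k) F)⁻¹ * (A * g * A⁻¹) := ⟨_, rfl⟩
  have hh1O : h1 ∈ O := hh1 ▸ mul_mem (inv_mem g.2) (hclO A hAR _ g.2)
  have hAb : A * b' * A⁻¹ = -b' := by
    rw [show A * b' = -(b' * A) by rw [hb'A, neg_neg], neg_mul, mul_inv_cancel_right]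
  have hh1A : h1 * A = -(A * h1) := by
    have e : h1 * A * h1⁻¹ = -A := by
      rw [hh1, show (g : GL (Bits k) F)⁻¹ * (A * g * A⁻¹) * A * ((g : GL (Bits k) F)⁻¹ * (A * g * A⁻¹))⁻¹ =
        (g : GL (Bits k) F)⁻¹ * (A * ((g : GL (Bits k) F) * A * (g : GL (Bits k) F)⁻¹) * A⁻¹) * g by group]
      have hback : ∀ c : GL (Bits k) F, (g : GL (Bits k) F) * A * (g : GL (Bits k) F)⁻¹ = c →
          (g : GL (Bits k) F)⁻¹ * c * g = A := fun c hc => by rw [← hc]; group
      rcases hgA with e | e <;> rw [e]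
      · rw [hAb, mul_neg, neg_mul, hback _ e]
      · rw [mul_neg A b', neg_mul, hAb, neg_neg, show b' = -(-b') from (neg_neg _).symm, mul_neg, neg_mul,
          hback _ e]
    rw [← neg_mul, ← e, inv_mul_cancel_right]
  have hfin := (pow_anti hh1A N).2 hN
  rcases hexp h1 ((hmemO h1).1 hh1O).1 with e | e <;> rw [e] at hfin
  · rw [one_mul, mul_one] at hfin; exact hR.ne_neg A hfin
  · rw [neg_mul, one_mul, mul_neg, mul_one, neg_neg] at hfin; exact hR.ne_neg A hfin.symm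

/-- A group of isometries normalised by the normaliser of the standard group. -/
theorem kill (h2 : (2 : F) ≠ 0) (hk : 2 ≤ k) {H : Subgroup (GL (Bits k) F)} (hH : H ≤ orth (Bits k) F)
    (hneg : (-1 : GL (Bits k) F) ∈ H)
    (hnorm : ∀ n ∈ Cfsg.Geo.subgroupNormalizer (R0 k F), n ∈ orth (Bits k) F → ∀ h ∈ H, n * h * n⁻¹ ∈ H) :
    (∀ h ∈ H, h = 1 ∨ h = -1) ∨ R0 k F ≤ H := by
  have hnormR : ∀ d ∈ R0 k F, ∀ h ∈ H, d * h * d⁻¹ ∈ H := fun d hd =>
    hnorm d (Subgroup.le_normalizer hd) (R0_le_orth hd)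
  rcases Nat.even_or_odd (Nat.card (H ⧸ pmIn H)) with hN | hN
  · obtain ⟨c, hc, hcH, h1, hm⟩ := kill_even h2 hH hnormR hN
    exact Or.inr (le_of_member h2 hk hneg hnorm hc hcH h1 hm)
  · exact Or.inl (kill_odd h2 hk hH hneg hnorm hnormR hN)

end Cfsg.Agent.C6Orth
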