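import Cfsg.Agent.Lib.C6Orth.Kill
import Cfsg.Agent.Lib.C6Orth.Core
import Cfsg.Agent.Lib.C6Gen.Main
import Cfsg.Agent.EqLemmas
/-!
# Overgroups of the normaliser of the standard group

* `normalises_or_fill` : an overgroup in the derived group normalises the standard group or contains the
  quarters of the members of the standard group on two coordinates fewer
-/

set_option autoImplicit false
set_option linter.unusedSectionVars false
set_option linter.style.haveILetI false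

namespace Cfsg.Agent.C6Orth

open Matrix
open Cfsg.Agent.C6Gen

variable {k : ℕ} {F : Type*} [Field F] [Fintype F]

theorem jd_self_mem_R0 {a : GL (Bits k) F} (ha : a ∈ R0 k F) : jd (a, a) ∈ R0 (k + 1) F := by
  obtain ⟨a, b, e, rfl⟩ := ha
  have h := jd_elt (F := F) a b e 0
  rw [add_zero] at h
  rw [h]; exact elt_mem _ _ _

theorem jd_neg_one (h2 : (2 : F) ≠ 0) : jd ((-1 : GL (Bits k) F), 1) ∈ R0 (k + 1) F := by
  rw [← lastT_conj h2, ← lastS_eq]
  exact mul_mem (mul_mem (elt_mem _ _ _) (elt_mem _ _ _)) (inv_mem (elt_mem _ _ _))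

set_option maxHeartbeats 400000 in
/-- An overgroup normalises the standard group or contains quarters. -/
theorem normalises_or_fill (h2 : (2 : F) ≠ 0) (hk : 2 ≤ k) {G : Subgroup (GL (Bits (k + 2)) F)}
    (hGO : G ≤ omg (Bits (k + 2)) F)
    (hNG : ∀ n ∈ Cfsg.Geo.subgroupNormalizer (R0 (k + 2) F), n ∈ omg (Bits (k + 2)) F → n ∈ G) :
    G ≤ Cfsg.Geo.subgroupNormalizer (R0 (k + 2) F) ∨
      ∀ x ∈ R0 k F, jd (jd (x, 1), 1) ∈ G := by
  classical
  have hR := R0_sys (F := F) (k := k + 2) h2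
  have hR1 := R0_sys (F := F) (k := k + 1) h2
  have hR2 := R0_sys (F := F) (k := k) h2
  have := hR.finiteR
  have := hR1.finiteR
  have hdiag := topFrame_diag (F := F) (k := k + 1) h2
  have hRG : R0 (k + 2) F ≤ G := fun x hx => hNG x (Subgroup.le_normalizer hx) (R0_le_omg (by omega) hx)
  have hGorth : ∀ {g}, g ∈ G → g ∈ orth (Bits (k + 2)) F := fun hg => omg_le (hGO hg)
  -- halves
  have hdblN : ∀ n ∈ Cfsg.Geo.subgroupNormalizer (R0 (k + 1) F),
      jd (n, n) ∈ Cfsg.Geo.subgroupNormalizer (R0 (k + 2) F) := fun n hn => by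
    have h := (topFrame (k + 1) h2).dbl_normal hR (elt_mem _ _ _) (n := n) (hdiag.symm ▸ hn)
    rwa [topFrame_j] at h
  have hdbl : ∀ n ∈ Cfsg.Geo.subgroupNormalizer (R0 (k + 1) F), n ∈ orth (Bits (k + 1)) F → jd (n, n) ∈ G :=
    fun n hn hnO => hNG _ (hdblN n hn) (jd_self_mem_omg h2 hnO)
  have hhalfN : ∀ c ∈ R0 (k + 1) F, jd (1, c) ∈ Cfsg.Geo.subgroupNormalizer (R0 (k + 2) F) := fun c hc => by
    have h := (topFrame (k + 1) h2).half_normal hR (elt_mem _ _ _) (c := c) (hdiag.symm ▸ hc)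
    rwa [topFrame_j] at h
  have hswap : ∀ {a b : GL (Bits (k + 1)) F}, jd (a, b) ∈ G → jd (b, a) ∈ G := fun {a b} h => by
    rw [← lastT_conj h2]
    exact G.mul_mem (G.mul_mem (hRG (elt_mem _ _ _)) h) (G.inv_mem (hRG (elt_mem _ _ _)))
  have hhalf : ∀ c ∈ R0 (k + 1) F, jd (c, 1) ∈ G := fun c hc =>
    hswap (hNG _ (hhalfN c hc) (jd_one_mem_omg h2 (R0_le_omg (by omega) hc)))
  have hE : (lin (exchange k) : GL (Bits (k + 2)) F) ∈ G :=
    hNG _ (lin_normal h2 _) (tv_omg (by omega) _ _ _)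
  -- commutators of quarters
  have hcomm : ∀ a1 a2 b1 b2 : GL (Bits k) F, jd (jd (a1, a2), 1) ∈ G → jd (jd (b1, b2), 1) ∈ G →
      jd (jd (b1 * a1 * b1⁻¹ * a1⁻¹, 1), 1) ∈ G := by
    intro a1 a2 b1 b2 ha hb
    rw [← jd_one] at ha hb ⊢
    have hx := G.mul_mem (G.mul_mem hE hb) (G.inv_mem hE)
    rw [exchange_conj] at hx
    have h := G.mul_mem (G.mul_mem (G.mul_mem hx ha) (G.inv_mem hx)) (G.inv_mem ha)
    simp only [jd_inv, jd_mul, inv_one, mul_one, one_mul, mul_inv_cancel] at h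
    simpa [mul_inv_cancel, jd_one] using h
  let inl2 : GL (Bits k) F →* GL (Bits (k + 1)) F := jd.comp (MonoidHom.prod (MonoidHom.id _) 1)
  let inl1 : GL (Bits (k + 1)) F →* GL (Bits (k + 2)) F := jd.comp (MonoidHom.prod (MonoidHom.id _) 1)
  let H : Subgroup (GL (Bits k) F) := G.comap (inl1.comp inl2)
  have hHmem : ∀ x, x ∈ H ↔ jd (jd (x, 1), 1) ∈ G := fun x => Iff.rfl
  have hHO : H ≤ orth (Bits k) F := fun x hx => (orth_of_jd h2 (orth_of_jd h2 (hGorth ((hHmem x).1 hx))).1).1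
  have hnegH : (-1 : GL (Bits k) F) ∈ H := by
    obtain ⟨i⟩ : Nonempty (Fin k) := ⟨⟨0, by omega⟩⟩
    have hanti : (elt 0 (Pi.single i 1) 0 : GL (Bits k) F) * elt (Pi.single i 1) 0 0 =
        -(elt (Pi.single i 1) 0 0 * elt 0 (Pi.single i 1) 0) := by
      rcases elt_comm_cases (F := F) (0 : Bits k) (Pi.single i 1) (Pi.single i 1) 0 0 0 with ⟨h, -⟩ | ⟨-, h⟩
      · simp at h
      · exact h
    have h := hcomm _ _ _ _ (hhalf _ (jd_self_mem_R0 (elt_mem (Pi.single i 1) 0 0)))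
      (hhalf _ (jd_self_mem_R0 (elt_mem 0 (Pi.single i 1) 0)))
    rw [hanti, neg_mul, mul_inv_cancel_right, neg_mul, mul_inv_cancel] at h
    exact (hHmem _).2 h
  have hnorm2 : ∀ n ∈ Cfsg.Geo.subgroupNormalizer (R0 k F), n ∈ orth (Bits k) F →
      jd (n, n) ∈ Cfsg.Geo.subgroupNormalizer (R0 (k + 1) F) ∧ jd (n, n) ∈ orth (Bits (k + 1)) F :=
    fun n hn hnO => ⟨by
      have h := (topFrame k h2).dbl_normal hR1 (elt_mem _ _ _) (n := n) ((topFrame_diag h2).symm ▸ hn)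
      rwa [topFrame_j] at h, jd_mem_orth h2 hnO hnO⟩
  have hnormH : ∀ n ∈ Cfsg.Geo.subgroupNormalizer (R0 k F), n ∈ orth (Bits k) F → ∀ h ∈ H, n * h * n⁻¹ ∈ H := by
    intro n hn hnO x hx
    have hn' := hdbl _ (hnorm2 n hn hnO).1 (hnorm2 n hn hnO).2
    have h := G.mul_mem (G.mul_mem hn' ((hHmem x).1 hx)) (G.inv_mem hn')
    simp only [jd_inv, jd_mul, mul_one, mul_inv_cancel, jd_one] at h
    exact (hHmem _).2 h
  rcases kill h2 hk hHO hnegH hnormH with hH | hH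
  swap
  · exact Or.inr fun x hx => (hHmem x).1 (hH hx)
  refine Or.inl ?_
  -- the kernel of the projection
  let K : Subgroup (GL (Bits (k + 1)) F) := G.comap inl1
  have hKmem : ∀ x, x ∈ K ↔ jd (x, 1) ∈ G := fun x => Iff.rfl
  have hR0K : R0 (k + 1) F ≤ K := fun c hc => (hKmem c).2 (hhalf c hc)
  have hnormK : ∀ n ∈ Cfsg.Geo.subgroupNormalizer (R0 (k + 1) F), n ∈ orth (Bits (k + 1)) F →
      ∀ x ∈ K, n * x * n⁻¹ ∈ K := by
    intro n hn hnO x hx
    have h := G.mul_mem (G.mul_mem (hdbl n hn hnO) ((hKmem x).1 hx)) (G.inv_mem (hdbl n hn hnO))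
    simp only [jd_inv, jd_mul, mul_one, mul_inv_cancel] at h
    exact (hKmem _).2 h
  have hfst : ∀ a1 a2 : GL (Bits k) F, jd (a1, a2) ∈ K → a1 ∈ R0 k F := fun a1 a2 ha => by
    refine exists_elt_orth h2 (orth_of_jd h2 (orth_of_jd h2 (hGorth ((hKmem _).1 ha))).1).1 fun d hd => ?_
    have h := hH _ ((hHmem _).2 (hcomm _ _ _ _ ((hKmem _).1 ha) (hhalf _ (jd_self_mem_R0 hd))))
    rcases h with h | h
    · left
      rw [mul_inv_eq_one, mul_inv_eq_iff_eq_mul] at h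
      exact h.symm
    · right
      rw [mul_inv_eq_iff_eq_mul, mul_inv_eq_iff_eq_mul, neg_one_mul, neg_mul] at h
      rw [h, neg_neg]
  have hcent : ∀ x ∈ K, x * lastS k F = lastS k F * x → x ∈ R0 (k + 1) F := by
    intro x hx hxs
    obtain ⟨a1, a2, rfl⟩ := exists_jd h2 hxs
    have ha1 := hfst a1 a2 hx
    have hT : lastT k F ∈ K := hR0K (elt_mem _ _ _)
    have ha2 := hfst a2 a1 (by
      rw [← lastT_conj h2]; exact K.mul_mem (K.mul_mem hT hx) (K.inv_mem hT))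
    have hy : jd (a1 * a2⁻¹, 1) ∈ K := by
      have h := K.mul_mem hx (K.inv_mem (hR0K (jd_self_mem_R0 ha2)))
      rwa [jd_inv, jd_mul, mul_inv_cancel] at h
    rcases hH _ ((hHmem _).2 ((hKmem _).1 hy)) with h | h
    · rw [mul_inv_eq_one] at h
      rw [h]; exact jd_self_mem_R0 ha2
    · rw [mul_inv_eq_iff_eq_mul] at h
      rw [show jd (a1, a2) = jd ((-1 : GL (Bits k) F), 1) * jd (a2, a2) by rw [jd_mul, one_mul, h]]
      exact mul_mem (jd_neg_one h2) (jd_self_mem_R0 ha2)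
  have hK := core_le h2 (by omega) hR0K hnormK hcent
  -- centraliser of the last sign
  have hloc : ∀ g ∈ G, g * lastS (k + 1) F = lastS (k + 1) F * g →
      g ∈ Cfsg.Geo.subgroupNormalizer (R0 (k + 2) F) := by
    intro g hg hgs
    obtain ⟨a, b, rfl⟩ := exists_jd h2 hgs
    have ha : a ∈ Cfsg.Geo.subgroupNormalizer (R0 (k + 1) F) := mem_normalizer_of fun c hc => by
      refine hK ((hKmem _).2 ?_)
      have h := G.mul_mem (G.mul_mem hg (hhalf c hc)) (G.inv_mem hg)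
      simpa [jd_inv, jd_mul] using h
    have haa := hdbl a ha (orth_of_jd h2 (hGorth hg)).1
    have hd : jd (1, a⁻¹ * b) ∈ G := by
      have h := G.mul_mem (G.inv_mem haa) hg
      rwa [jd_inv, jd_mul, inv_mul_cancel] at h
    have hdR : a⁻¹ * b ∈ R0 (k + 1) F := hK ((hKmem _).2 (hswap hd))
    rw [show jd (a, b) = jd (a, a) * jd (1, a⁻¹ * b) by rw [jd_mul, mul_one, mul_inv_cancel_left]]
    exact mul_mem (hdblN a ha) (hhalfN _ hdR)
  have hpairs : HasPairs (R0 (k + 2) F) G := fun a ha b hb haa hbb n hn => by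
    obtain ⟨n', hn', hnv, -⟩ := hR.exists_pair_normal ha hb haa hbb
    obtain rfl : n = n' := Units.ext (hn.trans hnv.symm)
    exact hNG _ hn' (hasPairs_omg h2 (by omega) a ha b hb haa hbb n hn)
  refine Over.le_normalizer (k := k + 2) ⟨hR, hRG, fun g hg c hc => scalar_pm h2 (hGorth hg) hc, hpairs,
    fun r hr hrr h1 hm1 g hg hgr => ?_⟩ (by omega)
  obtain ⟨s1, s2, s3⟩ := lastS_invol (k := k + 1) (F := F) h2
  obtain ⟨n, hn, hnΩ, hnr⟩ := hR.exists_move (by omega) (R0_le_omg (by omega)) (hasPairs_omg h2 (by omega))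
    hr (elt_mem _ _ _) hrr s1 h1 hm1 s2 s3
  have hnG := hNG n hn hnΩ
  have h := hloc _ (G.mul_mem (G.mul_mem hnG hg) (G.inv_mem hnG)) (by
    show n * g * n⁻¹ * lastS (k + 1) F = lastS (k + 1) F * (n * g * n⁻¹)
    rw [show lastS (k + 1) F = n * r * n⁻¹ from hnr.symm,
      show n * g * n⁻¹ * (n * r * n⁻¹) = n * (g * r) * n⁻¹ by group, hgr]
    group)
  have h' := mul_mem (mul_mem (inv_mem hn) h) hn
  rwa [show n⁻¹ * (n * g * n⁻¹) * n = g by group] at h'

end Cfsg.Agent.C6Orth
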