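import Cfsg.Agent.Lib.C6Orth.Mono
import Cfsg.Agent.Lib.C6Gen.Sys
import Cfsg.Agent.EqLemmas
import Mathlib.Data.Fintype.Pi
/-!
# The standard model of `2^{1+2k}_+`

* `Bits k`      : the index set `𝔽₂^k`
* `elt a b e`   : the signed translation `e_x ↦ (-1)^{b·x+e} e_{x+a}`
* `R0 k F`      : the group of these; `R0_sys`, `R0_le_omg`
* `exists_elt`  : a matrix commuting with every member up to sign is a multiple of a member
* `lin L`       : linear maps as permutations; they normalise `R0`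
-/

set_option autoImplicit false
set_option linter.unusedSectionVars false

namespace Cfsg.Agent.C6Orth

open Matrix
open Cfsg.Agent.Orth

/-- `𝔽₂^k`. -/
abbrev Bits (k : ℕ) : Type := Fin k → ZMod 2

variable {k : ℕ} {F : Type*} [Field F]

theorem bits_add_self (a : Bits k) : a + a = 0 := funext fun i => CharTwo.add_self_eq_zero _

theorem card_bits : Fintype.card (Bits k) = 2 ^ k := by simp

/-- The signed translation. -/
def elt (a b : Bits k) (e : ZMod 2) : GL (Bits k) F := mg (Equiv.addRight a) fun x => b ⬝ᵥ x + e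

theorem elt_mul (a b c d : Bits k) (e f : ZMod 2) :
    elt a b e * elt c d f = (elt (a + c) (b + d) (e + f + b ⬝ᵥ c) : GL (Bits k) F) := by
  rw [elt, elt, mg_mul, elt]
  congr 1
  · ext x; simp [add_comm a c, add_assoc]
  · funext y
    simp only [Equiv.coe_addRight, dotProduct_add, add_dotProduct]
    ring

theorem elt_zero : elt (0 : Bits k) 0 0 = (1 : GL (Bits k) F) := by
  rw [← mg_one, elt]
  congr 1
  · ext x; simp
  · funext y; simp

theorem elt_neg (a b : Bits k) (e : ZMod 2) : -(elt a b e : GL (Bits k) F) = elt a b (e + 1) := by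
  rw [elt, mg_neg, elt]
  congr 1; funext y; ring

theorem neg_one_elt : (-1 : GL (Bits k) F) = elt 0 0 1 := by
  rw [← elt_zero, elt_neg, zero_add]

theorem elt_inv (a b : Bits k) (e : ZMod 2) : (elt a b e : GL (Bits k) F)⁻¹ = elt a b (e + b ⬝ᵥ a) := by
  refine inv_eq_of_mul_eq_one_right ?_
  rw [elt_mul, bits_add_self, bits_add_self, ← elt_zero]
  congr 1
  linear_combination CharTwo.add_self_eq_zero e + CharTwo.add_self_eq_zero (b ⬝ᵥ a)

theorem elt_comm (a b c d : Bits k) (e f : ZMod 2) :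
    elt a b e * elt c d f = (elt c d f * elt a b e) * (elt 0 0 (b ⬝ᵥ c + d ⬝ᵥ a) : GL (Bits k) F) := by
  rw [elt_mul, elt_mul, elt_mul]
  congr 1
  · simp [add_comm]
  · simp [add_comm]
  · simp only [dotProduct_zero, add_zero]
    linear_combination -CharTwo.add_self_eq_zero (d ⬝ᵥ a)

theorem elt_sq (a b : Bits k) (e : ZMod 2) : elt a b e * elt a b e = (elt 0 0 (b ⬝ᵥ a) : GL (Bits k) F) := by
  rw [elt_mul, bits_add_self, bits_add_self, CharTwo.add_self_eq_zero, zero_add]

/-- The central members. -/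
theorem elt_sign (z : ZMod 2) :
    (z = 0 ∧ elt (0 : Bits k) 0 z = (1 : GL (Bits k) F)) ∨ (z = 1 ∧ elt (0 : Bits k) 0 z = (-1 : GL (Bits k) F)) := by
  rcases C6Gen.zmod2 z with rfl | rfl
  · exact Or.inl ⟨rfl, elt_zero⟩
  · exact Or.inr ⟨rfl, neg_one_elt.symm⟩

theorem elt_comm_cases (a b c d : Bits k) (e f : ZMod 2) :
    (b ⬝ᵥ c + d ⬝ᵥ a = 0 ∧ (elt a b e * elt c d f : GL (Bits k) F) = elt c d f * elt a b e) ∨
    (b ⬝ᵥ c + d ⬝ᵥ a = 1 ∧ (elt a b e * elt c d f : GL (Bits k) F) = -(elt c d f * elt a b e)) := by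
  rcases elt_sign (F := F) (b ⬝ᵥ c + d ⬝ᵥ a) with ⟨h, h'⟩ | ⟨h, h'⟩
  · exact Or.inl ⟨h, by rw [elt_comm, h', mul_one]⟩
  · exact Or.inr ⟨h, by rw [elt_comm, h', mul_neg, mul_one]⟩

theorem elt_inj (h2 : (2 : F) ≠ 0) {a b c d : Bits k} {e f : ZMod 2}
    (h : (elt a b e : GL (Bits k) F) = elt c d f) : a = c ∧ b = d ∧ e = f := by
  obtain ⟨h1, h3⟩ := mg_inj h2 h
  have hac : a = c := by simpa using Equiv.congr_fun h1 0
  have he : e = f := by simpa using congrFun h3 0
  refine ⟨hac, funext fun i => ?_, he⟩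
  simpa [he] using congrFun h3 (Pi.single i 1)

variable (k F) in
/-- The standard `2^{1+2k}_+`. -/
def R0 : Subgroup (GL (Bits k) F) where
  carrier := {g | ∃ a b e, g = elt a b e}
  one_mem' := ⟨0, 0, 0, elt_zero.symm⟩
  mul_mem' := by rintro _ _ ⟨a, b, e, rfl⟩ ⟨c, d, f, rfl⟩; exact ⟨_, _, _, elt_mul a b c d e f⟩
  inv_mem' := by rintro _ ⟨a, b, e, rfl⟩; exact ⟨_, _, _, elt_inv a b e⟩

theorem elt_mem (a b : Bits k) (e : ZMod 2) : (elt a b e : GL (Bits k) F) ∈ R0 k F := ⟨a, b, e, rfl⟩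

theorem R0_le_orth : R0 k F ≤ orth (Bits k) F := by
  rintro _ ⟨a, b, e, rfl⟩; exact mg_mem_orth _ _

theorem elt_split (a b : Bits k) (e : ZMod 2) :
    (elt a b e : GL (Bits k) F) = elt a 0 0 * elt 0 b 0 * elt 0 0 e := by
  rw [elt_mul, elt_mul]; simp

/-- Commuting with the translations and the linear signs is commuting with everything. -/
theorem commute_all {M : Matrix (Bits k) (Bits k) F}
    (hT : ∀ i, M * ((elt (Pi.single i 1) 0 0 : GL (Bits k) F) : Matrix (Bits k) (Bits k) F) =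
      ((elt (Pi.single i 1) 0 0 : GL (Bits k) F) : Matrix (Bits k) (Bits k) F) * M)
    (hS : ∀ i, M * ((elt 0 (Pi.single i 1) 0 : GL (Bits k) F) : Matrix (Bits k) (Bits k) F) =
      ((elt 0 (Pi.single i 1) 0 : GL (Bits k) F) : Matrix (Bits k) (Bits k) F) * M)
    {g : GL (Bits k) F} (hg : g ∈ R0 k F) :
    M * (g : Matrix (Bits k) (Bits k) F) = (g : Matrix (Bits k) (Bits k) F) * M := by
  obtain ⟨a, b, e, rfl⟩ := hg
  have key : ∀ (f : Bits k → GL (Bits k) F), f 0 = 1 → (∀ x y, f (x + y) = f x * f y) →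
      (∀ i, Commute M (f (Pi.single i 1) : Matrix (Bits k) (Bits k) F)) →
      ∀ x, Commute M (f x : Matrix (Bits k) (Bits k) F) := by
    intro f h0 hadd h x
    have hx : x = ∑ i, Pi.single i (x i) := (Finset.univ_sum_single x).symm
    rw [hx]
    refine Finset.sum_induction _ (fun z => Commute M (f z : Matrix (Bits k) (Bits k) F))
      (fun u v hu hv => by rw [hadd, Units.val_mul]; exact hu.mul_right hv)
      (by rw [h0]; exact Commute.one_right _) fun i _ => ?_
    rcases C6Gen.zmod2 (x i) with e | e <;> rw [e]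
    · rw [Pi.single_zero, h0]; exact Commute.one_right _
    · exact h i
  rw [elt_split]
  have h1 := key (fun x => elt x 0 0) elt_zero (fun x y => by rw [elt_mul]; simp) hT a
  have h2 := key (fun x => elt 0 x 0) elt_zero (fun x y => by rw [elt_mul]; simp) hS b
  have h3 : Commute M ((elt (0 : Bits k) 0 e : GL (Bits k) F) : Matrix (Bits k) (Bits k) F) := by
    rcases elt_sign (F := F) (k := k) e with ⟨-, h⟩ | ⟨-, h⟩ <;> rw [h]
    · exact Commute.one_right _
    · rw [Units.val_neg, Units.val_one]; exact (Commute.one_right M).neg_right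
  rw [Units.val_mul, Units.val_mul]
  exact (h1.mul_right h2).mul_right h3

/-- Only scalars commute with everything. -/
theorem scalar_of_commute (h2 : (2 : F) ≠ 0) {M : Matrix (Bits k) (Bits k) F}
    (hM : ∀ g ∈ R0 k F, M * (g : Matrix (Bits k) (Bits k) F) = (g : Matrix (Bits k) (Bits k) F) * M) :
    ∃ c : F, M = c • 1 := by
  have hd : ∀ x y, x ≠ y → M x y = 0 := fun x y hxy => by
    obtain ⟨i, hi⟩ := Function.ne_iff.1 hxy
    have h := congrFun (congrFun (hM _ (elt_mem 0 (Pi.single i 1) 0)) x) y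
    rw [Matrix.mul_apply, Matrix.mul_apply, Finset.sum_eq_single y (fun b _ hb => by
        simp [elt, mg_apply, hb]) (by simp), Finset.sum_eq_single x (fun b _ hb => by
        simp [elt, mg_apply, Ne.symm hb]) (by simp)] at h
    simp only [elt, mg_apply, Equiv.coe_addRight, add_zero, if_true, single_dotProduct, one_mul] at h
    rw [mul_comm (sc (x i))] at h
    by_contra h0
    exact hi (sc_inj h2 (mul_left_cancel₀ h0 h)).symm
  refine ⟨M 0 0, Matrix.ext fun x y => ?_⟩
  rcases eq_or_ne x y with rfl | hxy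
  · have h := congrFun (congrFun (hM _ (elt_mem x 0 0)) x) 0
    rw [Matrix.mul_apply, Matrix.mul_apply, Finset.sum_eq_single x (fun b _ hb => by
        simp [elt, mg_apply, hb]) (by simp), Finset.sum_eq_single 0 (fun b _ hb => by
        simp [elt, mg_apply, hb]) (by simp)] at h
    simpa [elt, mg_apply] using h
  · simp [hd x y hxy, Matrix.one_apply_ne hxy]

theorem scalar_pm (h2 : (2 : F) ≠ 0) {g : GL (Bits k) F} (hg : g ∈ orth (Bits k) F) {c : F}
    (hc : (g : Matrix (Bits k) (Bits k) F) = c • 1) : g = 1 ∨ g = -1 := by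
  have h := congrFun (congrFun (transpose_of_orth h2 hg) 0) 0
  rw [hc] at h
  simp only [Matrix.transpose_smul, Matrix.transpose_one, Matrix.smul_mul, Matrix.mul_smul, one_mul,
    Matrix.smul_apply, Matrix.one_apply_eq, smul_eq_mul, mul_one] at h
  rcases mul_self_eq_one_iff.1 h with rfl | rfl
  · exact Or.inl (Units.ext (by rw [hc, one_smul, Units.val_one]))
  · exact Or.inr (Units.ext (by rw [hc, neg_one_smul, Units.val_neg, Units.val_one]))

/-- The standard group is a system. -/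
theorem R0_sys (h2 : (2 : F) ≠ 0) : C6Gen.Sys k (R0 k F) := by
  refine ⟨h2, ?_, (by rw [neg_one_elt]; exact elt_mem 0 0 1), ?_, ?_, fun M hM => scalar_of_commute h2 hM,
    fun g hg c hc => scalar_pm h2 (R0_le_orth hg) hc⟩
  · let f : Bits k × Bits k × ZMod 2 → R0 k F := fun z => ⟨elt z.1 z.2.1 z.2.2, elt_mem _ _ _⟩
    have hf : Function.Bijective f := by
      refine ⟨fun z w h => ?_, fun ⟨_, a, b, e, rfl⟩ => ⟨(a, b, e), rfl⟩⟩
      obtain ⟨h1, h3, h4⟩ := elt_inj h2 (congrArg Subtype.val h)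
      exact Prod.ext h1 (Prod.ext h3 h4)
    rw [← Nat.card_eq_of_bijective f hf, Nat.card_prod, Nat.card_prod, Nat.card_eq_fintype_card,
      Nat.card_eq_fintype_card, card_bits, ZMod.card, pow_succ, two_mul k, pow_add]
    ring
  · rintro _ ⟨a, b, e, rfl⟩
    rw [elt_sq]
    exact (elt_sign _).imp And.right And.right
  · rintro _ ⟨a, b, e, rfl⟩ _ ⟨c, d, f, rfl⟩
    exact (elt_comm_cases a b c d e f).imp And.right And.right

theorem ne_neg (h2 : (2 : F) ≠ 0) (g : GL (Bits k) F) : g ≠ -g := (R0_sys h2).ne_neg g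

/-- A matrix commuting with every member up to a sign is a multiple of a member. -/
theorem exists_elt (h2 : (2 : F) ≠ 0) {g : GL (Bits k) F}
    (hg : ∀ x ∈ R0 k F, g * x = x * g ∨ g * x = -(x * g)) :
    ∃ (a b : Bits k) (c : F), (g : Matrix (Bits k) (Bits k) F) = c • ((elt a b 0 : GL (Bits k) F) : Matrix (Bits k) (Bits k) F) := by
  classical
  let b : Bits k := fun i => if g * elt (Pi.single i 1) 0 0 = elt (Pi.single i 1) 0 0 * g then 0 else 1
  let a : Bits k := fun i => if g * elt 0 (Pi.single i 1) 0 = elt 0 (Pi.single i 1) 0 * g then 0 else 1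
  have key : ∀ (u y : GL (Bits k) F), u * y = y * u → ∀ z : ZMod 2,
      (z = 0 → g * y = y * g) → (z = 0 → u * y = y * u) → (g * u⁻¹) * y = y * (g * u⁻¹) ∨ z = 1 := by
    intro u y huy z hgy _
    rcases C6Gen.zmod2 z with rfl | rfl
    · left
      rw [mul_assoc, show u⁻¹ * y = y * u⁻¹ by rw [eq_mul_inv_iff_mul_eq, mul_assoc, ← huy,
        inv_mul_cancel_left], ← mul_assoc, hgy rfl, mul_assoc]
    · exact Or.inr rfl
  obtain ⟨u, hu⟩ : ∃ u : GL (Bits k) F, u = elt a b 0 := ⟨_, rfl⟩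
  have hgen : ∀ y ∈ R0 k F, ((g * y = y * g ∧ u * y = y * u) ∨ (g * y = -(y * g) ∧ u * y = -(y * u))) →
      (g * u⁻¹) * y = y * (g * u⁻¹) := by
    intro y _ h
    rcases h with ⟨h1, h3⟩ | ⟨h1, h3⟩
    · exact (key u y h3 0 (fun _ => h1) (fun _ => h3)).resolve_right zero_ne_one
    · have e : u⁻¹ * y = -(y * u⁻¹) := by
        rw [← neg_mul, eq_mul_inv_iff_mul_eq, mul_assoc, show y * u = -(u * y) by rw [h3, neg_neg],
          mul_neg, inv_mul_cancel_left]
      rw [mul_assoc, e, mul_neg, ← mul_assoc, h1, neg_mul, neg_neg, mul_assoc]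
  have hT : ∀ i, (g * u⁻¹) * elt (Pi.single i 1) 0 0 = elt (Pi.single i 1) 0 0 * (g * u⁻¹) := fun i => by
    refine hgen _ (elt_mem _ _ _) ?_
    rcases elt_comm_cases (F := F) a b (Pi.single i 1) 0 0 0 with ⟨hz, h⟩ | ⟨hz, h⟩ <;>
      simp only [dotProduct_single, mul_one, zero_dotProduct, add_zero] at hz <;>
      rw [← hu] at h
    · refine Or.inl ⟨?_, h⟩
      by_contra hne; simp [b, hne] at hz
    · refine Or.inr ⟨(hg _ (elt_mem _ _ _)).resolve_left fun he => ?_, h⟩
      simp [b, he] at hz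
  have hS : ∀ i, (g * u⁻¹) * elt 0 (Pi.single i 1) 0 = elt 0 (Pi.single i 1) 0 * (g * u⁻¹) := fun i => by
    refine hgen _ (elt_mem _ _ _) ?_
    rcases elt_comm_cases (F := F) a b 0 (Pi.single i 1) 0 0 with ⟨hz, h⟩ | ⟨hz, h⟩ <;>
      simp only [single_dotProduct, one_mul, dotProduct_zero, zero_add] at hz <;>
      rw [← hu] at h
    · refine Or.inl ⟨?_, h⟩
      by_contra hne; simp [a, hne] at hz
    · refine Or.inr ⟨(hg _ (elt_mem _ _ _)).resolve_left fun he => ?_, h⟩
      simp [a, he] at hz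
  obtain ⟨c, hc⟩ := scalar_of_commute h2 (M := ((g * u⁻¹ : GL (Bits k) F) : Matrix (Bits k) (Bits k) F))
    fun y hy => commute_all (fun i => by rw [← Units.val_mul, hT, Units.val_mul])
      (fun i => by rw [← Units.val_mul, hS, Units.val_mul]) hy
  refine ⟨a, b, c, ?_⟩
  rw [← hu]
  calc (g : Matrix (Bits k) (Bits k) F) = ((g * u⁻¹ * u : GL (Bits k) F) : Matrix (Bits k) (Bits k) F) := by
        rw [inv_mul_cancel_right]
    _ = _ := by rw [Units.val_mul, hc, Matrix.smul_mul, one_mul]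

theorem exists_elt_orth (h2 : (2 : F) ≠ 0) {g : GL (Bits k) F} (hg : g ∈ orth (Bits k) F)
    (hc : ∀ x ∈ R0 k F, g * x = x * g ∨ g * x = -(x * g)) : g ∈ R0 k F := by
  obtain ⟨a, b, c, h⟩ := exists_elt h2 hc
  have hu : (elt a b 0 : GL (Bits k) F)⁻¹ ∈ orth (Bits k) F := R0_le_orth (inv_mem (elt_mem a b 0))
  have hval : (((g * (elt a b 0)⁻¹ : GL (Bits k) F)) : Matrix (Bits k) (Bits k) F) = c • 1 := by
    rw [Units.val_mul, h, Matrix.smul_mul, ← Units.val_mul, mul_inv_cancel, Units.val_one]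
  rcases scalar_pm h2 (mul_mem hg hu) hval with e | e
  · rw [mul_inv_eq_one] at e; exact e ▸ elt_mem a b 0
  · rw [mul_inv_eq_iff_eq_mul, neg_mul, one_mul] at e
    rw [e, elt_neg]; exact elt_mem _ _ _

/-! ## Linear maps as permutations -/

/-- A linear map as a signed permutation. -/
def lin (L : Bits k ≃+ Bits k) : GL (Bits k) F := mg L.toEquiv 0

theorem lin_conj (L : Bits k ≃+ Bits k) (a b : Bits k) (e : ZMod 2) :
    lin L * elt a b e * (lin L : GL (Bits k) F)⁻¹ =
      elt (L a) (fun i => b ⬝ᵥ L.symm (Pi.single i 1)) e := by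
  rw [lin, elt, mg_conj_perm, elt]
  congr 1
  · ext x
    simp [map_add]
  · funext y
    have hy : L.symm y = ∑ i, y i • L.symm (Pi.single i 1) := by
      conv_lhs => rw [← Finset.univ_sum_single y]
      rw [map_sum]
      refine Finset.sum_congr rfl fun i _ => ?_
      rcases C6Gen.zmod2 (y i) with h | h <;> simp [h]
    show b ⬝ᵥ L.symm y + e = _
    rw [hy, dotProduct_sum]
    simp only [dotProduct_smul, smul_eq_mul]
    congr 1
    exact Finset.sum_congr rfl fun i _ => mul_comm _ _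

theorem lin_normal [Finite F] (h2 : (2 : F) ≠ 0) (L : Bits k ≃+ Bits k) :
    (lin L : GL (Bits k) F) ∈ Cfsg.Geo.subgroupNormalizer (R0 k F) := by
  have hfin := (R0_sys (F := F) (k := k) h2).finiteR
  let f : R0 k F → R0 k F := fun x => ⟨(lin L : GL (Bits k) F) * (x : GL (Bits k) F) * (lin L)⁻¹, by
    obtain ⟨a, b, e, h⟩ := x.2
    rw [h, lin_conj]; exact elt_mem _ _ _⟩
  have hs : Function.Surjective f := Finite.injective_iff_surjective.1 fun x y hxy =>
    Subtype.ext (mul_left_cancel (mul_right_cancel (congrArg Subtype.val hxy)))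
  refine Subgroup.mem_normalizer_iff.mpr fun x => ⟨fun hx => (f ⟨x, hx⟩).2, fun hx => ?_⟩
  obtain ⟨⟨y, hy⟩, hy'⟩ := hs ⟨_, hx⟩
  rw [← mul_left_cancel (mul_right_cancel (congrArg Subtype.val hy'))]
  exact hy

/-- A transvection of `𝔽₂^k`. -/
def tv (f w : Bits k) (h : f ⬝ᵥ w = 0) : Bits k ≃+ Bits k where
  toFun x := x + (f ⬝ᵥ x) • w
  invFun x := x + (f ⬝ᵥ x) • w
  left_inv x := by simp [dotProduct_add, h, add_assoc, bits_add_self]
  right_inv x := by simp [dotProduct_add, h, add_assoc, bits_add_self]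
  map_add' x y := by simp [dotProduct_add, add_smul]; abel

theorem tv_apply (f w : Bits k) (h : f ⬝ᵥ w = 0) (x : Bits k) : tv f w h x = x + (f ⬝ᵥ x) • w := rfl

theorem tv_symm_apply (f w : Bits k) (h : f ⬝ᵥ w = 0) (x : Bits k) :
    (tv f w h).symm x = x + (f ⬝ᵥ x) • w := rfl

theorem lin_mul (L M : Bits k ≃+ Bits k) : lin L * lin M = (lin (M.trans L) : GL (Bits k) F) := by
  rw [lin, lin, mg_mul, lin]
  congr 1

theorem lin_inv (L : Bits k ≃+ Bits k) : (lin L : GL (Bits k) F)⁻¹ = lin L.symm := by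
  rw [lin, mg_inv, lin]
  congr 1

theorem exists_dot {u : Bits k} (hu : u ≠ 0) : ∃ f : Bits k, f ⬝ᵥ u = 1 := by
  obtain ⟨i, hi⟩ := Function.ne_iff.1 hu
  refine ⟨Pi.single i 1, ?_⟩
  simpa using (C6Gen.zmod2 (u i)).resolve_left hi

/-- A functional with prescribed values on two independent vectors. -/
theorem exists_dot_two {u v : Bits k} (hu : u ≠ 0) (hv : v ≠ 0) (huv : v ≠ u) (s t : ZMod 2) :
    ∃ f : Bits k, f ⬝ᵥ u = s ∧ f ⬝ᵥ v = t := by
  have h10 : ∀ {u v : Bits k}, u ≠ 0 → v ≠ u → ∃ f : Bits k, f ⬝ᵥ u = 1 ∧ f ⬝ᵥ v = 0 := by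
    intro u v hu huv
    obtain ⟨i, hi⟩ := Function.ne_iff.1 hu
    have hi1 : u i = 1 := (C6Gen.zmod2 (u i)).resolve_left hi
    rcases C6Gen.zmod2 (v i) with h | h
    · exact ⟨Pi.single i 1, by simp [hi1], by simp [h]⟩
    · obtain ⟨l, hl⟩ := Function.ne_iff.1 huv
      rcases C6Gen.zmod2 (v l) with hl' | hl'
      · have hul : u l = 1 := (C6Gen.zmod2 (u l)).resolve_left fun e => hl (by rw [hl', e])
        exact ⟨Pi.single l 1, by simp [hul], by simp [hl']⟩
      · have hul : u l = 0 := (C6Gen.zmod2 (u l)).resolve_right fun e => hl (by rw [hl', e])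
        exact ⟨Pi.single i 1 + Pi.single l 1, by simp [add_dotProduct, hi1, hul],
          by simp [add_dotProduct, h, hl']; rfl⟩
  obtain ⟨f, hf1, hf0⟩ := h10 hu huv
  obtain ⟨g, hg1, hg0⟩ := h10 hv huv.symm
  exact ⟨s • f + t • g, by simp [add_dotProduct, hf1, hg0], by simp [add_dotProduct, hf0, hg1]⟩

/-- Transvections are commutators. -/
theorem tv_omg (hk : 3 ≤ k) (f w : Bits k) (h : f ⬝ᵥ w = 0) : (lin (tv f w h) : GL (Bits k) F) ∈ omg (Bits k) F := by
  rcases eq_or_ne w 0 with rfl | hw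
  · have e : tv f (0 : Bits k) h = AddEquiv.refl _ := AddEquiv.ext fun x => by simp [tv_apply]
    rw [e, show (lin (AddEquiv.refl (Bits k)) : GL (Bits k) F) = 1 from mg_one]
    exact one_mem _
  obtain ⟨w', hw'0, hw'w, hfw'⟩ : ∃ w' : Bits k, w' ≠ 0 ∧ w' ≠ w ∧ f ⬝ᵥ w' = 0 := by
    by_contra hno
    push Not at hno
    have hsub : ∀ x : Bits k, f ⬝ᵥ x = 0 → x ∈ ({0, w} : Finset (Bits k)) := fun x hx => by
      by_contra hx'
      simp only [Finset.mem_insert, Finset.mem_singleton, not_or] at hx'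
      exact hno x hx'.1 hx'.2 hx
    have hcard : Fintype.card (Bits k) ≤ 4 := by
      obtain ⟨u0, hu0⟩ : ∃ u0 : Bits k, ∀ x, f ⬝ᵥ x = 0 ∨ f ⬝ᵥ (x + u0) = 0 := by
        by_cases hall : ∀ x, f ⬝ᵥ x = 0
        · exact ⟨0, fun x => Or.inl (hall x)⟩
        push Not at hall
        obtain ⟨u0, hu0⟩ := hall
        refine ⟨u0, fun x => ?_⟩
        rcases C6Gen.zmod2 (f ⬝ᵥ x) with e | e
        · exact Or.inl e
        · right; rw [dotProduct_add, e, (C6Gen.zmod2 _).resolve_left hu0]; rfl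
      have hs : (Finset.univ : Finset (Bits k)) ⊆ {0, w, u0, w + u0} := fun x _ => by
        rcases hu0 x with e | e
        · have := hsub _ e
          simp only [Finset.mem_insert, Finset.mem_singleton] at this ⊢
          rcases this with h1 | h1 <;> simp [h1]
        · have := hsub _ e
          simp only [Finset.mem_insert, Finset.mem_singleton] at this ⊢
          have hx : x = x + u0 + u0 := by rw [add_assoc, bits_add_self, add_zero]
          rcases this with h1 | h1 <;> rw [h1] at hx <;> simp [hx]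
      exact (Finset.card_le_card hs).trans Finset.card_le_four
    rw [card_bits] at hcard
    have := Nat.pow_le_pow_right (show 1 ≤ 2 by norm_num) hk
    omega
  obtain ⟨f', hf'w, hf'w'⟩ := exists_dot_two hw hw'0 hw'w 0 1
  have key : lin (tv f' w hf'w) * lin (tv f w' hfw') * (lin (tv f' w hf'w) : GL (Bits k) F)⁻¹ *
      (lin (tv f w' hfw'))⁻¹ = lin (tv f w h) := by
    rw [lin_inv, lin_inv, lin_mul, lin_mul, lin_mul]
    congr 1
    ext1 x
    show tv f' w hf'w (tv f w' hfw' (tv f' w hf'w (tv f w' hfw' x))) = tv f w h x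
    simp only [tv_apply, dotProduct_add, dotProduct_smul, smul_eq_mul, h, hfw', hf'w, hf'w', mul_zero,
      mul_one, add_zero]
    funext i
    simp only [Pi.add_apply, Pi.smul_apply, smul_eq_mul]
    generalize x i = p1, w i = p2, w' i = p3, f ⬝ᵥ x = p4, f' ⬝ᵥ x = p5
    revert p1 p2 p3 p4 p5
    decide
  rw [← key]
  exact comm_mem_omg (mg_mem_orth _ _) (mg_mem_orth _ _)

/-- The standard group lies in the derived group. -/
theorem R0_le_omg (hk : 2 ≤ k) : R0 k F ≤ omg (Bits k) F := by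
  have hT : ∀ a : Bits k, (elt a 0 0 : GL (Bits k) F) ∈ omg (Bits k) F := fun a => by
    rcases eq_or_ne a 0 with rfl | ha
    · rw [elt_zero]; exact one_mem _
    obtain ⟨v, hv0, hva⟩ : ∃ v : Bits k, v ≠ 0 ∧ v ≠ a := by
      by_contra hno
      push Not at hno
      have hs : (Finset.univ : Finset (Bits k)) ⊆ {0, a} := fun x _ => by
        simp only [Finset.mem_insert, Finset.mem_singleton]
        exact (em (x = 0)).imp id (hno x)
      have hcard := (Finset.card_le_card hs).trans Finset.card_le_two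
      rw [Finset.card_univ, card_bits] at hcard
      have := Nat.pow_le_pow_right (show 1 ≤ 2 by norm_num) hk
      omega
    obtain ⟨f, hfa, hfv⟩ := exists_dot_two ha hv0 hva 0 1
    have h := comm_mem_omg (F := F) (g := lin (tv f a hfa)) (h := elt v 0 0) (mg_mem_orth _ _) (mg_mem_orth _ _)
    rw [lin_conj, elt_inv, elt_mul, tv_apply, hfv, one_smul] at h
    simpa [show v + a + v = a by rw [add_comm v a, add_assoc, bits_add_self, add_zero],
      show (fun i : Fin k => (0 : ZMod 2)) = 0 from rfl] using h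
  have hS : ∀ b : Bits k, (elt 0 b 0 : GL (Bits k) F) ∈ omg (Bits k) F := fun b => by
    rcases eq_or_ne b 0 with rfl | hb
    · rw [elt_zero]; exact one_mem _
    obtain ⟨d, hd0, hdb⟩ : ∃ d : Bits k, d ≠ 0 ∧ d ≠ b := by
      by_contra hno
      push Not at hno
      have hs : (Finset.univ : Finset (Bits k)) ⊆ {0, b} := fun x _ => by
        simp only [Finset.mem_insert, Finset.mem_singleton]
        exact (em (x = 0)).imp id (hno x)
      have hcard := (Finset.card_le_card hs).trans Finset.card_le_two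
      rw [Finset.card_univ, card_bits] at hcard
      have := Nat.pow_le_pow_right (show 1 ≤ 2 by norm_num) hk
      omega
    obtain ⟨w, hbw, hdw⟩ := exists_dot_two hb hd0 hdb 0 1
    rw [dotProduct_comm] at hbw hdw
    have h := comm_mem_omg (F := F) (g := lin (tv b w hbw)) (h := elt 0 d 0) (mg_mem_orth _ _) (mg_mem_orth _ _)
    rw [lin_conj, elt_inv, elt_mul, map_zero] at h
    have e : (fun i => d ⬝ᵥ (tv b w hbw).symm (Pi.single i 1)) + d = b := by
      funext i
      rw [Pi.add_apply, tv_symm_apply]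
      simp only [dotProduct_add, dotProduct_smul, dotProduct_single, mul_one, hdw, smul_eq_mul]
      linear_combination CharTwo.add_self_eq_zero (d i)
    rw [e] at h
    simpa using h
  have hneg : (elt 0 0 1 : GL (Bits k) F) ∈ omg (Bits k) F := by
    obtain ⟨i⟩ : Nonempty (Fin k) := ⟨⟨0, by omega⟩⟩
    have h := comm_mem_omg (F := F) (g := elt (Pi.single i 1) 0 0) (h := elt 0 (Pi.single i 1) 0)
      (mg_mem_orth _ _) (mg_mem_orth _ _)
    rw [elt_inv, elt_inv, elt_mul, elt_mul, elt_mul] at h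
    simpa [bits_add_self] using h
  rintro _ ⟨a, b, e, rfl⟩
  rw [elt_split]
  refine mul_mem (mul_mem (hT a) (hS b)) ?_
  rcases C6Gen.zmod2 e with rfl | rfl
  · rw [elt_zero]; exact one_mem _
  · exact hneg

end Cfsg.Agent.C6Orth
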