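import Cfsg.Agent.Lib.Orth.Frame.Group
/-!
# Signed permutation matrices as isometries of the sum of squares

* `orth ι F`, `omg ι F` : the isometry group of `∑ xᵢ²` and its derived group, in `GL ι F`
* `sc` : the sign of an element of `ZMod 2`
* `mg π s` : `e_y ↦ (-1)^{s y} e_{π y}`
-/

set_option autoImplicit false
set_option linter.unusedSectionVars false

namespace Cfsg.Agent.C6Orth

open Matrix
open Cfsg.Agent.Orth Cfsg.Agent.Orth.Frame

variable {ι : Type} [Fintype ι] [DecidableEq ι] {F : Type*} [Field F]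

/-- The isometry group of the sum of squares. -/
noncomputable abbrev orth (ι : Type) [Fintype ι] [DecidableEq ι] (F : Type*) [Field F] : Subgroup (GL ι F) :=
  Cfsg.isometryGroup F ⇑(Frame.sq (ι := ι) (F := F))

/-- Its derived group. -/
noncomputable abbrev omg (ι : Type) [Fintype ι] [DecidableEq ι] (F : Type*) [Field F] : Subgroup (GL ι F) :=
  Cfsg.Geo.omegaGL ⇑(Frame.sq (ι := ι) (F := F))

theorem orth_of_forall {g : GL ι F}
    (h : ∀ x, ((g : Matrix ι ι F) *ᵥ x) ⬝ᵥ ((g : Matrix ι ι F) *ᵥ x) = x ⬝ᵥ x) : g ∈ orth ι F := fun u _ => by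
  show Frame.sq ((g : Matrix ι ι F) *ᵥ u) = Frame.sq u
  rw [Frame.sq_apply, Frame.sq_apply, h]

theorem orth_of_transpose {g : GL ι F} (h : (g : Matrix ι ι F)ᵀ * (g : Matrix ι ι F) = 1) : g ∈ orth ι F :=
  orth_of_forall fun x => by
    rw [dotProduct_mulVec, ← Matrix.mulVec_transpose, Matrix.mulVec_mulVec, h, Matrix.one_mulVec]

theorem transpose_of_orth (h2 : (2 : F) ≠ 0) {g : GL ι F} (hg : g ∈ orth ι F) :
    (g : Matrix ι ι F)ᵀ * (g : Matrix ι ι F) = 1 := by
  ext i j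
  have h := dot_ap h2 (⟨g, hg⟩ : IsoGrp (Frame.sq (ι := ι) (F := F))) (unitVec i) (unitVec j)
  rw [ap_apply, ap_apply, dot_unitVec] at h
  simp only [unitVec, Matrix.mulVec_single_one] at h
  rw [Matrix.mul_apply, Matrix.one_apply]
  simp only [dotProduct, Matrix.col_apply] at h
  simp only [Matrix.transpose_apply]
  rw [h, Pi.single_apply]
  exact if_congr eq_comm rfl rfl

theorem neg_mem_orth {g : GL ι F} (hg : g ∈ orth ι F) : -g ∈ orth ι F := orth_of_forall fun x => by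
  rw [Units.val_neg, Matrix.neg_mulVec, neg_dotProduct_neg, ← Frame.sq_apply, ← Frame.sq_apply]
  exact hg x x

theorem omg_le : omg ι F ≤ orth ι F := Subgroup.map_subtype_le _

theorem comm_mem_omg {g h : GL ι F} (hg : g ∈ orth ι F) (hh : h ∈ orth ι F) :
    g * h * g⁻¹ * h⁻¹ ∈ omg ι F := by
  obtain ⟨G, rfl⟩ : ∃ G : orth ι F, (G : GL ι F) = g := ⟨⟨g, hg⟩, rfl⟩
  obtain ⟨H, rfl⟩ : ∃ H : orth ι F, (H : GL ι F) = h := ⟨⟨h, hh⟩, rfl⟩
  rw [← Subgroup.coe_inv, ← Subgroup.coe_inv, ← Subgroup.coe_mul, ← Subgroup.coe_mul, ← Subgroup.coe_mul]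
  refine Subgroup.mem_map.2 ⟨G * H * G⁻¹ * H⁻¹, ?_, rfl⟩
  exact Subgroup.commutator_mem_commutator (Subgroup.mem_top G) (Subgroup.mem_top H)

theorem conj_mem_omg {g x : GL ι F} (hg : g ∈ orth ι F) (hx : x ∈ omg ι F) : g * x * g⁻¹ ∈ omg ι F := by
  obtain ⟨G, rfl⟩ : ∃ G : orth ι F, (G : GL ι F) = g := ⟨⟨g, hg⟩, rfl⟩
  obtain ⟨y, hy, rfl⟩ := Subgroup.mem_map.1 hx
  refine Subgroup.mem_map.2 ⟨G * y * G⁻¹, ?_, rfl⟩
  exact Subgroup.Normal.conj_mem inferInstance y hy G

theorem sq_mem_omg [Fintype F] (h2 : (2 : F) ≠ 0) {g : GL ι F} (hg : g ∈ orth ι F) : g * g ∈ omg ι F :=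
  mem_omegaGL_iff.2 ⟨⟨g, hg⟩ * ⟨g, hg⟩, sq_mem_omega h2 _, rfl⟩

/-- The isometries are closed under homomorphisms mapping isometries to isometries. -/
theorem map_omg {κ : Type} [Fintype κ] [DecidableEq κ] (f : GL ι F →* GL κ F)
    (hf : ∀ g ∈ orth ι F, f g ∈ orth κ F) {x : GL ι F} (hx : x ∈ omg ι F) : f x ∈ omg κ F := by
  obtain ⟨y, hy, rfl⟩ := mem_omegaGL_iff.1 hx
  let f' : orth ι F →* orth κ F := (f.comp (orth ι F).subtype).codRestrict _ fun g => hf g g.2
  refine mem_omegaGL_iff.2 ⟨f' y, ?_, rfl⟩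
  have h := Subgroup.mem_map_of_mem f' hy
  have hle : (commutator (orth ι F)).map f' ≤ commutator (orth κ F) := by
    rw [map_commutator_eq]; exact Subgroup.commutator_mono le_top le_top
  exact hle h

/-! ## Signs -/

/-- The sign. -/
def sc (z : ZMod 2) : F := if z = 0 then 1 else -1

@[simp] theorem sc_zero : sc (0 : ZMod 2) = (1 : F) := if_pos rfl

@[simp] theorem sc_one : sc (1 : ZMod 2) = (-1 : F) := if_neg one_ne_zero

theorem sc_add : ∀ z w : ZMod 2, (sc (z + w) : F) = sc z * sc w := by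
  intro z w
  rcases (show z = 0 ∨ z = 1 by revert z; decide) with rfl | rfl <;>
  rcases (show w = 0 ∨ w = 1 by revert w; decide) with rfl | rfl <;>
  simp [show (1 : ZMod 2) + 1 = 0 from rfl]

theorem sc_sq (z : ZMod 2) : (sc z : F) * sc z = 1 := by
  rw [← sc_add, CharTwo.add_self_eq_zero, sc_zero]

theorem sc_inj (h2 : (2 : F) ≠ 0) {z w : ZMod 2} (h : (sc z : F) = sc w) : z = w := by
  have h1 : (1 : F) ≠ -1 := fun e => h2 (by linear_combination e)
  revert h
  rcases (show z = 0 ∨ z = 1 by revert z; decide) with rfl | rfl <;>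
  rcases (show w = 0 ∨ w = 1 by revert w; decide) with rfl | rfl <;>
  simp [h1, Ne.symm h1]

theorem sc_ne_zero (z : ZMod 2) : (sc z : F) ≠ 0 := fun h => by
  have := sc_sq (F := F) z
  rw [h, zero_mul] at this
  exact zero_ne_one this

/-! ## Signed permutations -/

/-- The matrix of a signed permutation. -/
def mgMat (π : Equiv.Perm ι) (s : ι → ZMod 2) : Matrix ι ι F :=
  Matrix.of fun x y => if x = π y then sc (s y) else 0

theorem mgMat_mulVec (π : Equiv.Perm ι) (s : ι → ZMod 2) (v : ι → F) (y : ι) :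
    (mgMat π s *ᵥ v) (π y) = sc (s y) * v y := by
  simp [mgMat, Matrix.mulVec, dotProduct, π.injective.eq_iff]

theorem mgMat_mul (π τ : Equiv.Perm ι) (s t : ι → ZMod 2) :
    mgMat π s * mgMat τ t = (mgMat (π * τ) (fun y => t y + s (τ y)) : Matrix ι ι F) := by
  ext x y
  rw [Matrix.mul_apply, Finset.sum_eq_single (τ y)]
  · simp only [mgMat, Matrix.of_apply, Equiv.Perm.mul_apply, if_true]
    split_ifs <;> simp_all [sc_add, mul_comm]
  · intro b _ hb; simp [mgMat, hb]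
  · simp

theorem mgMat_one : mgMat (1 : Equiv.Perm ι) 0 = (1 : Matrix ι ι F) := by
  ext x y
  simp [mgMat, Matrix.one_apply]

/-- The signed permutation. -/
def mg (π : Equiv.Perm ι) (s : ι → ZMod 2) : GL ι F where
  val := mgMat π s
  inv := mgMat π⁻¹ fun y => s (π⁻¹ y)
  val_inv := by
    rw [mgMat_mul, mul_inv_cancel, ← mgMat_one]
    congr 1; funext y; exact CharTwo.add_self_eq_zero _
  inv_val := by
    rw [mgMat_mul, inv_mul_cancel, ← mgMat_one]
    congr 1; funext y; simp [CharTwo.add_self_eq_zero]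

theorem mg_val (π : Equiv.Perm ι) (s : ι → ZMod 2) : ((mg π s : GL ι F) : Matrix ι ι F) = mgMat π s := rfl

theorem mg_apply (π : Equiv.Perm ι) (s : ι → ZMod 2) (x y : ι) :
    ((mg π s : GL ι F) : Matrix ι ι F) x y = if x = π y then sc (s y) else 0 := rfl

theorem mg_mulVec (π : Equiv.Perm ι) (s : ι → ZMod 2) (v : ι → F) (y : ι) :
    (((mg π s : GL ι F) : Matrix ι ι F) *ᵥ v) (π y) = sc (s y) * v y := mgMat_mulVec π s v y

theorem mg_mul (π τ : Equiv.Perm ι) (s t : ι → ZMod 2) :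
    mg π s * mg τ t = (mg (π * τ) (fun y => t y + s (τ y)) : GL ι F) := Units.ext (mgMat_mul π τ s t)

theorem mg_one : mg (1 : Equiv.Perm ι) 0 = (1 : GL ι F) := Units.ext mgMat_one

theorem mg_inv (π : Equiv.Perm ι) (s : ι → ZMod 2) :
    (mg π s : GL ι F)⁻¹ = mg π⁻¹ (fun y => s (π⁻¹ y)) := Units.ext rfl

theorem mg_inj (h2 : (2 : F) ≠ 0) {π τ : Equiv.Perm ι} {s t : ι → ZMod 2}
    (h : (mg π s : GL ι F) = mg τ t) : π = τ ∧ s = t := by
  have hm : ∀ y, π y = τ y ∧ s y = t y := fun y => by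
    have e : ((mg π s : GL ι F) : Matrix ι ι F) (π y) y = ((mg τ t : GL ι F) : Matrix ι ι F) (π y) y := by rw [h]
    rw [mg_apply, mg_apply, if_pos rfl] at e
    split_ifs at e with hh
    · exact ⟨hh, sc_inj h2 e⟩
    · exact absurd e (sc_ne_zero _)
  exact ⟨Equiv.ext fun y => (hm y).1, funext fun y => (hm y).2⟩

theorem mg_neg (π : Equiv.Perm ι) (s : ι → ZMod 2) : -(mg π s : GL ι F) = mg π (fun y => s y + 1) := by
  refine Units.ext (Matrix.ext fun x y => ?_)
  rw [Units.val_neg, Matrix.neg_apply, mg_apply, mg_apply]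
  split_ifs <;> simp [sc_add]

theorem neg_one_eq_mg : (-1 : GL ι F) = mg 1 (fun _ => 1) := by
  rw [← mg_one, mg_neg]; simp

theorem mg_mem_orth (π : Equiv.Perm ι) (s : ι → ZMod 2) : (mg π s : GL ι F) ∈ orth ι F :=
  orth_of_forall fun v => by
    simp only [dotProduct]
    rw [← Equiv.sum_comp π]
    refine Finset.sum_congr rfl fun y _ => ?_
    rw [mg_mulVec, mul_mul_mul_comm, sc_sq, one_mul]

theorem mg_conj_perm (π τ : Equiv.Perm ι) (t : ι → ZMod 2) :
    mg π 0 * mg τ t * (mg π 0 : GL ι F)⁻¹ = mg (π * τ * π⁻¹) (fun y => t (π⁻¹ y)) := by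
  rw [mg_inv, mg_mul, mg_mul]
  congr 1; funext y; simp

/-- Conjugation by a permutation moves the entries. -/
theorem conj_perm_apply (π : Equiv.Perm ι) (g : GL ι F) (x y : ι) :
    ((mg π 0 * g * (mg π 0)⁻¹ : GL ι F) : Matrix ι ι F) (π x) (π y) = (g : Matrix ι ι F) x y := by
  rw [Units.val_mul, Units.val_mul, mg_inv, Matrix.mul_apply,
    Finset.sum_eq_single y (fun b _ hb => by
      rw [mg_apply, if_neg (by simpa using hb), mul_zero]) (by simp),
    mg_apply, if_pos (by simp), Matrix.mul_apply,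
    Finset.sum_eq_single x (fun b _ hb => by
      rw [mg_apply, if_neg (fun e => hb (π.injective e).symm), zero_mul]) (by simp),
    mg_apply, if_pos rfl]
  simp

end Cfsg.Agent.C6Orth
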