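import Cfsg.Agent.Lib.C6Orth.Model
import Cfsg.Agent.Lib.C6Gen.Main
import Cfsg.Agent.EqLemmas
/-!
# A member spreads to the whole standard group

* `R0_induction`  : generators
* `pair_orth`     : products of two transvections are isometries
* `le_of_member`  : a group normalised by the normaliser containing a noncentral member contains all
-/

set_option autoImplicit false
set_option linter.unusedSectionVars false

namespace Cfsg.Agent.C6Orth

open Matrix
open Cfsg.Agent.C6Gen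

variable {k : ℕ} {F : Type*} [Field F]

theorem R0_induction {P : GL (Bits k) F → Prop} (h1 : P 1) (hneg : P (-1))
    (hmul : ∀ x ∈ R0 k F, ∀ y ∈ R0 k F, P x → P y → P (x * y))
    (hT : ∀ i, P (elt (Pi.single i 1) 0 0)) (hS : ∀ i, P (elt 0 (Pi.single i 1) 0))
    {g : GL (Bits k) F} (hg : g ∈ R0 k F) : P g := by
  obtain ⟨a, b, e, rfl⟩ := hg
  have key : ∀ (f : Bits k → GL (Bits k) F), (∀ x, f x ∈ R0 k F) → f 0 = 1 → (∀ x y, f (x + y) = f x * f y) →
      (∀ i, P (f (Pi.single i 1))) → ∀ x, P (f x) := by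
    intro f hf h0 hadd h x
    rw [← Finset.univ_sum_single x]
    refine Finset.sum_induction _ (fun z => P (f z))
      (fun u v hu hv => by rw [hadd]; exact hmul _ (hf u) _ (hf v) hu hv) (by rw [h0]; exact h1) fun i _ => ?_
    rcases zmod2 (x i) with e | e <;> rw [e]
    · rw [Pi.single_zero, h0]; exact h1
    · exact h i
  rw [elt_split]
  have hTa := key (fun x => elt x 0 0) (fun x => elt_mem _ _ _) elt_zero (fun x y => by rw [elt_mul]; simp) hT a
  have hSb := key (fun x => elt 0 x 0) (fun x => elt_mem _ _ _) elt_zero (fun x y => by rw [elt_mul]; simp) hS b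
  refine hmul _ (mul_mem (elt_mem _ _ _) (elt_mem _ _ _)) _ (elt_mem _ _ _) (hmul _ (elt_mem _ _ _) _ (elt_mem _ _ _) hTa hSb) ?_
  rcases elt_sign (F := F) (k := k) e with ⟨-, h⟩ | ⟨-, h⟩ <;> rw [h] <;> assumption

theorem transpose_sq_neg {ι : Type} [Fintype ι] [DecidableEq ι] (h2 : (2 : F) ≠ 0) {a : GL ι F}
    (ha : a ∈ orth ι F) (haa : a * a = -1) : (a : Matrix ι ι F)ᵀ = -(a : Matrix ι ι F) := by
  have e : (a : Matrix ι ι F) * a = -1 := by rw [← Units.val_mul, haa, Units.val_neg, Units.val_one]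
  calc (a : Matrix ι ι F)ᵀ = -((a : Matrix ι ι F)ᵀ * ((a : Matrix ι ι F) * a)) := by rw [e]; simp
    _ = _ := by rw [← mul_assoc, transpose_of_orth h2 ha, one_mul]

theorem pair_orth {ι : Type} [Fintype ι] [DecidableEq ι] (h2 : (2 : F) ≠ 0) {a b n : GL ι F}
    (ha : a ∈ orth ι F) (hb : b ∈ orth ι F) (haa : a * a = -1) (hbb : b * b = -1)
    (hn : (n : Matrix ι ι F) = (2 : F)⁻¹ • ((1 + (a : Matrix ι ι F)) * (1 + (b : Matrix ι ι F)))) :
    n ∈ orth ι F := by
  refine orth_of_transpose ?_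
  have hA : ∀ {a : GL ι F}, a * a = -1 → (1 - (a : Matrix ι ι F)) * (1 + (a : Matrix ι ι F)) = (2 : F) • 1 :=
    fun {a} haa => by
      have e : (a : Matrix ι ι F) * a = -1 := by rw [← Units.val_mul, haa, Units.val_neg, Units.val_one]
      simp only [mul_add, sub_mul, one_mul, mul_one, e]; rw [two_smul]; abel
  have ea : (1 + (a : Matrix ι ι F))ᵀ = 1 - (a : Matrix ι ι F) := by
    rw [Matrix.transpose_add, Matrix.transpose_one, transpose_sq_neg h2 ha haa, sub_eq_add_neg]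
  have eb : (1 + (b : Matrix ι ι F))ᵀ = 1 - (b : Matrix ι ι F) := by
    rw [Matrix.transpose_add, Matrix.transpose_one, transpose_sq_neg h2 hb hbb, sub_eq_add_neg]
  rw [hn, Matrix.transpose_smul, Matrix.transpose_mul, ea, eb, Matrix.smul_mul, Matrix.mul_smul, mul_assoc,
    ← mul_assoc (1 - (a : Matrix ι ι F)), hA haa, Matrix.smul_mul, one_mul, Matrix.mul_smul, hA hbb,
    smul_smul, smul_smul, smul_smul,
    show (2 : F)⁻¹ * (2 : F)⁻¹ * 2 * 2 = 1 by field_simp, one_smul]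

theorem sq_neg_elt {a b : Bits k} (e : ZMod 2) (h : b ⬝ᵥ a = 1) :
    (elt a b e : GL (Bits k) F) * elt a b e = -1 := by rw [elt_sq, h, neg_one_elt]

/-- Conjugation by the signs of a product of two linear forms. -/
theorem quad_conj (f g a b : Bits k) (e : ZMod 2) :
    mg 1 (fun x => (f ⬝ᵥ x) * (g ⬝ᵥ x)) * elt a b e * (mg 1 (fun x => (f ⬝ᵥ x) * (g ⬝ᵥ x)) : GL (Bits k) F)⁻¹ =
      elt a (b + ((f ⬝ᵥ a) • g + (g ⬝ᵥ a) • f)) (e + (f ⬝ᵥ a) * (g ⬝ᵥ a)) := by
  rw [elt, mg_inv, mg_mul, mg_mul, elt]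
  congr 1
  funext y
  simp only [inv_one, Equiv.Perm.one_apply, Equiv.coe_addRight, dotProduct_add, add_dotProduct,
    smul_dotProduct, smul_eq_mul]
  linear_combination CharTwo.add_self_eq_zero ((f ⬝ᵥ y) * (g ⬝ᵥ y))

variable [Fintype F]

theorem quad_normal (h2 : (2 : F) ≠ 0) (f g : Bits k) :
    (mg 1 (fun x => (f ⬝ᵥ x) * (g ⬝ᵥ x)) : GL (Bits k) F) ∈ Cfsg.Geo.subgroupNormalizer (R0 k F) := by
  have := (R0_sys (F := F) (k := k) h2).finiteR
  refine mem_normalizer_of fun x hx => ?_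
  obtain ⟨a, b, e, rfl⟩ := hx
  rw [quad_conj]
  exact elt_mem _ _ _

/-- A noncentral member spreads to the whole group. -/
theorem le_of_member (h2 : (2 : F) ≠ 0) (hk : 2 ≤ k) {H : Subgroup (GL (Bits k) F)}
    (hneg : (-1 : GL (Bits k) F) ∈ H)
    (hnorm : ∀ n ∈ Cfsg.Geo.subgroupNormalizer (R0 k F), n ∈ orth (Bits k) F → ∀ h ∈ H, n * h * n⁻¹ ∈ H)
    {c : GL (Bits k) F} (hcR : c ∈ R0 k F) (hcH : c ∈ H) (h1 : c ≠ 1) (hm : c ≠ -1) : R0 k F ≤ H := by
  classical
  have hR := R0_sys (F := F) (k := k) h2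
  have hsign : ∀ z, (elt 0 0 z : GL (Bits k) F) ∈ H := fun z => by
    rcases elt_sign (F := F) (k := k) z with ⟨-, h⟩ | ⟨-, h⟩ <;> rw [h]
    exacts [one_mem _, hneg]
  have hnz : ∀ a b : Bits k, ∀ z, (elt a b z : GL (Bits k) F) ∈ H → (elt a b 0 : GL (Bits k) F) ∈ H := by
    intro a b z h
    have := H.mul_mem h (hsign z)
    rw [elt_mul] at this
    simpa [CharTwo.add_self_eq_zero] using this
  obtain ⟨a, b, e, rfl⟩ := hcR
  -- a sign
  obtain ⟨g, hg0, hgH⟩ : ∃ g : Bits k, g ≠ 0 ∧ (elt 0 g 0 : GL (Bits k) F) ∈ H := by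
    rcases eq_or_ne a 0 with rfl | ha
    · refine ⟨b, fun hb => ?_, hnz _ _ _ hcH⟩
      subst hb
      rcases elt_sign (F := F) (k := k) e with ⟨-, h⟩ | ⟨-, h⟩
      exacts [h1 h, hm h]
    obtain ⟨v, hv0, hva⟩ : ∃ v : Bits k, v ≠ 0 ∧ v ≠ a := by
      by_contra hno
      push Not at hno
      have hs : (Finset.univ : Finset (Bits k)) ⊆ {0, a} := fun x _ => by
        simp only [Finset.mem_insert, Finset.mem_singleton]
        exact (em (x = 0)).imp id (hno x)
      have hcard := (Finset.card_le_card hs).trans Finset.card_le_two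
      rw [Finset.card_univ, card_bits] at hcard
      have := Nat.pow_le_pow_right (show 1 ≤ 2 by norm_num) hk
      omega
    obtain ⟨f, hfa, -⟩ := exists_dot_two ha hv0 hva 1 0
    obtain ⟨g, hga, hgv⟩ := exists_dot_two ha hv0 hva 0 1
    refine ⟨g, fun h => by simp [h] at hgv, ?_⟩
    have h := H.mul_mem (hnorm _ (quad_normal h2 f g) (mg_mem_orth _ _) _ hcH) (H.inv_mem hcH)
    rw [quad_conj, elt_inv, elt_mul, hfa, hga, one_smul, zero_smul, add_zero, mul_zero, add_zero,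
      bits_add_self, show b + g + b = g by rw [add_comm b g, add_assoc, bits_add_self, add_zero]] at h
    exact hnz _ _ _ h
  have hS : ∀ g' : Bits k, (elt 0 g' 0 : GL (Bits k) F) ∈ H := by
    intro g'
    rcases eq_or_ne g' 0 with rfl | hg'
    · exact hsign 0
    rcases eq_or_ne g' g with rfl | hne
    · exact hgH
    obtain ⟨w, hgw, hg'w⟩ := exists_dot_two hg0 hg' hne 1 1
    rw [dotProduct_comm] at hgw hg'w
    have hw : (g + g') ⬝ᵥ w = 0 := by rw [add_dotProduct, hgw, hg'w]; rfl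
    have h := hnorm _ (lin_normal h2 (tv (g + g') w hw)) (mg_mem_orth _ _) _ hgH
    rw [lin_conj, map_zero] at h
    have e' : (fun i => g ⬝ᵥ (tv (g + g') w hw).symm (Pi.single i 1)) = g' := by
      funext i
      rw [tv_symm_apply]
      simp only [dotProduct_add, dotProduct_smul, dotProduct_single, mul_one, hgw, smul_eq_mul, Pi.add_apply]
      linear_combination CharTwo.add_self_eq_zero (g i)
    rwa [e'] at h
  intro x hx
  refine R0_induction (P := fun x => x ∈ H) (one_mem _) hneg (fun x _ y _ => H.mul_mem) (fun i => ?_)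
    (fun i => hS _) hx
  obtain ⟨l, hl⟩ : ∃ l : Fin k, l ≠ i := by
    have : Nontrivial (Fin k) := Fin.nontrivial_iff_two_le.2 hk
    exact exists_ne i
  obtain ⟨u, hu⟩ : ∃ u : GL (Bits k) F, u = elt (Pi.single i 1) (Pi.single i 1) 0 := ⟨_, rfl⟩
  obtain ⟨v, hv⟩ : ∃ v : GL (Bits k) F, v = elt (Pi.single l 1) (Pi.single l 1) 0 := ⟨_, rfl⟩
  have huu : u * u = -1 := hu ▸ sq_neg_elt 0 (by simp)
  have hvv : v * v = -1 := hv ▸ sq_neg_elt 0 (by simp)
  have huR : u ∈ R0 k F := hu ▸ elt_mem _ _ _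
  have hvR : v ∈ R0 k F := hv ▸ elt_mem _ _ _
  obtain ⟨n, hn, hnv, hconj⟩ := hR.exists_pair_normal huR hvR huu hvv
  obtain ⟨s, hs⟩ : ∃ s : GL (Bits k) F, s = elt 0 (Pi.single i 1) 0 := ⟨_, rfl⟩
  have hsv : s * v = v * s := by
    rw [hs, hv]
    rcases elt_comm_cases (F := F) 0 (Pi.single i 1) (Pi.single l 1) (Pi.single l 1) 0 0 with ⟨-, h⟩ | ⟨h, -⟩
    · exact h
    · simp [hl] at h
  have hsu : s * u = -(u * s) := by
    rw [hs, hu]
    rcases elt_comm_cases (F := F) 0 (Pi.single i 1) (Pi.single i 1) (Pi.single i 1) 0 0 with ⟨h, -⟩ | ⟨-, h⟩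
    · simp at h
    · exact h
  have hsR : s ∈ R0 k F := hs ▸ elt_mem _ _ _
  obtain ⟨y, hy, hy'⟩ := hconj s hsR
  have hys : y = s := by
    rcases hy with ⟨e, -⟩ | ⟨-, e⟩
    · exact e
    · rw [hsv] at e; exact absurd e (hR.ne_neg _)
  rw [hys] at hy'
  have hns : n * s * n⁻¹ = u * s := by
    rcases hy' with ⟨-, e⟩ | ⟨e, -⟩
    · rw [hsu] at e; exact absurd e.symm (hR.ne_neg _)
    · exact e
  have h := hnorm n hn (pair_orth h2 (R0_le_orth huR) (R0_le_orth hvR) huu hvv hnv) s (hs ▸ hS _)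
  rw [hns] at h
  have h' := H.mul_mem h (hs ▸ hS (Pi.single i 1) : s ∈ H)
  rw [mul_assoc, hs, elt_sq, dotProduct_zero, elt_zero, mul_one, hu] at h'
  have h'' := H.mul_mem h' (hS (Pi.single i 1))
  rw [elt_mul] at h''
  refine hnz _ _ (0 + 0 + Pi.single i 1 ⬝ᵥ 0) ?_
  simpa [bits_add_self] using h''

end Cfsg.Agent.C6Orth
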